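import Mathlib

/-!
# Doubling the root groups of a simply laced group (helper186; text: helper763, helper333, helper84)

`t` an involution of `G`, `X : L → Subgroup G` the root groups of `K ≤ C_G(t)` (simply laced root system `Φ`),
`W r ≥ X r` abelian subgroups centralising all `X a`, `(a, r) ≥ 0`, on which `t` acts freely.

* `Roots` : the root system; `Pre` : the hypotheses; `Two`, `Big` : the additional hypotheses for `q = 2` resp.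
  `q > 2`; `Dbl` : the conclusion (`[W r, W s] = 1` for `(r, s) ≥ 0`, `[W r, W s] ≤ W (r + s)` for `(r, s) = -1`,
  `W r` elementary abelian).
* the theorem is `Cfsg.Agent.OddHalf.SL.Main.dbl`.
-/

set_option autoImplicit false

namespace Cfsg.Agent.OddHalf.SL.Defs

variable {L : Type*} [AddCommGroup L] {G : Type*} [Group G]

/-- a simply laced root system in an abelian group `L` -/
structure Roots (B : L → L → ℤ) (Φ : Set L) : Prop where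
  fin : Φ.Finite
  symm : ∀ a b, B a b = B b a
  add_left : ∀ a b c, B (a + b) c = B a c + B b c
  two : ∀ a ∈ Φ, B a a = 2
  neg_mem : ∀ a ∈ Φ, -a ∈ Φ
  le : ∀ a ∈ Φ, ∀ b ∈ Φ, B a b ≤ 2
  eq : ∀ a ∈ Φ, ∀ b ∈ Φ, B a b = 2 → a = b
  add : ∀ a ∈ Φ, ∀ b ∈ Φ, B a b = -1 → a + b ∈ Φ

namespace Roots

variable {B : L → L → ℤ} {Φ : Set L}

theorem add_right (h : Roots B Φ) (a b c : L) : B a (b + c) = B a b + B a c := by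
  rw [h.symm, h.add_left, h.symm b, h.symm c]

theorem zero_left (h : Roots B Φ) (a : L) : B 0 a = 0 := by
  have := h.add_left 0 0 a
  rw [add_zero] at this
  omega

theorem neg_left (h : Roots B Φ) (a b : L) : B (-a) b = - B a b := by
  have := h.add_left (-a) a b
  rw [neg_add_cancel, h.zero_left] at this
  omega

theorem neg_right (h : Roots B Φ) (a b : L) : B a (-b) = - B a b := by
  rw [h.symm, h.neg_left, h.symm b]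

theorem sub_left (h : Roots B Φ) (a b c : L) : B (a - b) c = B a c - B b c := by
  rw [sub_eq_add_neg, h.add_left, h.neg_left]; rfl

theorem sub_right (h : Roots B Φ) (a b c : L) : B a (b - c) = B a b - B a c := by
  rw [h.symm, h.sub_left, h.symm b, h.symm c]

theorem ge (h : Roots B Φ) {a b : L} (ha : a ∈ Φ) (hb : b ∈ Φ) : -2 ≤ B a b := by
  have := h.le _ (h.neg_mem a ha) b hb
  rw [h.neg_left] at this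
  omega

theorem eq_neg (h : Roots B Φ) {a b : L} (ha : a ∈ Φ) (hb : b ∈ Φ) (hab : B a b = -2) : a = -b := by
  apply h.eq a ha _ (h.neg_mem b hb)
  rw [h.neg_right, hab]; norm_num

theorem sub_mem (h : Roots B Φ) {a b : L} (ha : a ∈ Φ) (hb : b ∈ Φ) (hab : B a b = 1) : a - b ∈ Φ := by
  rw [sub_eq_add_neg]
  apply h.add a ha _ (h.neg_mem b hb)
  rw [h.neg_right, hab]

end Roots

/-- The hypotheses common to all `q`. -/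
structure Pre (t : G) (B : L → L → ℤ) (Φ : Set L) (X W : L → Subgroup G) : Prop where
  roots : Roots B Φ
  tt : t * t = 1
  tX : ∀ r ∈ Φ, ∀ x ∈ X r, t * x = x * t
  tK : t ∉ ⨆ r ∈ Φ, X r
  Xsq : ∀ r ∈ Φ, ∀ x ∈ X r, x * x = 1
  Xne : ∀ r ∈ Φ, X r ≠ ⊥
  XW : ∀ r ∈ Φ, X r ≤ W r
  Wab : ∀ r ∈ Φ, ∀ v ∈ W r, ∀ w ∈ W r, v * w = w * v
  brk : ∀ r ∈ Φ, ∀ w ∈ W r, w⁻¹ * (t * w * t) ∈ X r
  cent : ∀ r ∈ Φ, ∀ w ∈ W r, t * w = w * t → w ∈ X r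
  surj : ∀ r ∈ Φ, ∀ x ∈ X r, ∃ w ∈ W r, w⁻¹ * (t * w * t) = x
  /-- `W r` centralises `X a` for `(a, r) ≥ 0` -/
  WX : ∀ r ∈ Φ, ∀ a ∈ Φ, 0 ≤ B a r → ∀ w ∈ W r, ∀ x ∈ X a, w * x = x * w
  Xneg : ∀ r ∈ Φ, ∀ s ∈ Φ, B r s = -1 → ∀ x ∈ X r, ∀ y ∈ X s, x * y * x⁻¹ * y⁻¹ ∈ X (r + s)
  Xnd : ∀ r ∈ Φ, ∀ s ∈ Φ, B r s = -1 → ∀ x ∈ X r, ∀ y ∈ X s, x * y = y * x → x = 1 ∨ y = 1
  /-- `g W_s g⁻¹ = h W_r h⁻¹` -/
  tri : ∀ r ∈ Φ, ∀ s ∈ Φ, B r s = 1 → ∀ g ∈ X (r - s), g ≠ 1 → ∃ h ∈ X (s - r),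
    ∀ w, w ∈ W s ↔ h⁻¹ * (g * w * g⁻¹) * h ∈ W r
  /-- `C_{C(t)}(Q_r) ≤ ⟨t⟩ X_r` -/
  K1 : ∀ r ∈ Φ, ∀ c, c * t = t * c → (∀ a ∈ Φ, 1 ≤ B a r → ∀ x ∈ X a, c * x = x * c) →
    c ∈ X r ∨ t * c ∈ X r
  /-- `C_{C(t)}(Y_rs) ≤ ⟨t⟩ X_r X_s` for `(r, s) = 1` -/
  K2 : ∀ r ∈ Φ, ∀ s ∈ Φ, B r s = 1 → ∀ c, c * t = t * c →
    (∀ a ∈ Φ, 0 ≤ B a r → 0 ≤ B a s → ∀ x ∈ X a, c * x = x * c) →
    ∃ x ∈ X r, ∃ y ∈ X s, c = x * y ∨ c = t * (x * y)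
  orth : ∀ r ∈ Φ, ∀ s ∈ Φ, B r s = 0 → ∃ a ∈ Φ, B a r = 1 ∧ B a s = -1

/-- The additional hypotheses for `q = 2`. -/
structure Two (B : L → L → ℤ) (Φ : Set L) (X W : L → Subgroup G) : Prop where
  card : ∀ r ∈ Φ, ∀ x ∈ X r, ∀ y ∈ X r, x ≠ 1 → y ≠ 1 → x = y
  sq : ∀ r ∈ Φ, ∀ w ∈ W r, w * w = 1
  three : ∀ r ∈ Φ, ∀ s ∈ Φ, B r s = 1 → ∃ m ∈ Φ, B m r = 1 ∧ B m s = 1

/-- The additional hypotheses for `q > 2`: elements of the torus. -/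
structure Big (t : G) (B : L → L → ℤ) (Φ : Set L) (X W : L → Subgroup G) : Prop where
  /-- `δ` commutes with `X (r - s)` and acts without fixed points on `X r`, `X s` -/
  del : ∀ r ∈ Φ, ∀ s ∈ Φ, B r s = 1 → ∃ δ : G, δ * t = t * δ ∧ (∀ x ∈ X (r - s), δ * x = x * δ) ∧
    (∀ w ∈ W r, δ * w * δ⁻¹ ∈ W r) ∧ (∀ w ∈ W s, δ * w * δ⁻¹ ∈ W s) ∧
    (∀ x ∈ X r, δ * x = x * δ → x = 1) ∧ (∀ x ∈ X s, δ * x = x * δ → x = 1)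
  /-- `δ` commutes with `X s` and acts without fixed points on `X (r - s)` -/
  eps : ∀ r ∈ Φ, ∀ s ∈ Φ, B r s = 1 → ∃ δ : G, δ * t = t * δ ∧ (∀ x ∈ X s, δ * x = x * δ) ∧
    (∀ w ∈ W r, δ * w * δ⁻¹ ∈ W r) ∧ (∀ w ∈ W s, δ * w * δ⁻¹ ∈ W s) ∧
    (∀ x ∈ X (r - s), δ * x * δ⁻¹ ∈ X (r - s)) ∧ (∀ x ∈ X (r - s), δ * x = x * δ → x = 1)

/-- The conclusion: the doubled root groups. -/
structure Dbl (t : G) (B : L → L → ℤ) (Φ : Set L) (X W : L → Subgroup G) : Prop where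
  tt : t * t = 1
  XW : ∀ r ∈ Φ, X r ≤ W r
  sq : ∀ r ∈ Φ, ∀ w ∈ W r, w * w = 1
  conj_t : ∀ r ∈ Φ, ∀ w ∈ W r, t * w * t ∈ W r
  cent : ∀ r ∈ Φ, ∀ w ∈ W r, t * w = w * t ↔ w ∈ X r
  brk : ∀ r ∈ Φ, ∀ w ∈ W r, w⁻¹ * (t * w * t) ∈ X r
  surj : ∀ r ∈ Φ, ∀ x ∈ X r, ∃ w ∈ W r, w⁻¹ * (t * w * t) = x
  pos : ∀ r ∈ Φ, ∀ s ∈ Φ, 0 ≤ B r s → ∀ v ∈ W r, ∀ w ∈ W s, v * w = w * v
  neg : ∀ r ∈ Φ, ∀ s ∈ Φ, B r s = -1 → ∀ v ∈ W r, ∀ w ∈ W s, v * w * v⁻¹ * w⁻¹ ∈ W (r + s)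

end Cfsg.Agent.OddHalf.SL.Defs
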