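import Cfsg.Agent.Doubling.Growth
import Cfsg.Agent.OddHalf.SL.Defs

/-!
# From doubled root groups to a subgroup of index 2

`Φ` is a finite simply laced root set in an additive group `L` with an integral form `B`, `X r` are root groups centralised
by the involution `t` and `W r` are the doubled root groups (`t` acts freely on `W r`, with fixed points `X r`). If
`[W r, W s] = 1` for `B r s ≥ 0` and `[W r, W s] ≤ W (r + s)` for `B r s = -1`, then the product `U*` of the positive doubled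
root groups is a `t`-free group and (if `⟨t⟩ U` has odd index in `C_G(t)`) there is a homomorphism `G → {±1}` with
`t ↦ -1`.
-/

set_option autoImplicit false

namespace Cfsg.Agent.OddHalf.SL.Bridge

open Cfsg.Agent.Doubling Cfsg.Agent.Doubling.Growth

/-- A finite set with an integer valued height can be enumerated by decreasing height. -/
theorem exists_enum {L : Type*} [Nonempty L] (ht : L → ℤ) (P : Finset L) :
    ∃ l : ℕ → L, (∀ i < P.card, l i ∈ P) ∧ (∀ a ∈ P, ∃ i < P.card, l i = a) ∧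
      (∀ i j, i < P.card → j < P.card → l i = l j → i = j) ∧
      ∀ i j, i ≤ j → j < P.card → ht (l j) ≤ ht (l i) := by
  classical
  obtain ⟨d⟩ := ‹Nonempty L›
  let s : List L := P.toList.mergeSort (fun a b => decide (ht b ≤ ht a))
  have hperm : s.Perm P.toList := List.mergeSort_perm _ _
  have hlen : s.length = P.card := by rw [hperm.length_eq, Finset.length_toList]
  have hnd : s.Nodup := hperm.nodup_iff.2 P.nodup_toList
  have hmem : ∀ a, a ∈ s ↔ a ∈ P := fun a => by rw [hperm.mem_iff, Finset.mem_toList]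
  have hpw : s.Pairwise (fun a b => decide (ht b ≤ ht a) = true) := by
    apply List.pairwise_mergeSort
    · intro a b c h1 h2
      rw [decide_eq_true_eq] at h1 h2 ⊢
      exact h2.trans h1
    · intro a b
      rw [Bool.or_eq_true, decide_eq_true_eq, decide_eq_true_eq]
      exact le_total _ _
  have hget : ∀ (i : ℕ) (hi : i < s.length), s.getD i d = s[i] := fun i hi => List.getD_eq_getElem _ _ hi
  refine ⟨fun i => s.getD i d, fun i hi => ?_, fun a ha => ?_, fun i j hi hj h => ?_, fun i j hij hj => ?_⟩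
  · rw [← hlen] at hi
    show s.getD i d ∈ P
    rw [hget i hi, ← hmem]
    exact List.getElem_mem hi
  · obtain ⟨i, hi, h⟩ := List.getElem_of_mem ((hmem a).2 ha)
    exact ⟨i, hlen ▸ hi, by show s.getD i d = a; rw [hget i hi, h]⟩
  · rw [← hlen] at hi hj
    have h' : s.getD i d = s.getD j d := h
    rw [hget i hi, hget j hj] at h'
    exact (List.Nodup.getElem_inj_iff hnd).1 h'
  · rw [← hlen] at hj
    show ht (s.getD j d) ≤ ht (s.getD i d)
    rcases hij.lt_or_eq with hlt | rfl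
    · rw [hget i (hlt.trans hj), hget j hj]
      have := List.pairwise_iff_getElem.1 hpw i j (hlt.trans hj) hj hlt
      exact of_decide_eq_true this
    · exact le_rfl

variable {G : Type*} [Group G] {L : Type*} [AddCommGroup L]

/-- The group generated by the positive terms. -/
def pos (ht : L →+ ℤ) (Φ : Set L) (X : L → Subgroup G) : Subgroup G := ⨆ a : L, ⨆ _ : a ∈ Φ ∧ 0 < ht a, X a

theorem le_pos {ht : L →+ ℤ} {Φ : Set L} {X : L → Subgroup G} {a : L} (ha : a ∈ Φ) (h0 : 0 < ht a) :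
    X a ≤ pos ht Φ X :=
  le_iSup₂_of_le (f := fun a (_ : a ∈ Φ ∧ 0 < ht a) => X a) a ⟨ha, h0⟩ le_rfl

/-- **Doubled root groups kill `t`.** -/
theorem exists_hom [Finite G] {t : G} {B : L → L → ℤ} {Φ : Set L} {X W : L → Subgroup G} (ht : L →+ ℤ)
    (hfin : Φ.Finite) (hneg : ∀ a ∈ Φ, -a ∈ Φ) (hBneg : ∀ a b, B (-a) b = - B a b)
    (hle : ∀ a ∈ Φ, ∀ b ∈ Φ, B a b ≤ 2) (heq : ∀ a ∈ Φ, ∀ b ∈ Φ, B a b = 2 → a = b)
    (hadd : ∀ a ∈ Φ, ∀ b ∈ Φ, B a b = -1 → a + b ∈ Φ)
    (tt : t * t = 1) (XW : ∀ r ∈ Φ, X r ≤ W r) (sq : ∀ r ∈ Φ, ∀ w ∈ W r, w * w = 1)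
    (conj_t : ∀ r ∈ Φ, ∀ w ∈ W r, t * w * t ∈ W r)
    (cent : ∀ r ∈ Φ, ∀ w ∈ W r, (t * w = w * t ↔ w ∈ X r))
    (surj : ∀ r ∈ Φ, ∀ x ∈ X r, ∃ w ∈ W r, w⁻¹ * (t * w * t) = x)
    (hpos : ∀ r ∈ Φ, ∀ s ∈ Φ, 0 ≤ B r s → ∀ w ∈ W r, ∀ v ∈ W s, w * v = v * w)
    (hcomm : ∀ r ∈ Φ, ∀ s ∈ Φ, B r s = -1 → ∀ w ∈ W r, ∀ v ∈ W s, w * v * w⁻¹ * v⁻¹ ∈ W (r + s))
    (dir : ∀ a ∈ Φ, 0 < ht a → X a ⊓ (⨆ b : L, ⨆ _ : b ∈ Φ ∧ ht a ≤ ht b ∧ b ≠ a, X b) = ⊥)
    (htU : t ∉ pos ht Φ X) (hodd : Odd ((pos ht Φ X ⊔ Subgroup.zpowers t).relIndex (Subgroup.centralizer {t}))) :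
    ∃ m : G →* ℤˣ, m t = -1 := by
  classical
  set P : Finset L := hfin.toFinset.filter (fun a => 0 < ht a) with hP
  have hmemP : ∀ a, a ∈ P ↔ a ∈ Φ ∧ 0 < ht a := fun a => by
    rw [hP, Finset.mem_filter, Set.Finite.mem_toFinset]
  obtain ⟨l, hl1, hl2, hl3, hl4⟩ := exists_enum (fun a => ht a) P
  have hΦ : ∀ i < P.card, l i ∈ Φ := fun i hi => ((hmemP _).1 (hl1 i hi)).1
  have hht : ∀ i < P.card, 0 < ht (l i) := fun i hi => ((hmemP _).1 (hl1 i hi)).2
  have tinv : t⁻¹ = t := inv_eq_of_mul_eq_one_left tt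
  have D : Growth.Dbl t (fun i => W (l i)) (fun i => X (l i)) P.card :=
    { tt := tt
      conj := fun i hi v hv => conj_t _ (hΦ i hi) v hv
      sq := fun i hi v hv => sq _ (hΦ i hi) v hv
      fix := fun i hi v hv h => by
        refine (cent _ (hΦ i hi) v hv).1 ?_
        calc t * v = t * v * (t * t) := by rw [tt, mul_one]
          _ = (t * v * t) * t := by group
          _ = v * t := by rw [h]
      X_le := fun i hi => XW _ (hΦ i hi)
      X_fix := fun i hi v hv => by
        have h := (cent _ (hΦ i hi) v (XW _ (hΦ i hi) hv)).2 hv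
        rw [h, mul_assoc, tt, mul_one]
      free := fun i hi v hv => by
        obtain ⟨w, hw, h⟩ := surj _ (hΦ i hi) v hv
        have hww := sq _ (hΦ i hi) w hw
        have hwi : w⁻¹ = w := inv_eq_of_mul_eq_one_left hww
        have htw := conj_t _ (hΦ i hi) w hw
        have htt2 := sq _ (hΦ i hi) _ htw
        refine ⟨w, hw, ?_⟩
        -- `v = w⁻¹ (t w t)` is an involution, so equals its inverse `(t w t) w⁻¹`
        have hvv := sq _ (hΦ i hi) v (XW _ (hΦ i hi) hv)
        have hvi : v⁻¹ = v := inv_eq_of_mul_eq_one_left hvv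
        have hti : (t * w * t)⁻¹ = t * w * t := inv_eq_of_mul_eq_one_left htt2
        calc v = v⁻¹ := hvi.symm
          _ = (w⁻¹ * (t * w * t))⁻¹ := by rw [h]
          _ = (t * w * t)⁻¹ * w := by group
          _ = (t * w * t) * w := by rw [hti]
          _ = t * w * t * w⁻¹ := by rw [hwi]
      comm := fun i j hij hj v hv w hw => by
        have hi := hij.trans hj
        rcases lt_or_ge (B (l i) (l j)) 0 with hB | hB
        · have hB2 : B (l i) (l j) = -1 := by
            have h1 := hle _ (hneg _ (hΦ i hi)) _ (hΦ j hj)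
            rw [hBneg] at h1
            have h2 : B (l i) (l j) ≠ -2 := by
              intro h3
              have h4 := heq _ (hneg _ (hΦ i hi)) _ (hΦ j hj) (by rw [hBneg, h3]; norm_num)
              have h5 := hht j hj
              rw [← h4, map_neg] at h5
              have h6 := hht i hi
              omega
            omega
          have hmem := hcomm _ (hΦ i hi) _ (hΦ j hj) hB2 v hv w hw
          have hs : l i + l j ∈ P := (hmemP _).2 ⟨hadd _ (hΦ i hi) _ (hΦ j hj) hB2, by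
            rw [map_add]; have := hht i hi; have := hht j hj; omega⟩
          obtain ⟨k, hk, hkl⟩ := hl2 _ hs
          have hki : k < i := by
            by_contra hc
            have h1 : ht (l k) ≤ ht (l i) := hl4 i k (not_lt.1 hc) hk
            rw [hkl, map_add] at h1
            have := hht j hj
            omega
          rw [← hkl] at hmem
          exact le_W (fun i => W (l i)) hki hmem
        · have h := hpos _ (hΦ i hi) _ (hΦ j hj) hB v hv w hw
          have h1 : v * w * v⁻¹ * w⁻¹ = 1 := by rw [h]; group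
          rw [h1]; exact one_mem _
      indep := fun k hk => by
        rw [eq_bot_iff]
        refine le_trans (inf_le_inf_left _ ?_) (dir _ (hΦ k hk) (hht k hk)).le
        refine iSup₂_le fun i hi => ?_
        refine le_iSup₂_of_le (f := fun b (_ : b ∈ Φ ∧ ht (l k) ≤ ht b ∧ b ≠ l k) => X b) (l i) ⟨hΦ i (hi.trans hk), ?_, ?_⟩
          le_rfl
        · exact hl4 i k hi.le hk
        · intro h
          exact absurd (hl3 i k (hi.trans hk) hk h) hi.ne }
  have hU : Growth.W (fun i => X (l i)) P.card = pos ht Φ X := by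
    apply le_antisymm
    · exact iSup₂_le fun i hi => le_pos (hΦ i hi) (hht i hi)
    · refine iSup₂_le fun a ha => ?_
      obtain ⟨i, hi, rfl⟩ := hl2 a ((hmemP a).2 ha)
      exact le_W (fun i => X (l i)) hi
  exact D.exists_hom (by rw [hU]; exact htU) (by rw [hU]; exact hodd)

/-- **The end of the doubling argument**, from the doubled root groups `Defs.Dbl`. -/
theorem of_dbl [Finite G] {t : G} {B : L → L → ℤ} {Φ : Set L} {X W : L → Subgroup G} (hΦ : Defs.Roots B Φ)
    (D : Defs.Dbl t B Φ X W) (ht : L →+ ℤ)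
    (dir : ∀ a ∈ Φ, 0 < ht a → X a ⊓ (⨆ b : L, ⨆ _ : b ∈ Φ ∧ ht a ≤ ht b ∧ b ≠ a, X b) = ⊥)
    (htU : t ∉ pos ht Φ X) (hodd : Odd ((pos ht Φ X ⊔ Subgroup.zpowers t).relIndex (Subgroup.centralizer {t}))) :
    ∃ m : G →* ℤˣ, m t = -1 :=
  exists_hom ht hΦ.fin hΦ.neg_mem hΦ.neg_left hΦ.le hΦ.eq hΦ.add D.tt D.XW D.sq D.conj_t D.cent D.surj D.pos D.neg dir
    htU hodd

end Cfsg.Agent.OddHalf.SL.Bridge
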