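import Cfsg.Agent.OddHalf.SL.Index
import Cfsg.Agent.OddHalf.SL.Bridge

/-!
# Simply laced root group data: the facts used by the doubling argument

`R : RGD cs h p T n X`, `W` finite, no labels `4`, `6`.

* `btwn_iff` : the roots strictly between `x` and `y` (`x ≠ ± y`) are `x + y` if `Bf x y = -1`, none otherwise;
* `comm_nonneg`, `comm_neg_one` : the commutator relations;
* `dir` : directness of the root groups; `pos_eq` : `Bridge.pos hth Φ X = U`; `X_ne_bot`, `disjoint`.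
-/

set_option autoImplicit false
set_option linter.unusedSectionVars false

namespace Cfsg.Agent.OddHalf.SL.OfRGD

open CoxeterSystem Cfsg.Agent.ChevalleyStructure.CoxeterGeom Cfsg.Agent.Tits.Roots Cfsg.Agent.Tits.Core
  Cfsg.Agent.Tits.RootComb Cfsg.Agent.Nodes.Comb Cfsg.Agent.Nodes.Reps Cfsg.Agent.Nodes.BNOf
  Cfsg.Agent.Nodes.SubComb Cfsg.Agent.Nodes.Coroot Cfsg.Agent.Nodes.SimplyLaced Cfsg.Agent.Nodes.Unique
  Cfsg.Agent.OddHalf.SL.Index
open scoped commutatorElement

variable {I W Y : Type*} [Fintype I] [DecidableEq I] [Group W] [Group Y] {M : CoxeterMatrix I}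
  {cs : CoxeterSystem M W} {A : I → I → ℤ} {h : IsCartan M A} {p : ℕ} {T : Subgroup Y} {n : I → Y}
  {X : (I → ℤ) → Subgroup Y}

section Comb

variable [Finite W] (h4 : ∀ i j, M i j ≠ 4) (h6 : ∀ i j, M i j ≠ 6)

include h4 h6 in
/-- Roots strictly between two roots. -/
theorem btwn_eq {x y z : I → ℤ} (hx : IsRoot cs h x) (hy : IsRoot cs h y) (hne : x ≠ y) (hne' : x ≠ -y)
    (hz : Btwn cs h x y z) : Bf A x y = -1 ∧ z = x + y := by
  have R := roots cs h h4 h6
  obtain ⟨hzr, m, a, b, hm, ha, hb, he⟩ := hz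
  have zx : z ≠ x := by
    rintro rfl
    have e1 : (m - a) • z = b • y := by rw [sub_smul, he]; abel
    rcases lt_trichotomy (m - a) 0 with h0 | h0 | h0
    · have e2 : (a - m) • (z) = b • (-y) := by
        rw [smul_neg, ← e1, ← neg_smul]; congr 1; ring
      exact hne' (eq_of_ray hzr (R.neg_mem y hy) (by omega) hb e2)
    · rw [h0, zero_smul] at e1
      have := smul_eq_zero.1 e1.symm
      rcases this with e | e
      · omega
      · exact hy.ne_zero e
    · exact hne (eq_of_ray hzr hy h0 hb e1)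
  have zy : z ≠ y := by
    rintro rfl
    have e1 : (m - b) • z = a • x := by rw [sub_smul, he]; abel
    rcases lt_trichotomy (m - b) 0 with h0 | h0 | h0
    · have e2 : (b - m) • (-z) = a • x := by
        rw [smul_neg, ← e1, ← neg_smul]; congr 1; ring
      exact hne' (eq_of_ray (R.neg_mem z hzr) hx (by omega) ha e2).symm
    · rw [h0, zero_smul] at e1
      have := smul_eq_zero.1 e1.symm
      rcases this with e | e
      · omega
      · exact hx.ne_zero e
    · exact hne (eq_of_ray hzr hx h0 ha e1).symm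
  have bx := congrArg (fun v => Bf A v x) he
  have by' := congrArg (fun v => Bf A v y) he
  have bz := congrArg (fun v => Bf A v z) he
  simp only [bf_add_left, bf_smul_left] at bx by' bz
  rw [R.two x hx, R.symm y x] at bx
  rw [R.two y hy] at by'
  rw [R.two z hzr, R.symm x z, R.symm y z] at bz
  have p1 : Bf A z x ≤ 1 := by
    have h1 := R.le z hzr x hx
    have h2 : Bf A z x ≠ 2 := fun e => zx (R.eq z hzr x hx e)
    omega
  have q1 : Bf A z y ≤ 1 := by
    have h1 := R.le z hzr y hy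
    have h2 : Bf A z y ≠ 2 := fun e => zy (R.eq z hzr y hy e)
    omega
  have c1 : Bf A x y ≤ 1 := by
    have h1 := R.le x hx y hy
    have h2 : Bf A x y ≠ 2 := fun e => hne (R.eq x hx y hy e)
    omega
  have c2 : -1 ≤ Bf A x y := by
    have h1 := R.ge hx hy
    have h2 : Bf A x y ≠ -2 := fun e => hne' (R.eq_neg hx hy e)
    omega
  obtain ⟨P, hP⟩ : ∃ P, Bf A z x = P := ⟨_, rfl⟩
  obtain ⟨Q, hQ⟩ : ∃ Q, Bf A z y = Q := ⟨_, rfl⟩
  obtain ⟨c, hc⟩ : ∃ c, Bf A x y = c := ⟨_, rfl⟩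
  rw [hP] at bx bz p1
  rw [hQ] at by' bz q1
  rw [hc] at bx by' c1 c2
  have hcc : c = -1 := by
    by_contra hcon
    have hc0 : 0 ≤ c := by omega
    have hbc : 0 ≤ b * c := mul_nonneg hb.le hc0
    have hac : 0 ≤ a * c := mul_nonneg ha.le hc0
    have hP1 : P = 1 := by
      by_contra hP1
      have : P ≤ 0 := by omega
      have := mul_nonpos_of_nonneg_of_nonpos hm.le this
      linarith
    have hQ1 : Q = 1 := by
      by_contra hQ1
      have : Q ≤ 0 := by omega
      have := mul_nonpos_of_nonneg_of_nonpos hm.le this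
      linarith
    subst hP1 hQ1
    linarith
  subst hcc
  refine ⟨hc, ?_⟩
  have hP1 : P = 1 := by
    by_contra hP1
    have h1 : P ≤ 0 := by omega
    have h2 := mul_nonpos_of_nonneg_of_nonpos hm.le h1
    have h3 := mul_nonpos_of_nonneg_of_nonpos ha.le h1
    have h4 : 0 < Q := by
      by_contra h5
      have := mul_nonpos_of_nonneg_of_nonpos hb.le (not_lt.1 h5)
      linarith
    have h5 : Q = 1 := by omega
    subst h5
    linarith
  have hQ1 : Q = 1 := by
    by_contra hQ1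
    have h1 : Q ≤ 0 := by omega
    have h2 := mul_nonpos_of_nonneg_of_nonpos hm.le h1
    have h3 := mul_nonpos_of_nonneg_of_nonpos hb.le h1
    subst hP1
    linarith
  subst hP1 hQ1
  have ham : a = m := by linarith
  have hbm : b = m := by linarith
  subst ham hbm
  rw [← smul_add] at he
  exact smul_right_injective _ ha.ne' he

include h4 h6 in
theorem btwn_iff {x y z : I → ℤ} (hx : IsRoot cs h x) (hy : IsRoot cs h y) (hne : x ≠ y) (hne' : x ≠ -y) :
    Btwn cs h x y z ↔ Bf A x y = -1 ∧ z = x + y := by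
  refine ⟨btwn_eq h4 h6 hx hy hne hne', ?_⟩
  rintro ⟨h1, rfl⟩
  exact ⟨(roots cs h h4 h6).add x hx y hy h1, 1, 1, 1, one_pos, one_pos, one_pos, by rw [one_smul, one_smul, one_smul]⟩

end Comb

section Group

variable [Finite W] (h4 : ∀ i j, M i j ≠ 4) (h6 : ∀ i j, M i j ≠ 6) (R : RGD cs h p T n X)

include h4 h6 R

theorem comm_nonneg {x y : I → ℤ} (hx : IsRoot cs h x) (hy : IsRoot cs h y) (hne : x ≠ y) (h0 : 0 ≤ Bf A x y) :
    ∀ a ∈ X x, ∀ b ∈ X y, a * b = b * a := by
  intro a ha b hb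
  have hR := roots cs h h4 h6
  have hne' : x ≠ -y := by
    rintro rfl
    rw [hR.neg_left, hR.two y hy] at h0
    omega
  have h1 := R.comm x y hx hy hne hne' a ha b hb
  have h2 : btw cs h X x y ≤ ⊥ := by
    unfold Cfsg.Agent.Nodes.Reps.btw
    refine iSup_le ?_
    rintro ⟨z, hz⟩
    have := (btwn_eq h4 h6 hx hy hne hne' hz).1
    omega
  exact commutatorElement_eq_one_iff_mul_comm.1 (Subgroup.mem_bot.1 (h2 h1))

theorem comm_neg_one {x y : I → ℤ} (hx : IsRoot cs h x) (hy : IsRoot cs h y) (h1 : Bf A x y = -1) :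
    ∀ a ∈ X x, ∀ b ∈ X y, a * b * a⁻¹ * b⁻¹ ∈ X (x + y) := by
  intro a ha b hb
  have hR := roots cs h h4 h6
  have hne : x ≠ y := by
    rintro rfl
    rw [hR.two x hx] at h1
    omega
  have hne' : x ≠ -y := by
    rintro rfl
    rw [hR.neg_left, hR.two y hy] at h1
    omega
  have h2 := R.comm x y hx hy hne hne' a ha b hb
  have h3 : btw cs h X x y ≤ X (x + y) := by
    unfold Cfsg.Agent.Nodes.Reps.btw
    refine iSup_le ?_
    rintro ⟨z, hz⟩
    have e := (btwn_eq h4 h6 hx hy hne hne' hz).2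
    show X z ≤ X (x + y)
    rw [e]
  exact h3 h2

omit h4 h6 in
theorem X_ne_bot {x : I → ℤ} (hx : IsRoot cs h x) : X x ≠ ⊥ := by
  obtain ⟨w, i, rfl⟩ := hx
  obtain ⟨k, hk⟩ : ∃ k, Rp cs R.nsys w k := exists_rp cs R.nsys w
  rw [← R.conj_rp hk (isRoot_sr cs h i)]
  intro e
  have e1 : X (sr i) = ⊥ := by
    have := congrArg (cj k⁻¹) e
    rw [cj_inv_cj, cj, Subgroup.map_bot] at this
    exact this
  have e2 : X (-sr i) = ⊥ := by
    have := R.conj i (sr i) (isRoot_sr cs h i)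
    rw [rep_simple_sr, e1, cj, Subgroup.map_bot] at this
    exact this.symm
  apply R.notp i
  rw [e1, e2, sup_bot_eq]
  exact IsPGroup.of_bot

omit h4 h6 R in
theorem pos_eq : Bridge.pos hth {x | IsRoot cs h x} X = RGD.Sup X (RGD.Pos cs h) := by
  apply le_antisymm
  · refine iSup₂_le fun a ha => RGD.le_Sup ⟨ha.1, (hth_pos_iff ha.1).1 ha.2⟩
  · refine RGD.Sup_le fun a ha => Bridge.le_pos ha.1 ((hth_pos_iff ha.1).2 ha.2)

/-- **Directness**, the hypothesis of `Bridge.of_dbl`. -/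
theorem dir : ∀ a ∈ {x | IsRoot cs h x}, 0 < hth a → X a ⊓ (⨆ b : I → ℤ, ⨆ _ : b ∈ {x | IsRoot cs h x} ∧
    hth a ≤ hth b ∧ b ≠ a, X b) = ⊥ := by
  intro a ha h0
  have hR := roots cs h h4 h6
  have hS1 : ({a} : Set (I → ℤ)) ⊆ RGD.Pos cs h := by
    rintro _ rfl
    exact ⟨ha, (hth_pos_iff ha).1 h0⟩
  have hS2 : {b | IsRoot cs h b ∧ hth a ≤ hth b ∧ b ≠ a} ⊆ RGD.Pos cs h := by
    rintro b ⟨hb, hab, -⟩
    exact ⟨hb, (hth_pos_iff hb).1 (lt_of_lt_of_le h0 hab)⟩
  have hC1 : Closed cs h ({a} : Set (I → ℤ)) := by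
    rintro _ rfl _ rfl z hz
    exact btwn_self ha hz
  have hC2 : Closed cs h {b | IsRoot cs h b ∧ hth a ≤ hth b ∧ b ≠ a} := by
    rintro x ⟨hx, hx1, hx2⟩ y ⟨hy, hy1, hy2⟩ z hz
    by_cases hxy : x = y
    · subst hxy
      rw [btwn_self hx hz]
      exact ⟨hx, hx1, hx2⟩
    have hxy' : x ≠ -y := by
      rintro rfl
      rw [map_neg] at hx1
      omega
    have h1 := (btwn_eq h4 h6 hx hy hxy hxy' hz).2
    subst h1
    refine ⟨hz.1, ?_, ?_⟩
    · rw [map_add]; omega
    · intro e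
      have := congrArg hth e
      rw [map_add] at this
      omega
  have h1 := inf_eq R hS1 hS2 hC1 hC2
  have h2 : ({a} : Set (I → ℤ)) ∩ {b | IsRoot cs h b ∧ hth a ≤ hth b ∧ b ≠ a} = ∅ := by
    ext x
    simp only [Set.mem_inter_iff, Set.mem_singleton_iff, Set.mem_ofPred_eq, Set.mem_empty_iff_false, iff_false]
    rintro ⟨rfl, -, -, h3⟩
    exact h3 rfl
  rw [h2] at h1
  have h3 : RGD.Sup X (∅ : Set (I → ℤ)) = ⊥ := by
    unfold RGD.Sup
    exact iSup_of_empty _
  rw [h3] at h1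
  rw [eq_bot_iff, ← h1]
  refine inf_le_inf (RGD.le_Sup (Set.mem_singleton a)) ?_
  exact iSup₂_le fun b hb => RGD.le_Sup (S := {b | IsRoot cs h b ∧ hth a ≤ hth b ∧ b ≠ a}) ⟨hb.1, hb.2⟩

end Group

end Cfsg.Agent.OddHalf.SL.OfRGD
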