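import Cfsg.Agent.OddHalf.SL.PreOf
import Cfsg.Agent.KFacts.RgdEx

/-!
# More index data

* `exists_outside_set` : in a connected simply laced system every proper "sub-span" has a neighbour outside;
* `exists_sixty` : rank at least `4`, `(r, s) = (m₀, r) = (m₀, s) = 1` : a root outside `⟨r, s, m₀⟩` at `60°` to `r`, `s`;
* `orth'` : `RgdOdd.Orth`, `two60` : `RgdEx.Two60`.
-/

set_option autoImplicit false
set_option linter.unusedSectionVars false

namespace Cfsg.Agent.OddHalf.SL.Two60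

open CoxeterSystem Cfsg.Agent.ChevalleyStructure.CoxeterGeom Cfsg.Agent.Tits.Roots Cfsg.Agent.Tits.Core
  Cfsg.Agent.Tits.RootComb Cfsg.Agent.Nodes.Comb Cfsg.Agent.Nodes.Reps Cfsg.Agent.Nodes.BNOf
  Cfsg.Agent.Nodes.SubComb Cfsg.Agent.Nodes.Coroot Cfsg.Agent.Nodes.SimplyLaced Cfsg.Agent.Nodes.ZFam
  Cfsg.Agent.OddHalf.SL.Index

variable {I W : Type*} [Fintype I] [DecidableEq I] [Group W] {M : CoxeterMatrix I}
  {cs : CoxeterSystem M W} {A : I → I → ℤ} {h : IsCartan M A}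

variable [Finite W] (h4 : ∀ i j, M i j ≠ 4) (h6 : ∀ i j, M i j ≠ 6)
  (hirr : ∀ J : Set I, J.Nonempty → Jᶜ.Nonempty → ∃ i ∈ J, ∃ j ∈ Jᶜ, M i j ≠ 2)

include h4 h6 hirr

theorem exists_outside_set {F : Finset (I → ℤ)} (hcard : F.card < Fintype.card I) {r : I → ℤ} (hr : IsRoot cs h r)
    (hrF : r ∈ F) : ∃ c, IsRoot cs h c ∧ (∃ f ∈ F, Bf A c f ≠ 0) ∧
      c ∉ Submodule.span ℤ (F : Set (I → ℤ)) := by
  classical
  have R := roots cs h h4 h6
  by_contra hcon
  push Not at hcon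
  have all : ∀ s', IsRoot cs h s' → s' ∈ Submodule.span ℤ (F : Set (I → ℤ)) := by
    intro s' hs'
    obtain ⟨a, ha, har, has⟩ := exists_nonorth h4 h6 hirr hr hs'
    have h1 := hcon a ha ⟨r, hrF, har⟩
    apply hcon s' hs'
    by_contra h2
    push Not at h2
    apply has
    -- the elements orthogonal to `s'` form a submodule
    let N : Submodule ℤ (I → ℤ) :=
      { carrier := {x | Bf A s' x = 0}
        add_mem' := fun {x y} hx hy => by
          show Bf A s' (x + y) = 0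
          rw [R.add_right, show Bf A s' x = 0 from hx, show Bf A s' y = 0 from hy, add_zero]
        zero_mem' := by
          show Bf A s' 0 = 0
          rw [R.symm, R.zero_left]
        smul_mem' := fun c x hx => by
          show Bf A s' (c • x) = 0
          rw [R.symm, bf_smul_left, R.symm, show Bf A s' x = 0 from hx, mul_zero] }
    have h3 : Submodule.span ℤ (F : Set (I → ℤ)) ≤ N := Submodule.span_le.2 fun f hf => h2 f hf
    have h4' : Bf A s' a = 0 := h3 h1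
    rw [R.symm]
    exact h4'
  have htop : Submodule.span ℤ (F : Set (I → ℤ)) = ⊤ := by
    rw [eq_top_iff, ← span_sr (I := I), Submodule.span_le]
    rintro _ ⟨i, rfl⟩
    exact all _ (isRoot_sr cs h i)
  have hc : Module.finrank ℤ (I → ℤ) = Fintype.card I := Module.finrank_pi ℤ
  have h5 : Module.finrank ℤ ↥(Submodule.span ℤ (F : Set (I → ℤ))) ≤ F.card := finrank_span_finset_le_card _
  rw [htop, finrank_top, hc] at h5
  omega

/-- A second root at `60°` to `r` and `s`. -/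
theorem exists_sixty (hc4 : 4 ≤ Fintype.card I) {r s m₀ : I → ℤ} (hr : IsRoot cs h r) (hs : IsRoot cs h s)
    (hm : IsRoot cs h m₀) (hrs : Bf A r s = 1) (hmr : Bf A m₀ r = 1) (hms : Bf A m₀ s = 1) :
    ∃ m, IsRoot cs h m ∧ m ≠ m₀ ∧ Bf A m r = 1 ∧ Bf A m s = 1 := by
  classical
  have R := roots cs h h4 h6
  obtain ⟨c, hc, hcf, hcS⟩ := exists_outside_set h4 h6 hirr (F := {r, s, m₀})
    (lt_of_le_of_lt Finset.card_le_three (by omega)) hr (Finset.mem_insert_self _ _)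
  have memr : r ∈ Submodule.span ℤ ((({r, s, m₀} : Finset (I → ℤ))) : Set (I → ℤ)) :=
    Submodule.subset_span (by simp)
  have mems : s ∈ Submodule.span ℤ ((({r, s, m₀} : Finset (I → ℤ))) : Set (I → ℤ)) :=
    Submodule.subset_span (by simp)
  have memm : m₀ ∈ Submodule.span ℤ ((({r, s, m₀} : Finset (I → ℤ))) : Set (I → ℤ)) :=
    Submodule.subset_span (by simp)
  have key : ∀ x, IsRoot cs h x → x ∈ Submodule.span ℤ ((({r, s, m₀} : Finset (I → ℤ))) : Set (I → ℤ)) →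
      -1 ≤ Bf A c x ∧ Bf A c x ≤ 1 := by
    intro x hx hxm
    have b1 := R.le c hc x hx
    have b2 := R.ge hc hx
    have n1 : Bf A c x ≠ 2 := fun e => hcS (by rw [R.eq c hc x hx e]; exact hxm)
    have n2 : Bf A c x ≠ -2 := fun e => hcS (by rw [R.eq_neg hc hx e]; exact neg_mem hxm)
    omega
  have hsr : Bf A s r = 1 := by rw [R.symm]; exact hrs
  have hrr := R.two r hr
  have hss := R.two s hs
  have kr := key r hr memr
  have ks := key s hs mems
  have km := key m₀ hm memm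
  have krs := key (r - s) (R.sub_mem hr hs hrs) (sub_mem memr mems)
  have kmr := key (m₀ - r) (R.sub_mem hm hr hmr) (sub_mem memm memr)
  have kms := key (m₀ - s) (R.sub_mem hm hs hms) (sub_mem memm mems)
  rw [R.sub_right] at krs kmr kms
  obtain ⟨x, hx⟩ : ∃ x, Bf A c r = x := ⟨_, rfl⟩
  obtain ⟨y, hy⟩ : ∃ y, Bf A c s = y := ⟨_, rfl⟩
  obtain ⟨z, hz⟩ : ∃ z, Bf A c m₀ = z := ⟨_, rfl⟩
  rw [hx] at kr krs kmr
  rw [hy] at ks krs kms
  rw [hz] at km kmr kms
  have hnz : x ≠ 0 ∨ y ≠ 0 ∨ z ≠ 0 := by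
    obtain ⟨f, hf, hf0⟩ := hcf
    rw [Finset.mem_insert, Finset.mem_insert, Finset.mem_singleton] at hf
    rcases hf with rfl | rfl | rfl
    · exact Or.inl (hx ▸ hf0)
    · exact Or.inr (Or.inl (hy ▸ hf0))
    · exact Or.inr (Or.inr (hz ▸ hf0))
  -- the solution for `c` with values in `{0, 1}`
  have main : ∀ c, IsRoot cs h c → c ∉ Submodule.span ℤ ((({r, s, m₀} : Finset (I → ℤ))) : Set (I → ℤ)) →
      (Bf A c r = 1 ∨ Bf A c r = 0) → (Bf A c s = 1 ∨ Bf A c s = 0) →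
      (Bf A c r = 0 → Bf A c s = 0 → Bf A c m₀ = 1) →
      ∃ m, IsRoot cs h m ∧ m ≠ m₀ ∧ Bf A m r = 1 ∧ Bf A m s = 1 := by
    intro c hc hcS h1 h2 h3
    rcases h1 with h1 | h1 <;> rcases h2 with h2 | h2
    · exact ⟨c, hc, fun e => hcS (e ▸ memm), h1, h2⟩
    · have hrc : Bf A r c = 1 := by rw [R.symm]; exact h1
      refine ⟨r - c, R.sub_mem hr hc hrc, fun e => hcS ?_, by rw [R.sub_left, hrr, h1]; norm_num,
        by rw [R.sub_left, hrs, h2]; norm_num⟩
      have : c = r - m₀ := by rw [← e]; abel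
      rw [this]; exact sub_mem memr memm
    · have hsc : Bf A s c = 1 := by rw [R.symm]; exact h2
      refine ⟨s - c, R.sub_mem hs hc hsc, fun e => hcS ?_, by rw [R.sub_left, hsr, h1]; norm_num,
        by rw [R.sub_left, hss, h2]; norm_num⟩
      have : c = s - m₀ := by rw [← e]; abel
      rw [this]; exact sub_mem mems memm
    · have hmc : Bf A m₀ c = 1 := by rw [R.symm]; exact h3 h1 h2
      refine ⟨m₀ - c, R.sub_mem hm hc hmc, fun e => hc.ne_zero ?_, by rw [R.sub_left, hmr, h1]; norm_num,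
        by rw [R.sub_left, hms, h2]; norm_num⟩
      exact sub_eq_self.1 e
  by_cases hpos : 0 ≤ x ∧ 0 ≤ y ∧ 0 ≤ z
  · refine main c hc hcS ?_ ?_ ?_
    · rw [hx]; omega
    · rw [hy]; omega
    · rw [hx, hy, hz]; intro e1 e2; omega
  · refine main (-c) hc.neg (fun e => hcS (by simpa using neg_mem e)) ?_ ?_ ?_
    · rw [R.neg_left, hx]; omega
    · rw [R.neg_left, hy]; omega
    · rw [R.neg_left, R.neg_left, R.neg_left, hx, hy, hz]; intro e1 e2; omega

theorem orth' {r : I → ℤ} (hr : IsRoot cs h r) : Cfsg.Agent.KFacts.RgdOdd.Orth cs h r := by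
  have R := roots cs h h4 h6
  intro b hb hbr
  obtain ⟨a, ha, h1, h2⟩ := orth h4 h6 hirr r hr b hb (by rw [R.symm, bf_eq_cpr h4 h6 b hr]; exact hbr)
  exact ⟨a, ha, by rw [← bf_eq_cpr h4 h6 a hr]; exact h1, by rw [← bf_eq_cpr h4 h6 a hb]; exact h2⟩

theorem two60 (hc4 : 4 ≤ Fintype.card I) : Cfsg.Agent.KFacts.RgdEx.Two60 cs h := by
  have R := roots cs h h4 h6
  intro r s hr hs hrs m₀
  have hrs' : Bf A r s = 1 := by rw [bf_eq_cpr h4 h6 r hs]; exact hrs
  obtain ⟨m, hm, h1, h2⟩ := three h4 h6 hirr (by omega) r hr s hs hrs'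
  by_cases he : m = m₀
  · subst he
    obtain ⟨m', hm', hne, h3, h4'⟩ := exists_sixty h4 h6 hirr hc4 hr hs hm hrs' h1 h2
    exact ⟨m', hm', hne, by rw [← bf_eq_cpr h4 h6 m' hr]; exact h3, by rw [← bf_eq_cpr h4 h6 m' hs]; exact h4'⟩
  · exact ⟨m, hm, he, by rw [← bf_eq_cpr h4 h6 m hr]; exact h1, by rw [← bf_eq_cpr h4 h6 m hs]; exact h2⟩

end Cfsg.Agent.OddHalf.SL.Two60
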