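import Cfsg.Agent.OddHalf.SL.PreOf
import Cfsg.Agent.OddHalf.D7Ex.Wab

/-!
# Doubled root groups not yet known to be abelian

* `YData0`, `Base0` : `PreOf.YData`, `PreOf.Base` with `ab` replaced by `w * w ∈ X r`;
* `Base0.yData0` : transport to all roots;
* `YData0.preW` : the hypotheses of `D7Ex.PreW.ab`; `YData0.yData` : `ab` for `|X r| > 2`.
-/

set_option autoImplicit false
set_option linter.unusedSectionVars false
set_option linter.dupNamespace false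

namespace Cfsg.Agent.OddHalf.SL.Base0

open CoxeterSystem Cfsg.Agent.ChevalleyStructure.CoxeterGeom Cfsg.Agent.Tits.Roots Cfsg.Agent.Tits.Core
  Cfsg.Agent.Tits.RootComb Cfsg.Agent.Nodes.Comb Cfsg.Agent.Nodes.Reps Cfsg.Agent.Nodes.BNOf
  Cfsg.Agent.Nodes.SubComb Cfsg.Agent.Nodes.Coroot Cfsg.Agent.Nodes.SimplyLaced Cfsg.Agent.Nodes.Unique
  Cfsg.Agent.OddHalf.SL.Index Cfsg.Agent.OddHalf.SL.OfRGD Cfsg.Agent.KFacts.RgdSL Cfsg.Agent.OddHalf.SL.PreOf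
open scoped commutatorElement

variable {I W G : Type*} [Fintype I] [DecidableEq I] [Group W] [Group G] {M : CoxeterMatrix I}
  {cs : CoxeterSystem M W} {A : I → I → ℤ} {h : IsCartan M A} {p : ℕ} {T : Subgroup G} {n : I → G}
  {X : (I → ℤ) → Subgroup G}

/-- The doubled root groups of a root group datum. -/
structure YData0 (R : RGD cs h p T n X) (t : G) (V : (I → ℤ) → Subgroup G) : Prop where
  XW : ∀ r, IsRoot cs h r → X r ≤ V r
  sq : ∀ r, IsRoot cs h r → ∀ w ∈ V r, w * w ∈ X r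
  brk : ∀ r, IsRoot cs h r → ∀ w ∈ V r, w⁻¹ * (t * w * t) ∈ X r
  cent : ∀ r, IsRoot cs h r → ∀ w ∈ V r, t * w = w * t → w ∈ X r
  surj : ∀ r, IsRoot cs h r → ∀ x ∈ X r, ∃ w ∈ V r, w⁻¹ * (t * w * t) = x
  WX : ∀ r, IsRoot cs h r → ∀ a, IsRoot cs h a → 0 ≤ Bf A a r → ∀ w ∈ V r, ∀ x ∈ X a, w * x = x * w
  eqv : ∀ w k, Rp cs R.nsys w k → ∀ r, IsRoot cs h r → ∀ v ∈ V r, k * v * k⁻¹ ∈ V (rep cs h w r)

/-- The doubled root group at one root. -/
structure Base0 (R : RGD cs h p T n X) (t : G) (r₀ : I → ℤ) (V₀ : Subgroup G) : Prop where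
  root : IsRoot cs h r₀
  XW : X r₀ ≤ V₀
  sq : ∀ w ∈ V₀, w * w ∈ X r₀
  brk : ∀ w ∈ V₀, w⁻¹ * (t * w * t) ∈ X r₀
  cent : ∀ w ∈ V₀, t * w = w * t → w ∈ X r₀
  surj : ∀ x ∈ X r₀, ∃ w ∈ V₀, w⁻¹ * (t * w * t) = x
  WX : ∀ a, IsRoot cs h a → 0 ≤ Bf A a r₀ → ∀ w ∈ V₀, ∀ x ∈ X a, w * x = x * w
  nrm : ∀ w k, Rp cs R.nsys w k → rep cs h w r₀ = r₀ → ∀ v ∈ V₀, k * v * k⁻¹ ∈ V₀
  tN : ∀ w k, Rp cs R.nsys w k → t * k = k * t

theorem YData0.of {R : RGD cs h p T n X} {t : G} {V : (I → ℤ) → Subgroup G}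
    (D : YData R t V) (sq : ∀ r, IsRoot cs h r → ∀ w ∈ V r, w * w ∈ X r) : YData0 R t V :=
  ⟨D.XW, sq, D.brk, D.cent, D.surj, D.WX, D.eqv⟩

theorem YData0.toYData {R : RGD cs h p T n X} {t : G} {V : (I → ℤ) → Subgroup G}
    (D : YData0 R t V) (ab : ∀ r, IsRoot cs h r → ∀ v ∈ V r, ∀ w ∈ V r, v * w = w * v) : YData R t V :=
  ⟨D.XW, ab, D.brk, D.cent, D.surj, D.WX, D.eqv⟩

/-- The transported groups. -/
def Wf (R : RGD cs h p T n X) (r₀ : I → ℤ) (V₀ : Subgroup G) (r : I → ℤ) : Subgroup G :=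
  PreOf.Wf R r₀ V₀ r

namespace Base0

variable {R : RGD cs h p T n X} {t : G} {r₀ : I → ℤ} {V₀ : Subgroup G} (D : Base0 R t r₀ V₀)

include D

theorem wf_eq {w : W} {k : G} (hk : Rp cs R.nsys w k) : Wf R r₀ V₀ (rep cs h w r₀) = cj k V₀ := by
  apply le_antisymm
  · refine iSup_le ?_
    rintro ⟨⟨w', k'⟩, hk', hr⟩
    intro v hv
    rw [mem_cj] at hv ⊢
    have h1 : rep cs h (w⁻¹ * w') r₀ = r₀ := by
      rw [rep_mul_apply]
      show rep cs h w⁻¹ (rep cs h w' r₀) = r₀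
      rw [hr, rep_inv_apply]
    have h2 := D.nrm _ _ (hk.inv.mul hk') h1 _ hv
    have e : k⁻¹ * k' * (k'⁻¹ * v * k') * (k⁻¹ * k')⁻¹ = k⁻¹ * v * k := by group
    rwa [e] at h2
  · exact le_iSup (fun q : {q : W × G // Rp cs R.nsys q.1 q.2 ∧ rep cs h q.1 r₀ = rep cs h w r₀} =>
      cj q.1.2 V₀) ⟨(w, k), hk, rfl⟩

theorem yData0 (htr : ∀ r, IsRoot cs h r → ∃ w, rep cs h w r₀ = r)
    (hB : ∀ (w : W) x y, Bf A (rep cs h w x) (rep cs h w y) = Bf A x y) : YData0 R t (Wf R r₀ V₀) := by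
  -- every root group is the conjugate of the base
  have key : ∀ r, IsRoot cs h r → ∃ w k, Rp cs R.nsys w k ∧ rep cs h w r₀ = r ∧ Wf R r₀ V₀ r = cj k V₀ ∧
      X r = cj k (X r₀) := by
    intro r hr
    obtain ⟨w, rfl⟩ := htr r hr
    obtain ⟨k, hk⟩ := exists_rp cs R.nsys w
    exact ⟨w, k, hk, rfl, D.wf_eq hk, (R.conj_rp hk D.root).symm⟩
  constructor
  · intro r hr
    obtain ⟨w, k, hk, -, e1, e2⟩ := key r hr
    rw [e1, e2]
    exact cj_mono k D.XW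
  · intro r hr v hv
    obtain ⟨w, k, hk, -, e1, e2⟩ := key r hr
    rw [e1, mem_cj] at hv
    rw [e2, mem_cj]
    have h1 := D.sq _ hv
    have e3 : k⁻¹ * (v * v) * k = (k⁻¹ * v * k) * (k⁻¹ * v * k) := by group
    rwa [e3]
  · intro r hr v hv
    obtain ⟨w, k, hk, -, e1, e2⟩ := key r hr
    rw [e1, mem_cj] at hv
    rw [e2, mem_cj]
    have h1 := D.brk _ hv
    have h2 := D.tN w k hk
    have h3 : t * k⁻¹ = k⁻¹ * t := by
      have := D.tN w⁻¹ k⁻¹ hk.inv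
      exact this
    have e3 : (k⁻¹ * v * k)⁻¹ * (t * (k⁻¹ * v * k) * t) = k⁻¹ * (v⁻¹ * (t * v * t)) * k := by
      calc (k⁻¹ * v * k)⁻¹ * (t * (k⁻¹ * v * k) * t) = k⁻¹ * v⁻¹ * k * ((t * k⁻¹) * v * (k * t)) := by group
        _ = k⁻¹ * v⁻¹ * k * ((k⁻¹ * t) * v * (t * k)) := by rw [h3, h2]
        _ = k⁻¹ * (v⁻¹ * (t * v * t)) * k := by group
    rwa [e3] at h1
  · intro r hr v hv htv
    obtain ⟨w, k, hk, -, e1, e2⟩ := key r hr
    rw [e1, mem_cj] at hv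
    rw [e2, mem_cj]
    apply D.cent _ hv
    have h2 := D.tN w k hk
    have h3 : t * k⁻¹ = k⁻¹ * t := D.tN w⁻¹ k⁻¹ hk.inv
    calc t * (k⁻¹ * v * k) = (t * k⁻¹) * v * k := by group
      _ = k⁻¹ * (t * v) * k := by rw [h3]; group
      _ = k⁻¹ * v * (t * k) := by rw [htv]; group
      _ = k⁻¹ * v * k * t := by rw [h2]; group
  · intro r hr x hx
    obtain ⟨w, k, hk, -, e1, e2⟩ := key r hr
    rw [e2, mem_cj] at hx
    obtain ⟨v, hv, e⟩ := D.surj _ hx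
    refine ⟨k * v * k⁻¹, by rw [e1]; exact conj_mem_cj.2 hv, ?_⟩
    have h2 := D.tN w k hk
    have h3 : t * k⁻¹ = k⁻¹ * t := D.tN w⁻¹ k⁻¹ hk.inv
    calc (k * v * k⁻¹)⁻¹ * (t * (k * v * k⁻¹) * t) = k * v⁻¹ * k⁻¹ * ((t * k) * v * (k⁻¹ * t)) := by group
      _ = k * v⁻¹ * k⁻¹ * ((k * t) * v * (t * k⁻¹)) := by rw [h2, h3]
      _ = k * (v⁻¹ * (t * v * t)) * k⁻¹ := by group
      _ = x := by rw [e]; group
  · intro r hr a ha h0 v hv x hx
    obtain ⟨w, k, hk, e0, e1, e2⟩ := key r hr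
    rw [e1, mem_cj] at hv
    have h1 := R.conj_mem' hk ha hx
    have h2 := D.WX (rep cs h w⁻¹ a) (ha.act _) (by
      rw [← hB w, rep_apply_inv, e0]; exact h0) _ hv _ h1
    have e3 : v * x = k * ((k⁻¹ * v * k) * (k⁻¹ * x * k)) * k⁻¹ := by group
    have e4 : x * v = k * ((k⁻¹ * x * k) * (k⁻¹ * v * k)) * k⁻¹ := by group
    rw [e3, e4, h2]
  · intro w k hk r hr v hv
    obtain ⟨w', k', hk', e0, e1, e2⟩ := key r hr
    have h1 := D.wf_eq (hk.mul hk')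
    rw [rep_mul_apply, e0] at h1
    rw [h1, mem_cj]
    rw [e1, mem_cj] at hv
    have e3 : (k * k')⁻¹ * (k * v * k⁻¹) * (k * k') = k'⁻¹ * v * k' := by group
    rwa [e3]

end Base0

/-! ### The swap -/

section Conn

variable [Finite W] (h4 : ∀ i j, M i j ≠ 4) (h6 : ∀ i j, M i j ≠ 6)

/-- `X r ∩ X s = 1` for `(r, s) = 1`. -/
theorem inf (R : RGD cs h p T n X) {r s : I → ℤ} (hr : IsRoot cs h r) (hs : IsRoot cs h s)
    (h4 : ∀ i j, M i j ≠ 4) (h6 : ∀ i j, M i j ≠ 6) (hrs : Bf A r s = 1) {x : G} (hx : x ∈ X r) (hx' : x ∈ X s) :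
    x = 1 := by
  have hR := roots cs h h4 h6
  have hd := hR.sub_mem hr hs hrs
  have hA := a2 (cs := cs) (h := h) h4 h6 hd hs (by rw [hR.sub_left, hrs, hR.two s hs]; norm_num)
  by_contra hx1
  obtain ⟨g, hg, hg1⟩ : ∃ g ∈ X (r - s), g ≠ 1 := by
    have := OfRGD.X_ne_bot R hd
    rw [Subgroup.ne_bot_iff_exists_ne_one] at this
    obtain ⟨⟨a, ha⟩, h1⟩ := this
    exact ⟨a, ha, fun h2 => h1 (Subtype.ext h2)⟩
  refine A2.comm_ne_one R hA hg hg1 hx' hx1 ?_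
  rw [commutatorElement_eq_one_iff_mul_comm]
  have hx2 : x ∈ X (r - s + s) := by rw [sub_add_cancel]; exact hx
  exact (A2.comm_left R hA hx2 hg).symm

variable {R : RGD cs h 2 T n X} {t : G} {V : (I → ℤ) → Subgroup G}

include h4 h6 in
/-- An element swapping `x ∈ X r` and `y ∈ X s`, `(r, s) = 1`. -/
theorem YData0.swap (D : YData0 R t V) (Xsq : ∀ r, IsRoot cs h r → ∀ x ∈ X r, x * x = 1)
    (tN : ∀ w k, Rp cs R.nsys w k → t * k = k * t) {r s : I → ℤ} (hr : IsRoot cs h r) (hs : IsRoot cs h s)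
    (hrs : Bf A r s = 1) {x y : G} (hx : x ∈ X r) (hy : y ∈ X s) (hx1 : x ≠ 1) (hy1 : y ≠ 1) :
    ∃ k : G, k * t = t * k ∧ k * x * k⁻¹ = y ∧ k * y * k⁻¹ = x ∧ (∀ w ∈ V r, k * w * k⁻¹ ∈ V s) ∧
      (∀ w ∈ V s, k * w * k⁻¹ ∈ V r) := by
  have hR := roots cs h h4 h6
  have hd := hR.sub_mem hr hs hrs
  have hsr : Bf A s r = 1 := by rw [hR.symm]; exact hrs
  have hd' : IsRoot cs h (s - r) := hR.sub_mem hs hr hsr
  have hA := a2 (cs := cs) (h := h) h4 h6 hd hs (by rw [hR.sub_left, hrs, hR.two s hs]; norm_num)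
  have hA' := a2 (cs := cs) (h := h) h4 h6 hd' hr (by rw [hR.sub_left, hsr, hR.two r hr]; norm_num)
  have e1 : r - s + s = r := sub_add_cancel r s
  have e2 : s - r + r = s := sub_add_cancel s r
  -- `[g, y] = x`
  obtain ⟨g, hg, hgy'⟩ := A2.comm_surj R hA.symm hy hy1 (w := x⁻¹) (by
    rw [add_comm, e1]; exact inv_mem hx)
  have hgy : ⁅g, y⁆ = x := by rw [← commutatorElement_inv, hgy', inv_inv]
  have hg1 : g ≠ 1 := by
    rintro rfl
    rw [commutatorElement_one_left] at hgy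
    exact hx1 hgy.symm
  obtain ⟨w, hw, a, ha, b, hb, m, hm, he⟩ := exists_mu R hd hg hg1
  rw [neg_sub] at ha hb
  have w1 : rep cs h w s = r := rep_sub h4 h6 hr hs hrs hw
  have w2 : rep cs h w r = s := by
    rw [hw, ← bf_eq_cpr h4 h6 r hd, hR.sub_right, hR.two r hr, hrs]
    norm_num
  have cXX : ∀ u ∈ X r, ∀ v ∈ X s, u * v = v * u := fun u hu v hv => by
    refine OfRGD.comm_nonneg h4 h6 R hr hs ?_ (by rw [hrs]; norm_num) u hu v hv
    rintro rfl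
    rw [hR.two r hr] at hrs
    omega
  have cas : ∀ u ∈ X (s - r), ∀ v ∈ X s, u * v = v * u := fun u hu v hv => by
    have h2 := A2.comm_left R hA' (u := v) (v := u) (by rw [e2]; exact hv) hu
    exact h2.symm
  have cgr : ∀ u ∈ X (r - s), ∀ v ∈ X r, u * v = v * u := fun u hu v hv => by
    have h2 := A2.comm_left R hA (u := v) (v := u) (by rw [e1]; exact hv) hu
    exact h2.symm
  -- `m y m⁻¹`
  obtain ⟨y1, hy1'⟩ : ∃ y1, y1 = a * x * a⁻¹ * x⁻¹ := ⟨_, rfl⟩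
  have hy1s : y1 ∈ X s := by
    have := A2.comm_mem R hA' ha hx
    rw [e2, commutatorElement_def] at this
    rw [hy1']; exact this
  have f1 : m * y * m⁻¹ = y1 * y * x := by
    have c1 : b * y * b⁻¹ = y := by rw [cas b hb y hy]; group
    have c2 : g * y * g⁻¹ = x * y := by rw [← hgy, commutatorElement_def]; group
    have c3 : a * y * a⁻¹ = y := by rw [cas a ha y hy]; group
    calc m * y * m⁻¹ = a * (g * (b * y * b⁻¹) * g⁻¹) * a⁻¹ := by rw [he]; group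
      _ = a * (x * y) * a⁻¹ := by rw [c1, c2]
      _ = (a * x * a⁻¹) * (a * y * a⁻¹) := by group
      _ = (y1 * x) * y := by rw [c3, hy1']; group
      _ = y1 * (x * y) := by group
      _ = y1 * y * x := by rw [cXX x hx y hy]; group
  have f2 : m * y * m⁻¹ ∈ X r := by
    have := R.conj_rp hm hs
    rw [w1] at this
    rw [← this]
    exact conj_mem_cj.2 hy
  have f3 : y1 * y = 1 := by
    refine inf R hr hs h4 h6 hrs ?_ (mul_mem hy1s hy)
    have e3 : y1 * y = (m * y * m⁻¹) * x⁻¹ := by rw [f1]; group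
    rw [e3]; exact mul_mem f2 (inv_mem hx)
  have f4 : m * y * m⁻¹ = x := by rw [f1, f3, one_mul]
  have hyi : y⁻¹ = y := inv_eq_of_mul_eq_one_left (Xsq s hs y hy)
  have f5 : y1 = y := by rw [← hyi]; exact eq_inv_of_mul_eq_one_left f3
  -- `m x m⁻¹`
  obtain ⟨y2, hy2'⟩ : ∃ y2, y2 = b * x * b⁻¹ * x⁻¹ := ⟨_, rfl⟩
  have hy2s : y2 ∈ X s := by
    have := A2.comm_mem R hA' hb hx
    rw [e2, commutatorElement_def] at this
    rw [hy2']; exact this
  obtain ⟨x2, hx2'⟩ : ∃ x2, x2 = g * y2 * g⁻¹ * y2⁻¹ := ⟨_, rfl⟩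
  have hx2r : x2 ∈ X r := by
    have := A2.comm_mem R hA hg hy2s
    rw [e1, commutatorElement_def] at this
    rw [hx2']; exact this
  obtain ⟨y3, hy3'⟩ : ∃ y3, y3 = a * (x2 * x) * a⁻¹ * (x2 * x)⁻¹ := ⟨_, rfl⟩
  have hy3s : y3 ∈ X s := by
    have := A2.comm_mem R hA' ha (mul_mem hx2r hx)
    rw [e2, commutatorElement_def] at this
    rw [hy3']; exact this
  have g1 : m * x * m⁻¹ = y3 * y2 * (x2 * x) := by
    have c1 : b * x * b⁻¹ = y2 * x := by rw [hy2']; group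
    have c2 : g * y2 * g⁻¹ = x2 * y2 := by rw [hx2']; group
    have c3 : g * x * g⁻¹ = x := by rw [cgr g hg x hx]; group
    have c4 : a * y2 * a⁻¹ = y2 := by rw [cas a ha y2 hy2s]; group
    have c5 : x2 * y2 = y2 * x2 := cXX x2 hx2r y2 hy2s
    calc m * x * m⁻¹ = a * (g * (b * x * b⁻¹) * g⁻¹) * a⁻¹ := by rw [he]; group
      _ = a * ((g * y2 * g⁻¹) * (g * x * g⁻¹)) * a⁻¹ := by rw [c1]; group
      _ = a * (x2 * y2 * x) * a⁻¹ := by rw [c2, c3]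
      _ = (a * y2 * a⁻¹) * (a * (x2 * x) * a⁻¹) := by rw [c5]; group
      _ = y2 * (y3 * (x2 * x)) := by rw [c4, hy3']; group
      _ = y3 * y2 * (x2 * x) := by
        have c6 : y2 * y3 = y3 * y2 := by
          have h7 := A2.comm_self R hA'.symm (u := y2) (v := y3)
            (by rw [add_comm, e2]; exact hy2s) (by rw [add_comm, e2]; exact hy3s)
          exact h7
        rw [← mul_assoc, c6]
  have g2 : m * x * m⁻¹ ∈ X s := by
    have := R.conj_rp hm hr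
    rw [w2] at this
    rw [← this]
    exact conj_mem_cj.2 hx
  have g3 : x2 * x = 1 := by
    refine inf R hr hs h4 h6 hrs (mul_mem hx2r hx) ?_
    have e3 : x2 * x = (y3 * y2)⁻¹ * (m * x * m⁻¹) := by rw [g1]; group
    rw [e3]; exact mul_mem (inv_mem (mul_mem hy3s hy2s)) g2
  have g4 : y3 = 1 := by rw [hy3', g3]; group
  have hxi : x⁻¹ = x := inv_eq_of_mul_eq_one_left (Xsq r hr x hx)
  have g5 : x2 = x := by rw [← hxi]; exact eq_inv_of_mul_eq_one_left g3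
  have g6 : y2 = y := by
    refine A2.comm_inj R hA hg hg1 hy2s hy ?_
    rw [hgy, commutatorElement_def, ← hx2', g5]
  have g7 : m * x * m⁻¹ = y := by rw [g1, g3, g4, g6]; group
  refine ⟨m, (tN w m hm).symm, g7, f4, ?_, ?_⟩
  · intro v hv
    have := D.eqv w m hm r hr v hv
    rwa [w2] at this
  · intro v hv
    have := D.eqv w m hm s hs v hv
    rwa [w1] at this

variable (hirr : ∀ J : Set I, J.Nonempty → Jᶜ.Nonempty → ∃ i ∈ J, ∃ j ∈ Jᶜ, M i j ≠ 2) (h3 : 3 ≤ Fintype.card I)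

include h4 h6 hirr h3

/-- The root groups have exponent `2`. -/
theorem Xsq [Finite G] (R : RGD cs h 2 T n X) : ∀ r, IsRoot cs h r → ∀ x ∈ X r, x * x = 1 := fun r hr x hx => by
  have : Fact (Nat.Prime 2) := ⟨Nat.prime_two⟩
  obtain ⟨s, hs, hrs⟩ := exists_neg_one h4 h6 hirr h3 hr
  rw [← pow_two]
  exact pow_eq_one R (a2 h4 h6 hr hs hrs) hx

theorem YData0.preW [Finite G] (D : YData0 R t V) (tt : t * t = 1)
    (tX : ∀ r, IsRoot cs h r → ∀ x ∈ X r, t * x = x * t) (tN : ∀ w k, Rp cs R.nsys w k → t * k = k * t)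
    (K2 : ∀ r ∈ {x | IsRoot cs h x}, ∀ s ∈ {x | IsRoot cs h x}, Bf A r s = 1 → ∀ c, c * t = t * c →
      (∀ a ∈ {x | IsRoot cs h x}, 0 ≤ Bf A a r → 0 ≤ Bf A a s → ∀ x ∈ X a, c * x = x * c) →
      ∃ x ∈ X r, ∃ y ∈ X s, c = x * y ∨ c = t * (x * y))
    (hcard : ∀ r, IsRoot cs h r → 2 < Nat.card ↥(X r)) :
    D7Ex.PreW t (Bf A) {x | IsRoot cs h x} X V where
  roots := roots cs h h4 h6
  tt := tt
  tX := tX
  Xsq := Xsq h4 h6 hirr h3 R
  XW := D.XW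
  Wsq := D.sq
  brk := D.brk
  cent := D.cent
  surj := D.surj
  WX := D.WX
  inf := fun r hr s hs hrs x hx hx' => inf R hr hs h4 h6 hrs hx hx'
  neg := fun r hr s hs hrs x hx y hy => OfRGD.comm_neg_one h4 h6 R hr hs hrs x hx y hy
  sur := fun a ha b hb hab y hy hy1 z hz => by
    obtain ⟨x, hx, e⟩ := A2.comm_surj R (a2 h4 h6 ha hb hab).symm hy hy1 (w := z⁻¹) (by
      rw [add_comm]; exact inv_mem hz)
    refine ⟨x, hx, ?_⟩
    rw [← commutatorElement_def, ← commutatorElement_inv, e, inv_inv]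
  K2 := K2
  swap := fun r hr s hs hrs x hx y hy hx1 hy1 =>
    D.swap h4 h6 (Xsq h4 h6 hirr h3 R) tN hr hs hrs hx hy hx1 hy1
  three := fun r hr x hx => by
    by_contra hcon
    push Not at hcon
    have hs : Function.Surjective (fun b : Bool => if b then (1 : ↥(X r)) else ⟨x, hx⟩) := by
      intro y
      by_cases h0 : (y : G) = 1
      · exact ⟨true, Subtype.ext h0.symm⟩
      · exact ⟨false, Subtype.ext (hcon y y.2 h0).symm⟩
    have h1 := Nat.card_le_card_of_surjective _ hs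
    have h2 := hcard r hr
    simp at h1
    omega

/-- The doubled root groups are abelian for `q > 2`. -/
theorem YData0.yData [Finite G] (D : YData0 R t V) (tt : t * t = 1)
    (tX : ∀ r, IsRoot cs h r → ∀ x ∈ X r, t * x = x * t) (tN : ∀ w k, Rp cs R.nsys w k → t * k = k * t)
    (K2 : ∀ r ∈ {x | IsRoot cs h x}, ∀ s ∈ {x | IsRoot cs h x}, Bf A r s = 1 → ∀ c, c * t = t * c →
      (∀ a ∈ {x | IsRoot cs h x}, 0 ≤ Bf A a r → 0 ≤ Bf A a s → ∀ x ∈ X a, c * x = x * c) →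
      ∃ x ∈ X r, ∃ y ∈ X s, c = x * y ∨ c = t * (x * y))
    (hcard : ∀ r, IsRoot cs h r → 2 < Nat.card ↥(X r)) : YData R t V := by
  have P := D.preW h4 h6 hirr h3 tt tX tN K2 hcard
  refine D.toYData fun r hr v hv w hw => ?_
  have hR := roots cs h h4 h6
  obtain ⟨s, hs, hrs⟩ := exists_neg_one h4 h6 hirr h3 hr
  exact P.ab hr hs.neg (by rw [hR.neg_right, hrs]; norm_num) hv hw

omit h4 h6 hirr h3 in
/-- ... and for `q = 2`. -/
theorem YData0.yData_two (D : YData0 R t V) (sq : ∀ r, IsRoot cs h r → ∀ w ∈ V r, w * w = 1) : YData R t V := by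
  refine D.toYData fun r hr v hv w hw => ?_
  have h1 := sq r hr _ (mul_mem hv hw)
  have hv' : v⁻¹ = v := inv_eq_of_mul_eq_one_left (sq r hr v hv)
  have hw' : w⁻¹ = w := inv_eq_of_mul_eq_one_left (sq r hr w hw)
  have h2 : v * w = (v * w)⁻¹ := eq_inv_of_mul_eq_one_left h1
  rw [h2, mul_inv_rev, hv', hw']

end Conn

end Cfsg.Agent.OddHalf.SL.Base0
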