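import Cfsg.Agent.OddHalf.SL.Rest

/-!
# THEOREM SL for `q = 2`

`dbl_of_two`: `PreY`, `Two` ⇒ `Dbl` (simply laced `Φ`, every pair at `60°` lies in a triple).

The only problem is `t ∉ F = ⟨W r, W s ^ X (r - s)⟩`. Otherwise `g y_s g = y_s y_r t e` (`Eps`), the elements
`a_r = y_r t` have order 4 and commute, and the action of `x_{r-s}`, `x_{m-s}` on `a_s` gives `x_r = x_m`.
-/

set_option autoImplicit false

namespace Cfsg.Agent.OddHalf.SL.TwoMain

open Cfsg.Agent.OddHalf.SL.Defs Cfsg.Agent.OddHalf.SL.General Cfsg.Agent.OddHalf.SL.Core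
open Cfsg.Agent.OddHalf.SL.One Cfsg.Agent.OddHalf.SL.Rest

variable {L : Type*} [AddCommGroup L] {G : Type*} [Group G]
variable {t : G} {B : L → L → ℤ} {Φ : Set L} {X W : L → Subgroup G} {Y : L → L → Set G}

theorem bt_cancel (h : PreY t B Φ X W Y) {r : L} (hr : r ∈ Φ) {w w' : G} (hw : w ∈ W r) (hw' : w' ∈ W r)
    (he : bt t w = bt t w') : w⁻¹ * w' ∈ X r := by
  apply mem_X_of_bt h hr (mul_mem (inv_mem hw) hw')
  rw [bt_hom h hr (inv_mem hw) hw', ← he]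
  have h4 := bt_hom h hr (inv_mem hw) hw
  rw [inv_mul_cancel, bt_of_comm h.tt (by rw [mul_one, one_mul])] at h4
  exact h4.symm

/-- `[g, y] ≠ 1` -/
theorem conj_ne (h : PreY t B Φ X W Y) {r s : L} (T : Tri B Φ r s) {g y : G} (hg : g ∈ X (r - s)) (hg1 : g ≠ 1)
    (hy : y ∈ X s) (hy1 : y ≠ 1) : g * y * g⁻¹ * y⁻¹ ≠ 1 := by
  intro h1
  have h2 : g * y = y * g := by
    calc g * y = (g * y * g⁻¹ * y⁻¹) * (y * g) := by group
      _ = y * g := by rw [h1, one_mul]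
  rcases h.Xnd _ T.hd _ T.hs T.ds g hg y hy h2 with h3 | h3
  · exact hg1 h3
  · exact hy1 h3

/-- the Weyl element `q⁻¹ g` maps `W s` onto `W r` -/
theorem nW (h : PreY t B Φ X W Y) (hb : Two B Φ X W) {r s : L} (T : Tri B Φ r s) {g q : G} (hg : g ∈ X (r - s))
    (hg1 : g ≠ 1) (hq : q ∈ X (s - r)) (hq1 : q ≠ 1) (w : G) :
    w ∈ W s ↔ (q⁻¹ * g) * w * (q⁻¹ * g)⁻¹ ∈ W r := by
  obtain ⟨q', hq', hqw⟩ := h.tri r T.hr s T.hs T.rs g hg hg1
  have hq'1 : q' ≠ 1 := by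
    rintro rfl
    obtain ⟨x, hx, hx1⟩ := exists_ne h T.hs
    have h1 := (hqw x).1 (h.XW s T.hs hx)
    have e : (1 : G)⁻¹ * (g * x * g⁻¹) * 1 = g * x * g⁻¹ := by group
    rw [e] at h1
    have c1 : Commute t g := h.tX _ T.hd g hg
    have c2 : Commute t x := h.tX s T.hs x hx
    have h2 : g * x * g⁻¹ ∈ X r := h.cent r T.hr _ h1 ((c1.mul_right c2).mul_right c1.inv_right).eq
    have h3 := conj_X h T hg hx
    have h4 : x ∈ X r := by
      have : x = (g * x * g⁻¹ * x⁻¹)⁻¹ * (g * x * g⁻¹) := by group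
      rw [this]; exact mul_mem (inv_mem h3) h2
    exact hx1 (disj h T h4 hx)
  rw [hqw w, hb.card _ T.hd' q hq q' hq' hq1 hq'1]
  have e : (q'⁻¹ * g) * w * (q'⁻¹ * g)⁻¹ = q'⁻¹ * (g * w * g⁻¹) * q' := by group
  rw [e]

theorem n_comm_t (h : PreY t B Φ X W Y) {r s : L} (T : Tri B Φ r s) {g q : G} (hg : g ∈ X (r - s))
    (hq : q ∈ X (s - r)) : (q⁻¹ * g) * t = t * (q⁻¹ * g) := by
  have c1 : Commute t g := h.tX _ T.hd g hg
  have c2 : Commute t q := h.tX _ T.hd' q hq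
  exact (c2.inv_right.mul_right c1).symm.eq

theorem nX (h : PreY t B Φ X W Y) (hb : Two B Φ X W) {r s : L} (T : Tri B Φ r s) {g q : G} (hg : g ∈ X (r - s))
    (hg1 : g ≠ 1) (hq : q ∈ X (s - r)) (hq1 : q ≠ 1) {x : G} (hx : x ∈ X s) :
    (q⁻¹ * g) * x * (q⁻¹ * g)⁻¹ ∈ X r := by
  apply h.cent r T.hr _ ((nW h hb T hg hg1 hq hq1 x).1 (h.XW s T.hs hx))
  have c1 : Commute (q⁻¹ * g) t := n_comm_t h T hg hq
  have c2 : Commute t x := h.tX s T.hs x hx
  exact ((c1.symm.mul_right c2).mul_right c1.symm.inv_right).eq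

/-! ### The dichotomy -/

/-- `g y_s g⁻¹ ∈ y_s y_r t E` -/
def Eps (t : G) (X W : L → Subgroup G) (r s : L) : Prop :=
  ∃ g ∈ X (r - s), ∃ v ∈ W r, ∃ u ∈ W s, g ≠ 1 ∧ bt t v ≠ 1 ∧ bt t u ≠ 1 ∧
    ∃ x ∈ X r, ∃ y ∈ X s, g * u * g⁻¹ = u * v * t * (x * y)

theorem Eps.all (h : PreY t B Φ X W Y) (hb : Two B Φ X W) {r s : L} (T : Tri B Φ r s) (hE : Eps t X W r s) :
    ∀ g ∈ X (r - s), ∀ v ∈ W r, ∀ u ∈ W s, g ≠ 1 → bt t v ≠ 1 → bt t u ≠ 1 →
    ∃ x ∈ X r, ∃ y ∈ X s, g * u * g⁻¹ = u * v * t * (x * y) := by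
  obtain ⟨g', hg', v', hv', u', hu', hg1', hbv', hbu', x', hx', y', hy', he⟩ := hE
  intro g hg v hv u hu hg1 hbv hbu
  have e1 : g = g' := hb.card _ T.hd g hg g' hg' hg1 hg1'
  subst e1
  have h1 : bt t v' = bt t v := hb.card r T.hr _ (bt_mem h T.hr hv') _ (bt_mem h T.hr hv) hbv' hbv
  have h2 : bt t u' = bt t u := hb.card s T.hs _ (bt_mem h T.hs hu') _ (bt_mem h T.hs hu) hbu' hbu
  obtain ⟨x1, hx1e⟩ : ∃ x1, x1 = v'⁻¹ * v := ⟨_, rfl⟩
  obtain ⟨y1, hy1e⟩ : ∃ y1, y1 = u'⁻¹ * u := ⟨_, rfl⟩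
  have hx1 : x1 ∈ X r := by rw [hx1e]; exact bt_cancel h T.hr hv' hv h1
  have hy1 : y1 ∈ X s := by rw [hy1e]; exact bt_cancel h T.hs hu' hu h2
  have ev : v = v' * x1 := by rw [hx1e]; group
  have eu : u = u' * y1 := by rw [hy1e]; group
  obtain ⟨x2, hx2e⟩ : ∃ x2, x2 = g * y1 * g⁻¹ * y1⁻¹ := ⟨_, rfl⟩
  have hx2 : x2 ∈ X r := by rw [hx2e]; exact conj_X h T hg hy1
  have hrs : 0 ≤ B r s := by rw [T.rs]; norm_num
  have cxy : ∀ x ∈ X r, ∀ y ∈ X s, Commute x y := fun x hx y hy => XX h T.hr T.hs hrs hx hy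
  have cxx : ∀ x ∈ X r, ∀ y ∈ X r, Commute x y := fun x hx y hy => XX h T.hr T.hr (rr h T.hr) hx hy
  have cyv : ∀ y ∈ X s, Commute v' y := fun y hy => h.WX r T.hr s T.hs (by rw [T.sr]; norm_num) v' hv' y hy
  have ctx : ∀ x ∈ X r, Commute t x := fun x hx => h.tX r T.hr x hx
  have cty : ∀ y ∈ X s, Commute t y := fun y hy => h.tX s T.hs y hy
  refine ⟨x1⁻¹ * x' * x2, mul_mem (mul_mem (inv_mem hx1) hx') hx2, y1⁻¹ * y' * y1,
    mul_mem (mul_mem (inv_mem hy1) hy') hy1, ?_⟩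
  have e3 : g * u * g⁻¹ = u' * v' * t * (x' * y') * (x2 * y1) := by
    rw [← he, hx2e, eu]; group
  rw [e3, ev, eu]
  have c1 : y1 * v' = v' * y1 := (cyv y1 hy1).symm.eq
  have c2 : x1 * t = t * x1 := (ctx x1 hx1).symm.eq
  have c3 : y1 * t = t * y1 := (cty y1 hy1).symm.eq
  have c4 : y' * x2 = x2 * y' := (cxy x2 hx2 y' hy').symm.eq
  have c5 : y1 * x1 = x1 * y1 := (cxy x1 hx1 y1 hy1).symm.eq
  have c6 : y1 * (x' * x2) = (x' * x2) * y1 := (cxy (x' * x2) (mul_mem hx' hx2) y1 hy1).symm.eq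
  calc u' * v' * t * (x' * y') * (x2 * y1) = u' * v' * t * x' * (y' * x2) * y1 := by group
    _ = u' * v' * t * ((x' * x2) * y' * y1) := by rw [c4]; group
    _ = u' * v' * t * (y1 * y1⁻¹ * (x' * x2) * y' * y1) := by group
    _ = u' * v' * t * (y1 * ((x' * x2) * y1⁻¹) * y' * y1) := by
        have : y1⁻¹ * (x' * x2) = (x' * x2) * y1⁻¹ :=
          ((cxy (x' * x2) (mul_mem hx' hx2) y1 hy1).symm.inv_left).eq
        rw [mul_assoc y1 y1⁻¹, this]
    _ = u' * v' * (t * y1) * (x' * x2) * (y1⁻¹ * y' * y1) := by group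
    _ = u' * (v' * y1) * t * (x' * x2) * (y1⁻¹ * y' * y1) := by rw [← c3]; group
    _ = u' * (y1 * v') * t * (x' * x2) * (y1⁻¹ * y' * y1) := by rw [c1]
    _ = u' * y1 * v' * (t * x1) * (x1⁻¹ * x' * x2) * (y1⁻¹ * y' * y1) := by group
    _ = u' * y1 * v' * (x1 * t) * (x1⁻¹ * x' * x2) * (y1⁻¹ * y' * y1) := by rw [← c2]
    _ = u' * y1 * (v' * x1) * t * (x1⁻¹ * x' * x2 * (y1⁻¹ * y' * y1)) := by group

theorem k_comm (h : PreY t B Φ X W Y) {r s : L} (T : Tri B Φ r s) {g u v : G} (hg : g ∈ X (r - s))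
    (hu : u ∈ W s) (hv : v ∈ W r) (hbv : bt t v = g * bt t u * g⁻¹ * (bt t u)⁻¹) :
    (v⁻¹ * u⁻¹ * (g * u * g⁻¹)) * t = t * (v⁻¹ * u⁻¹ * (g * u * g⁻¹)) := by
  obtain ⟨y0, hy0⟩ : ∃ y0, y0 = bt t u := ⟨_, rfl⟩
  have hy0X : y0 ∈ X s := by rw [hy0]; exact bt_mem h T.hs hu
  obtain ⟨x', hx'e⟩ : ∃ x', x' = bt t v := ⟨_, rfl⟩
  have hx' : x' ∈ X r := by rw [hx'e]; exact bt_mem h T.hr hv
  have hgt : g * t = t * g := (h.tX _ T.hd g hg).symm
  have hti := ti h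
  have ti' : ∀ x : G, t * x⁻¹ * t = (t * x * t)⁻¹ := by
    intro x; rw [mul_inv_rev, mul_inv_rev, hti]; group
  have hxE : x' ∈ Es h T := Es_left h T hx'
  have hyE : y0 ∈ Es h T := Es_right h T hy0X
  refine t_comm_of h.tt (c' := (v * x')⁻¹ * (u * y0)⁻¹ * ((g * u * g⁻¹) * (x' * y0))) ?_ ?_
  · have e1 : t * (g * u * g⁻¹) * t = (g * u * g⁻¹) * (x' * y0) := by
      rw [tw, bt_conj hgt, hx'e, hbv, hy0]; group
    calc t * (v⁻¹ * u⁻¹ * (g * u * g⁻¹)) * t = (t * v⁻¹ * t) * (t * u⁻¹ * t) * (t * (g * u * g⁻¹) * t) := by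
          calc t * (v⁻¹ * u⁻¹ * (g * u * g⁻¹)) * t = t * v⁻¹ * u⁻¹ * (g * u * g⁻¹) * t := by group
            _ = t * v⁻¹ * (t * t) * u⁻¹ * (t * t) * (g * u * g⁻¹) * t := by rw [h.tt]; group
            _ = _ := by group
      _ = (v * x')⁻¹ * (u * y0)⁻¹ * ((g * u * g⁻¹) * (x' * y0)) := by
          rw [ti', ti', tw t v, tw t u, ← hx'e, ← hy0, e1]
  · have hvF := Wr_le X W r s hv
    have huF := Ws_le X W r s hu
    have hgF := conj_mem_Fs hg hu
    have c1 := fs_comm_Es h T (mul_mem hxE hyE) (mul_mem (mul_mem (inv_mem hvF) (inv_mem huF)) hgF)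
    have c4 : x' * y0 = y0 * x' := XX h T.hr T.hs (by rw [T.rs]; norm_num) hx' hy0X
    have c7 : Commute y0 v⁻¹ := (fs_comm_Es h T hyE (inv_mem hvF)).symm
    rw [mul_inv_rev, mul_inv_rev]
    calc x'⁻¹ * v⁻¹ * (y0⁻¹ * u⁻¹) * (g * u * g⁻¹ * (x' * y0))
        = x'⁻¹ * (v⁻¹ * y0⁻¹) * u⁻¹ * (g * u * g⁻¹) * (x' * y0) := by group
      _ = x'⁻¹ * (y0⁻¹ * v⁻¹) * u⁻¹ * (g * u * g⁻¹) * (x' * y0) := by rw [c7.inv_left.eq]
      _ = x'⁻¹ * y0⁻¹ * ((v⁻¹ * u⁻¹ * (g * u * g⁻¹)) * (x' * y0)) := by group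
      _ = x'⁻¹ * y0⁻¹ * ((x' * y0) * (v⁻¹ * u⁻¹ * (g * u * g⁻¹))) := by rw [c1]
      _ = (y0 * x')⁻¹ * (x' * y0) * (v⁻¹ * u⁻¹ * (g * u * g⁻¹)) := by group
      _ = v⁻¹ * u⁻¹ * (g * u * g⁻¹) := by rw [c4, inv_mul_cancel, one_mul]

/-- `W r W s` -/
def Ps (h : PreY t B Φ X W Y) {r s : L} (T : Tri B Φ r s) : Subgroup G where
  carrier := {f | ∃ a ∈ W r, ∃ b ∈ W s, f = a * b}
  one_mem' := ⟨1, one_mem _, 1, one_mem _, (mul_one 1).symm⟩
  mul_mem' := by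
    rintro _ _ ⟨a, ha, b, hb, rfl⟩ ⟨a', ha', b', hb', rfl⟩
    obtain ⟨x, hx, y, hy, hc⟩ := comm_mem h T.hs T.hr T.sr hb ha'
    refine ⟨a * y * a', mul_mem (mul_mem ha (h.XW r T.hr hy)) ha', x * b * b',
      mul_mem (mul_mem (h.XW s T.hs hx) hb) hb', ?_⟩
    have c1 : x * y = y * x := (XX h T.hr T.hs (by rw [T.rs]; norm_num) hy hx).symm
    have c2 : a' * x = x * a' := h.WX r T.hr s T.hs (by rw [T.sr]; norm_num) a' ha' x hx
    calc a * b * (a' * b') = a * (b * a' * b⁻¹ * a'⁻¹) * a' * b * b' := by group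
      _ = a * (y * x) * a' * b * b' := by rw [hc, c1]
      _ = a * y * (x * a') * b * b' := by group
      _ = a * y * a' * (x * b * b') := by rw [← c2]; group
  inv_mem' := by
    rintro _ ⟨a, ha, b, hb, rfl⟩
    obtain ⟨x, hx, y, hy, hc⟩ := comm_mem h T.hs T.hr T.sr (inv_mem hb) (inv_mem ha)
    refine ⟨y * a⁻¹, mul_mem (h.XW r T.hr hy) (inv_mem ha), x * b⁻¹, mul_mem (h.XW s T.hs hx) (inv_mem hb), ?_⟩
    have c1 : x * y = y * x := (XX h T.hr T.hs (by rw [T.rs]; norm_num) hy hx).symm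
    have c2 : a⁻¹ * x = x * a⁻¹ := h.WX r T.hr s T.hs (by rw [T.sr]; norm_num) _ (inv_mem ha) x hx
    calc (a * b)⁻¹ = (b⁻¹ * a⁻¹ * b⁻¹⁻¹ * a⁻¹⁻¹) * a⁻¹ * b⁻¹ := by group
      _ = (y * x) * a⁻¹ * b⁻¹ := by rw [hc, c1]
      _ = y * (x * a⁻¹) * b⁻¹ := by group
      _ = y * a⁻¹ * (x * b⁻¹) := by rw [← c2]; group

theorem Ps_r (h : PreY t B Φ X W Y) {r s : L} (T : Tri B Φ r s) {w : G} (hw : w ∈ W r) : w ∈ Ps h T :=
  ⟨w, hw, 1, one_mem _, (mul_one w).symm⟩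

theorem Ps_s (h : PreY t B Φ X W Y) {r s : L} (T : Tri B Φ r s) {w : G} (hw : w ∈ W s) : w ∈ Ps h T :=
  ⟨1, one_mem _, w, hw, (one_mul w).symm⟩

/-- `t ∉ W r W s` -/
theorem t_not_Ps (h : PreY t B Φ X W Y) {r s : L} (T : Tri B Φ r s) : t ∉ Ps h T := by
  rintro ⟨a, ha, b, hb, he⟩
  have h1 : bt t t = 1 := bt_of_comm h.tt rfl
  have hab : bt t (a * b) = bt t a * bt t b :=
    bt_mul h.tt (h.WX s T.hs r T.hr (by rw [T.rs]; norm_num) b hb _ (bt_mem h T.hr ha)).symm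
  rw [← he, h1] at hab
  have h2 : bt t a = (bt t b)⁻¹ := eq_inv_of_mul_eq_one_left hab.symm
  have h3 : bt t a ∈ X s := by rw [h2]; exact inv_mem (bt_mem h T.hs hb)
  have h4 : bt t a = 1 := disj h T (bt_mem h T.hr ha) h3
  have h5 : bt t b = 1 := by rw [h4, one_mul] at hab; exact hab.symm
  exact sup_nt h T.hr T.hs (mem_X_of_bt h T.hr ha h4) (mem_X_of_bt h T.hs hb h5) he.symm

theorem dich (h : PreY t B Φ X W Y) {r s : L} (T : Tri B Φ r s) (hE : ¬ Eps t X W r s) : t ∉ Fs X W r s := by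
  intro ht
  apply t_not_Ps h T
  have : Fs X W r s ≤ Ps h T := by
    rw [Fs, Subgroup.closure_le]
    rintro f (hf | ⟨g, hg, u, hu, rfl⟩)
    · exact Ps_r h T hf
    · by_cases hg1 : g = 1
      · rw [hg1, one_mul, inv_one, mul_one]; exact Ps_s h T hu
      by_cases hbu : bt t u = 1
      · have huX := mem_X_of_bt h T.hs hu hbu
        have e : g * u * g⁻¹ = (g * u * g⁻¹ * u⁻¹) * u := by group
        rw [e]
        exact mul_mem (Ps_r h T (h.XW r T.hr (conj_X h T hg huX))) (Ps_s h T hu)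
      have hx' := conj_X h T hg (bt_mem h T.hs hu)
      obtain ⟨v, hv, hbv⟩ := h.surj r T.hr _ hx'
      have hbv' : bt t v = g * bt t u * g⁻¹ * (bt t u)⁻¹ := hbv
      have hk := k_comm h T hg hu hv hbv'
      have hkF : v⁻¹ * u⁻¹ * (g * u * g⁻¹) ∈ Fs X W r s :=
        mul_mem (mul_mem (inv_mem (Wr_le X W r s hv)) (inv_mem (Ws_le X W r s hu))) (conj_mem_Fs hg hu)
      have e : g * u * g⁻¹ = u * v * (v⁻¹ * u⁻¹ * (g * u * g⁻¹)) := by group
      rcases ker_form h T hkF hk with ⟨x, hx, y, hy, h1⟩ | ⟨_, ⟨x, hx, y, hy, rfl⟩, h1⟩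
      · rw [e, h1]
        exact mul_mem (mul_mem (Ps_s h T hu) (Ps_r h T hv))
          (mul_mem (Ps_r h T (h.XW r T.hr hx)) (Ps_s h T (h.XW s T.hs hy)))
      · exfalso
        apply hE
        refine ⟨g, hg, v, hv, u, hu, hg1, ?_, hbu, x, hx, y, hy, ?_⟩
        · rw [hbv']; exact conj_ne h T hg hg1 (bt_mem h T.hs hu) hbu
        · rw [e, h1]; group
  exact this ht

/-! ### Symmetry and transport -/

theorem Eps.symm (h : PreY t B Φ X W Y) (hb : Two B Φ X W) {r s : L} (T : Tri B Φ r s) (hE : Eps t X W r s) :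
    Eps t X W s r := by
  obtain ⟨g, hg, v, hv, u, hu, hg1, hbv, hbu, -⟩ := id hE
  obtain ⟨q, hq, hq1⟩ := exists_ne h T.hd'
  obtain ⟨w, hw⟩ : ∃ w, w = (q⁻¹ * g) * u * (q⁻¹ * g)⁻¹ := ⟨_, rfl⟩
  have hwW : w ∈ W r := by rw [hw]; exact (nW h hb T hg hg1 hq hq1 u).1 hu
  have hbw : bt t w ≠ 1 := by
    rw [hw, bt_conj (n_comm_t h T hg hq)]
    intro h1
    apply hbu
    have : bt t u = (q⁻¹ * g)⁻¹ * ((q⁻¹ * g) * bt t u * (q⁻¹ * g)⁻¹) * (q⁻¹ * g) := by group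
    rw [this, h1]; group
  obtain ⟨x, hx, y, hy, he⟩ := hE.all h hb T g hg w hwW u hu hg1 hbw hbu
  obtain ⟨y1, hy1, x1, hx1, hc⟩ := comm_mem h T.hs T.hr T.sr (inv_mem hu) (inv_mem hwW)
  refine ⟨q, hq, u, hu, w, hwW, hq1, hbu, hbw, y1 * y, mul_mem hy1 hy, x1 * x, mul_mem hx1 hx, ?_⟩
  have cxy : ∀ x ∈ X r, ∀ y ∈ X s, Commute x y := fun x hx y hy =>
    XX h T.hr T.hs (by rw [T.rs]; norm_num) hx hy
  have c1 : (y1 * x1) * t = t * (y1 * x1) := by
    have c2 : Commute t y1 := h.tX s T.hs y1 hy1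
    have c3 : Commute t x1 := h.tX r T.hr x1 hx1
    exact (c2.mul_right c3).symm.eq
  have c4 : x * y = y * x := (cxy x hx y hy).eq
  have c5 : x1 * y = y * x1 := (cxy x1 hx1 y hy).eq
  calc q * w * q⁻¹ = g * u * g⁻¹ := by rw [hw]; group
    _ = u * w * t * (x * y) := he
    _ = w * u * (u⁻¹ * w⁻¹ * u⁻¹⁻¹ * w⁻¹⁻¹) * t * (x * y) := by group
    _ = w * u * ((y1 * x1) * t) * (x * y) := by rw [hc]; group
    _ = w * u * t * (y1 * (x1 * y) * x) := by rw [c1, c4]; group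
    _ = w * u * t * (y1 * y * (x1 * x)) := by rw [c5]; group

/-- `Eps s m → Eps r m` for a triple at `60°` -/
theorem Eps.trans (h : PreY t B Φ X W Y) (hb : Two B Φ X W) {r s m : L} (T : Tri B Φ r s) (Trm : Tri B Φ r m)
    (Tsm : Tri B Φ s m) (hE : Eps t X W s m) : Eps t X W r m := by
  have hrm := Trm.rs
  have hsm := Tsm.rs
  have hd := T.hd
  have e0 : r - m - (s - m) = r - s := by abel
  have e1 : s - m - (r - m) = s - r := by abel
  have T' : Tri B Φ (r - m) (s - m) := by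
    apply Tri.of h Trm.hd Tsm.hd
    rw [h.roots.sub_left, h.roots.sub_right, h.roots.sub_right, T.rs, hrm, h.roots.two m Trm.hs,
      Tsm.sr]
    norm_num
  obtain ⟨g, hg, hg1⟩ := exists_ne h T.hd
  obtain ⟨q, hq, hq1⟩ := exists_ne h T.hd'
  obtain ⟨g', hg', v', hv', u', hu', hg1', hbv', hbu', x', hx', y', hy', he⟩ := hE
  obtain ⟨n, hn⟩ : ∃ n, n = q⁻¹ * g := ⟨_, rfl⟩
  have hnt : n * t = t * n := by rw [hn]; exact n_comm_t h T hg hq
  have hB1 : B (r - s) m = 0 := by rw [h.roots.sub_left, hrm, hsm]; norm_num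
  have hB2 : B (s - r) m = 0 := by rw [h.roots.sub_left, hrm, hsm]; norm_num
  have cm : ∀ w ∈ W m, n * w * n⁻¹ = w := by
    intro w hw
    apply comm_conj
    have c1 : Commute w g := h.WX m Trm.hs _ T.hd (by rw [hB1]) w hw g hg
    have c2 : Commute w q := h.WX m Trm.hs _ T.hd' (by rw [hB2]) w hw q hq
    rw [hn]
    exact (c2.inv_right.mul_right c1).symm.eq
  have hinj : ∀ z : G, n * z * n⁻¹ = 1 → z = 1 := by
    intro z hz
    have : z = n⁻¹ * (n * z * n⁻¹) * n := by group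
    rw [this, hz]; group
  have hgg : n * g' * n⁻¹ ∈ X (r - m) := by
    rw [hn]
    exact nX h hb T' (by rw [e0]; exact hg) hg1 (by rw [e1]; exact hq) hq1 hg'
  refine ⟨n * g' * n⁻¹, hgg, n * v' * n⁻¹, ?_, u', hu', fun h1 => hg1' (hinj _ h1), ?_, hbu',
    n * x' * n⁻¹, ?_, y', hy', ?_⟩
  · rw [hn]; exact (nW h hb T hg hg1 hq hq1 v').1 hv'
  · rw [bt_conj hnt]; exact fun h1 => hbv' (hinj _ h1)
  · rw [hn]; exact nX h hb T hg hg1 hq hq1 hx'
  · have h1 : n * u' * n⁻¹ = u' := cm u' hu'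
    have h2 : n * y' * n⁻¹ = y' := cm y' (h.XW m Trm.hs hy')
    have h3 : n * t * n⁻¹ = t := comm_conj hnt
    calc n * g' * n⁻¹ * u' * (n * g' * n⁻¹)⁻¹ = n * g' * n⁻¹ * (n * u' * n⁻¹) * (n * g' * n⁻¹)⁻¹ := by rw [h1]
      _ = n * (g' * u' * g'⁻¹) * n⁻¹ := by group
      _ = n * (u' * v' * t * (x' * y')) * n⁻¹ := by rw [he]
      _ = (n * u' * n⁻¹) * (n * v' * n⁻¹) * (n * t * n⁻¹) * ((n * x' * n⁻¹) * (n * y' * n⁻¹)) := by group
      _ = _ := by rw [h1, h2, h3]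

/-! ### The elements `a_r = y_r t` -/

theorem a_sq (h : PreY t B Φ X W Y) (hb : Two B Φ X W) {r : L} (hr : r ∈ Φ) {v : G} (hv : v ∈ W r) :
    (v * t) * (v * t) = bt t v := by
  have h1 := hb.sq r hr v hv
  calc (v * t) * (v * t) = v * (t * v * t) := by group
    _ = (v * v) * bt t v := by rw [tw]; group
    _ = bt t v := by rw [h1, one_mul]

theorem a_t (h : PreY t B Φ X W Y) (hb : Two B Φ X W) {r : L} (hr : r ∈ Φ) {v : G} (hv : v ∈ W r) :
    t * (v * t) * t = (v * t)⁻¹ := by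
  have h1 := hb.sq r hr v hv
  have h2 : v⁻¹ = v := inv_eq_of_mul_eq_one_left h1
  rw [mul_inv_rev, ti h, h2]
  calc t * (v * t) * t = t * v * (t * t) := by group
    _ = t * v := by rw [h.tt, mul_one]

/-- the relations between `a_r` and `a_s` -/
theorem Eps.rel (h : PreY t B Φ X W Y) (hb : Two B Φ X W) {r s : L} (T : Tri B Φ r s) (hE : Eps t X W r s)
    {g v u : G} (hg : g ∈ X (r - s)) (hv : v ∈ W r) (hu : u ∈ W s) (hg1 : g ≠ 1) (hbv : bt t v ≠ 1)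
    (hbu : bt t u ≠ 1) :
    Commute (v * t) (u * t) ∧ Commute g (v * t) ∧
      ∃ α, (α = v * t ∨ α = (v * t)⁻¹) ∧ g * (u * t) * g⁻¹ = (u * t)⁻¹ * α := by
  obtain ⟨x, hx, y, hy, he⟩ := hE.all h hb T g hg v hv u hu hg1 hbv hbu
  obtain ⟨a, ha⟩ : ∃ a, a = v * t := ⟨_, rfl⟩
  obtain ⟨b, hbb⟩ : ∃ b, b = u * t := ⟨_, rfl⟩
  have haa : a * a = bt t v := by rw [ha]; exact a_sq h hb T.hr hv
  have hbb2 : b * b = bt t u := by rw [hbb]; exact a_sq h hb T.hs hu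
  have hta : t * a * t = a⁻¹ := by rw [ha]; exact a_t h hb T.hr hv
  have htb : t * b * t = b⁻¹ := by rw [hbb]; exact a_t h hb T.hs hu
  have cgt : Commute g t := (h.tX _ T.hd g hg).symm
  have cgv : Commute g v := (h.WX r T.hr _ T.hd (by rw [T.dr]; norm_num) v hv g hg).symm
  have cga : Commute g a := by rw [ha]; exact cgv.mul_right cgt
  have ctx : Commute t x := h.tX r T.hr x hx
  have cty : Commute t y := h.tX s T.hs y hy
  have cxv : Commute x v := (h.WX r T.hr r T.hr (rr h T.hr) v hv x hx).symm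
  have cyv : Commute y v := (h.WX r T.hr s T.hs (by rw [T.sr]; norm_num) v hv y hy).symm
  have cxu : Commute x u := (h.WX s T.hs r T.hr (by rw [T.rs]; norm_num) u hu x hx).symm
  have cyu : Commute y u := (h.WX s T.hs s T.hs (rr h T.hs) u hu y hy).symm
  have cxy : Commute x y := XX h T.hr T.hs (by rw [T.rs]; norm_num) hx hy
  have cxa : Commute x a := by rw [ha]; exact cxv.mul_right ctx.symm
  have cya : Commute y a := by rw [ha]; exact cyv.mul_right cty.symm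
  have cxb : Commute x b := by rw [hbb]; exact cxu.mul_right ctx.symm
  have cyb : Commute y b := by rw [hbb]; exact cyu.mul_right cty.symm
  have cgx : Commute g x := XX h T.hd T.hr (by rw [T.dr]; norm_num) hg hx
  have hxx : x * x = 1 := h.Xsq r T.hr x hx
  have hyy : y * y = 1 := h.Xsq s T.hs y hy
  -- `g b g⁻¹ = b a⁻¹ x y`
  have hvi : v⁻¹ = v := inv_eq_of_mul_eq_one_left (hb.sq r T.hr v hv)
  have E1 : g * b * g⁻¹ = b * a⁻¹ * (x * y) := by
    have cxyt : (x * y) * t = t * (x * y) := (ctx.mul_right cty).symm.eq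
    have h1 : a⁻¹ = t * v := by rw [ha, mul_inv_rev, hvi, ti h]
    calc g * b * g⁻¹ = (g * u * g⁻¹) * (g * t * g⁻¹) := by rw [hbb]; group
      _ = u * v * t * ((x * y) * t) := by rw [he, comm_conj cgt.eq]; group
      _ = u * v * (t * t) * (x * y) := by rw [cxyt]; group
      _ = u * v * (x * y) := by rw [h.tt, mul_one]
      _ = u * (t * t) * v * (x * y) := by rw [h.tt, mul_one]
      _ = b * a⁻¹ * (x * y) := by rw [hbb, h1]; group
  have cab : Commute a b := by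
    -- apply `t`
    have h1 : t * (g * b * g⁻¹) * t = (g * b * g⁻¹)⁻¹ := by
      calc t * (g * b * g⁻¹) * t = (t * g) * b * (g⁻¹ * t) := by group
        _ = (g * t) * b * (t * g⁻¹) := by rw [cgt.eq, cgt.inv_left.eq]
        _ = g * (t * b * t) * g⁻¹ := by group
        _ = (g * b * g⁻¹)⁻¹ := by rw [htb]; group
    rw [E1] at h1
    have h2 : t * (b * a⁻¹ * (x * y)) * t = b⁻¹ * a * (x * y) := by
      have hta' : t * a⁻¹ * t = a := by
        have : t * a⁻¹ * t = (t * a * t)⁻¹ := by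
          rw [mul_inv_rev, mul_inv_rev, ti h]; group
        rw [this, hta, inv_inv]
      have cxyt : t * (x * y) * t = x * y := by
        rw [(ctx.mul_right cty).eq, mul_assoc, h.tt, mul_one]
      calc t * (b * a⁻¹ * (x * y)) * t = t * b * (t * t) * a⁻¹ * (t * t) * (x * y) * t := by
            rw [h.tt]; group
        _ = (t * b * t) * (t * a⁻¹ * t) * (t * (x * y) * t) := by group
        _ = b⁻¹ * a * (x * y) := by rw [htb, hta', cxyt]
    have h3 : (b * a⁻¹ * (x * y))⁻¹ = a * b⁻¹ * (x * y) := by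
      have cc : Commute (x * y) (a * b⁻¹) :=
        (cxa.mul_right cxb.inv_right).mul_left (cya.mul_right cyb.inv_right)
      have hi : (x * y)⁻¹ = x * y := by
        apply inv_eq_of_mul_eq_one_left
        calc x * y * (x * y) = x * (y * x) * y := by group
          _ = (x * x) * (y * y) := by rw [← cxy.eq]; group
          _ = 1 := by rw [hxx, hyy, one_mul]
      calc (b * a⁻¹ * (x * y))⁻¹ = (x * y)⁻¹ * (a * b⁻¹) := by group
        _ = (x * y) * (a * b⁻¹) := by rw [hi]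
        _ = a * b⁻¹ * (x * y) := cc.eq
    rw [h2, h3] at h1
    have h4 : b⁻¹ * a = a * b⁻¹ := mul_right_cancel h1
    have h5 : Commute b⁻¹ a := h4
    have h6 := h5.inv_left
    rw [inv_inv] at h6
    exact h6.symm
  refine ⟨by rw [← ha, ← hbb]; exact cab, by rw [← ha]; exact cga, ?_⟩
  rw [← ha, ← hbb]
  -- `y ≠ 1`
  have hgg : g * g = 1 := h.Xsq _ T.hd g hg
  have h1 : g * (g * b * g⁻¹) * g⁻¹ = b := by
    calc g * (g * b * g⁻¹) * g⁻¹ = (g * g) * b * (g * g)⁻¹ := by group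
      _ = b := by rw [hgg]; group
  have h2 : g * (g * b * g⁻¹) * g⁻¹ = (g * b * g⁻¹) * a⁻¹ * x * (g * y * g⁻¹) := by
    calc g * (g * b * g⁻¹) * g⁻¹ = g * (b * a⁻¹ * (x * y)) * g⁻¹ := by rw [E1]
      _ = (g * b * g⁻¹) * (g * a⁻¹ * g⁻¹) * (g * x * g⁻¹) * (g * y * g⁻¹) := by group
      _ = _ := by rw [comm_conj cga.inv_right.eq, comm_conj cgx.eq]
  have hy1 : y ≠ 1 := by
    rintro rfl
    rw [h1, E1] at h2
    apply hbv
    rw [← haa]
    have h3 : b * (a⁻¹ * a⁻¹) = b := by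
      have c1 : x * a⁻¹ = a⁻¹ * x := cxa.inv_right.eq
      calc b * (a⁻¹ * a⁻¹) = b * a⁻¹ * a⁻¹ * (x * x) := by rw [hxx]; group
        _ = b * a⁻¹ * (a⁻¹ * x) * x := by group
        _ = b * a⁻¹ * (x * 1) * a⁻¹ * x * (g * 1 * g⁻¹) := by rw [← c1]; group
        _ = b := h2.symm
    have h4 : a⁻¹ * a⁻¹ = 1 := mul_eq_left.1 h3
    have h5 : a * a = (a⁻¹ * a⁻¹)⁻¹ := by rw [mul_inv_rev, inv_inv]
    rw [h5, h4, inv_one]
  have hy2 : y = b * b := by
    rw [hbb2]; exact hb.card s T.hs y hy _ (bt_mem h T.hs hu) hy1 hbu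
  have hb4 : (b * b) * (b * b) = 1 := by rw [hbb2]; exact h.Xsq s T.hs _ (bt_mem h T.hs hu)
  have ha4 : (a * a) * (a * a) = 1 := by rw [haa]; exact h.Xsq r T.hr _ (bt_mem h T.hr hv)
  have hb3 : b * (b * b) = b⁻¹ := by
    apply eq_inv_of_mul_eq_one_left
    calc b * (b * b) * b = (b * b) * (b * b) := by group
      _ = 1 := hb4
  refine ⟨a⁻¹ * x, ?_, ?_⟩
  · by_cases hx1 : x = 1
    · right; rw [hx1, mul_one]
    · left
      have : x = a * a := by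
        rw [haa]; exact hb.card r T.hr x hx _ (bt_mem h T.hr hv) hx1 hbv
      rw [this]; group
  · rw [E1]
    have c1 : Commute (a⁻¹ * x) y := cya.symm.inv_left.mul_left cxy
    calc b * a⁻¹ * (x * y) = b * ((a⁻¹ * x) * y) := by group
      _ = b * (y * (a⁻¹ * x)) := by rw [c1.eq]
      _ = (b * y) * (a⁻¹ * x) := by group
      _ = b⁻¹ * (a⁻¹ * x) := by rw [hy2, hb3]

theorem not_eps (h : PreY t B Φ X W Y) (hb : Two B Φ X W) {r s : L} (T : Tri B Φ r s) : ¬ Eps t X W r s := by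
  intro hE
  obtain ⟨m, hm, hmr, hms⟩ := hb.three r T.hr s T.hs T.rs
  have hrm : B r m = 1 := by rw [h.roots.symm]; exact hmr
  have Trm : Tri B Φ r m := Tri.of h T.hr hm hrm
  have Tms : Tri B Φ m s := Tri.of h hm T.hs hms
  -- all three
  have E2 : Eps t X W m s := hE.trans h hb Trm.symm Tms T
  have E3 : Eps t X W r m := (E2.symm h hb Tms).trans h hb T Trm Tms.symm
  -- the elements
  obtain ⟨g1, hg1, hg11⟩ := exists_ne h T.hd
  obtain ⟨g2, hg2, hg21⟩ := exists_ne h Tms.hd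
  obtain ⟨g3, hg3, hg31⟩ := exists_ne h Trm.hd
  have ey : ∀ a ∈ Φ, ∃ y ∈ W a, bt t y ≠ 1 := by
    intro a ha
    obtain ⟨x, hx, hx1⟩ := exists_ne h ha
    obtain ⟨y, hy, he⟩ := h.surj a ha x hx
    have he' : bt t y = x := he
    exact ⟨y, hy, by rw [he']; exact hx1⟩
  obtain ⟨yr, hyr, hbr⟩ := ey r T.hr
  obtain ⟨ys, hys, hbs⟩ := ey s T.hs
  obtain ⟨ym, hym, hbm⟩ := ey m hm
  obtain ⟨c1, c2, α, hα, e1⟩ := hE.rel h hb T hg1 hyr hys hg11 hbr hbs
  obtain ⟨c3, c4, β, hβ, e2⟩ := E2.rel h hb Tms hg2 hym hys hg21 hbm hbs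
  obtain ⟨c5, -, -⟩ := E3.rel h hb Trm hg3 hyr hym hg31 hbr hbm
  obtain ⟨a, ha⟩ : ∃ a, a = yr * t := ⟨_, rfl⟩
  obtain ⟨b, hbb⟩ : ∃ b, b = ys * t := ⟨_, rfl⟩
  obtain ⟨c, hc⟩ : ∃ c, c = ym * t := ⟨_, rfl⟩
  rw [← ha, ← hbb] at c1
  rw [← hbb] at e1
  rw [← ha] at c2 hα
  rw [← hc, ← hbb] at c3
  rw [← hbb] at e2
  rw [← hc] at c4 hβ
  rw [← ha, ← hc] at c5
  -- `α² = a²`, `β² = c²`
  have hαα : α * α = bt t yr := by
    have h1 : a * a = bt t yr := by rw [ha]; exact a_sq h hb T.hr hyr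
    rcases hα with rfl | rfl
    · exact h1
    · have h2 : a⁻¹ * a⁻¹ = (a * a)⁻¹ := by group
      rw [h2, h1]; exact Xi h T.hr (bt_mem h T.hr hyr)
  have hββ : β * β = bt t ym := by
    have h1 : c * c = bt t ym := by rw [hc]; exact a_sq h hb hm hym
    rcases hβ with rfl | rfl
    · exact h1
    · have h2 : c⁻¹ * c⁻¹ = (c * c)⁻¹ := by group
      rw [h2, h1]; exact Xi h hm (bt_mem h hm hym)
  -- commutation
  have cαb : Commute α b := by
    rcases hα with rfl | rfl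
    · exact c1
    · exact c1.inv_left
  have cβb : Commute β b := by
    rcases hβ with rfl | rfl
    · exact c3
    · exact c3.inv_left
  have cαβ : Commute α β := by
    rcases hα with rfl | rfl <;> rcases hβ with rfl | rfl
    · exact c5
    · exact c5.inv_right
    · exact c5.inv_left
    · exact c5.inv_inv
  have cg1c : Commute g1 c := by
    have h0 : B (r - s) m = 0 := by rw [h.roots.sub_left, hrm, Tms.sr]; norm_num
    have h1 : Commute ym g1 := h.WX m hm _ T.hd (by rw [h0]) ym hym g1 hg1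
    have h2 : Commute t g1 := h.tX _ T.hd g1 hg1
    rw [hc]; exact h1.symm.mul_right h2.symm
  have cg2a : Commute g2 a := by
    have h0 : B (m - s) r = 0 := by rw [h.roots.sub_left, hmr, T.sr]; norm_num
    have h1 : Commute yr g2 := h.WX r T.hr _ Tms.hd (by rw [h0]) yr hyr g2 hg2
    have h2 : Commute t g2 := h.tX _ Tms.hd g2 hg2
    rw [ha]; exact h1.symm.mul_right h2.symm
  have cg1β : Commute g1 β := by
    rcases hβ with rfl | rfl
    · exact cg1c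
    · exact cg1c.inv_right
  have cg2α : Commute g2 α := by
    rcases hα with rfl | rfl
    · exact cg2a
    · exact cg2a.inv_right
  have cg12 : Commute g1 g2 := by
    have h0 : B (r - s) (m - s) = 1 := by
      rw [h.roots.sub_left, h.roots.sub_right, h.roots.sub_right, hrm, T.rs, Tms.sr, h.roots.two s T.hs]
      norm_num
    exact XX h T.hd Tms.hd (by rw [h0]; norm_num) hg1 hg2
  -- the two computations
  have f1 : g1 * (g2 * b * g2⁻¹) * g1⁻¹ = b * α⁻¹ * β := by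
    calc g1 * (g2 * b * g2⁻¹) * g1⁻¹ = g1 * (b⁻¹ * β) * g1⁻¹ := by rw [e2]
      _ = (g1 * b * g1⁻¹)⁻¹ * (g1 * β * g1⁻¹) := by group
      _ = (b⁻¹ * α)⁻¹ * β := by rw [e1, comm_conj cg1β.eq]
      _ = (α⁻¹ * b) * β := by group
      _ = b * α⁻¹ * β := by rw [cαb.inv_left.eq]
  have f2 : g2 * (g1 * b * g1⁻¹) * g2⁻¹ = b * β⁻¹ * α := by
    calc g2 * (g1 * b * g1⁻¹) * g2⁻¹ = g2 * (b⁻¹ * α) * g2⁻¹ := by rw [e1]
      _ = (g2 * b * g2⁻¹)⁻¹ * (g2 * α * g2⁻¹) := by group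
      _ = (b⁻¹ * β)⁻¹ * α := by rw [e2, comm_conj cg2α.eq]
      _ = (β⁻¹ * b) * α := by group
      _ = b * β⁻¹ * α := by rw [cβb.inv_left.eq]
  have f3 : g1 * (g2 * b * g2⁻¹) * g1⁻¹ = g2 * (g1 * b * g1⁻¹) * g2⁻¹ := by
    calc g1 * (g2 * b * g2⁻¹) * g1⁻¹ = (g1 * g2) * b * (g1 * g2)⁻¹ := by group
      _ = (g2 * g1) * b * (g2 * g1)⁻¹ := by rw [cg12.eq]
      _ = _ := by group
  rw [f1, f2] at f3
  have f4 : α⁻¹ * β = β⁻¹ * α := by
    have : b * (α⁻¹ * β) = b * (β⁻¹ * α) := by rw [← mul_assoc, f3]; group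
    exact mul_left_cancel this
  have f5 : β * β = α * α := by
    calc β * β = β * (α * (α⁻¹ * β)) := by group
      _ = β * (α * (β⁻¹ * α)) := by rw [f4]
      _ = (β * α) * (β⁻¹ * α) := by group
      _ = (α * β) * (β⁻¹ * α) := by rw [cαβ.eq]
      _ = α * α := by group
  rw [hαα, hββ] at f5
  have f6 : bt t yr ∈ X m := by rw [← f5]; exact bt_mem h hm hym
  exact hbr (disj h Trm (bt_mem h T.hr hyr) f6)

/-! ### The end -/

theorem _root_.Cfsg.Agent.OddHalf.SL.Rest.Ax.of_two (h : PreY t B Φ X W Y) (hb : Two B Φ X W) :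
    Ax t B Φ X W Y := by
  have hN : ∀ {r s : L}, Tri B Φ r s → t ∉ Fs X W r s := fun T => dich h T (not_eps h hb T)
  refine ⟨h, ?_, ?_, hb.sq⟩
  · intro r hr s hs hrs v hv w hw
    have T := Tri.of h hr hs hrs
    exact comm_one h T (hN T) (hN T.symm) hv hw
  · intro a ha s hs has g hg u hu
    have hm := h.roots.add a ha s hs has
    have T := Tri.of h hm hs (by rw [h.roots.add_left, has, h.roots.two s hs]; norm_num)
    have e : a + s - s = a := by abel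
    have hg' : g ∈ X (a + s - s) := by rw [e]; exact hg
    obtain ⟨w, hw, y, hy, h1, -⟩ := conj_form h T (hN T) hg' hu
    by_cases hg1 : g = 1
    · exact ⟨1, one_mem _, by rw [hg1]; group⟩
    have hgg : g * g = 1 := h.Xsq _ ha g hg
    have cwg : Commute w g := h.WX _ hm a ha (by rw [h.roots.add_right, h.roots.two a ha, has]; norm_num) w hw g hg
    have cwy : Commute w y := h.WX _ hm s hs (by rw [T.sr]; norm_num) w hw y hy
    have hww := hb.sq _ hm w hw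
    have h2 : u * (y * (g * y * g⁻¹)) = u := by
      calc u * (y * (g * y * g⁻¹)) = u * (w * w) * y * (g * y * g⁻¹) := by rw [hww]; group
        _ = u * w * (w * y) * (g * y * g⁻¹) := by group
        _ = (u * w * y) * w * (g * y * g⁻¹) := by rw [cwy.eq]; group
        _ = (g * u * g⁻¹) * (g * w * g⁻¹) * (g * y * g⁻¹) := by rw [h1, comm_conj cwg.symm.eq]
        _ = g * (u * w * y) * g⁻¹ := by group
        _ = (g * g) * u * (g * g)⁻¹ := by rw [← h1]; group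
        _ = u := by rw [hgg]; group
    have h3 : y * (g * y * g⁻¹) = 1 := mul_eq_left.1 h2
    have h4 : g * y = y * g := by
      have h5 : g * y * g⁻¹ = y⁻¹ := eq_inv_of_mul_eq_one_right h3
      rw [Xi h hs hy] at h5
      calc g * y = (g * y * g⁻¹) * g := by group
        _ = y * g := by rw [h5]
    rcases h.Xnd a ha s hs has g hg y hy h4 with h5 | h5
    · exact absurd h5 hg1
    · exact ⟨w, hw, by rw [h1, h5, mul_one]⟩

/-- **THEOREM SL for `q = 2`.** -/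
theorem dbl_of_two_Y (h : PreY t B Φ X W Y) (hb : Two B Φ X W) : Dbl t B Φ X W := dbl (Ax.of_two h hb)

theorem dbl_of_two (h : Pre t B Φ X W) (hb : Two B Φ X W) : Dbl t B Φ X W := dbl_of_two_Y (of_pre h) hb

end Cfsg.Agent.OddHalf.SL.TwoMain
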