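import Cfsg.Agent.OddHalf.SL.OfDatum
import Cfsg.Agent.OddHalf.SL.Base0
import Cfsg.Agent.OddHalf.SL.TwoMain
import Cfsg.Agent.KFacts.RgdAutN

/-!
# The growth in the whole of `C(t)` (outer automorphisms included)

`D₀ : Datum ⊤ q cs h T₀ n X` is a simply laced datum of the group `↥K`, `Full t K` : `K ⊴ C(t)`, `C(t) ∩ C(K) = ⟨t⟩`,
`t ∉ K`.

* `aut1`, `aut2` : automorphisms trivial on `⟨X a : (a, r) > 0⟩`, resp. on `⟨X a : (a, r + s) > 0⟩`, `(r, s) = 1`;
* `K1'`, `K2'` : the centralizer hypotheses of `Defs.Pre` for the whole of `C(t)`; `pre`;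
* `dbl_of_base` : `Base0 → YData, Dbl` for `q > 2`; `dbl_of_base_two` for `q = 2`.
-/

set_option autoImplicit false
set_option linter.unusedSectionVars false

namespace Cfsg.Agent.OddHalf.SL.OfAut

open CoxeterSystem Cfsg.Agent.ChevalleyStructure.CoxeterGeom Cfsg.Agent.Tits.Roots Cfsg.Agent.Tits.Core
  Cfsg.Agent.Tits.RootComb Cfsg.Agent.Nodes.Comb Cfsg.Agent.Nodes.Reps Cfsg.Agent.Nodes.BNOf
  Cfsg.Agent.Nodes.Bruhat Cfsg.Agent.Nodes.Coroot Cfsg.Agent.OddHalf.SL.Index Cfsg.Agent.OddHalf.SL.OfRGD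
  Cfsg.Agent.OddHalf.SL.PreOf Cfsg.Agent.KFacts.RgdSL Cfsg.Agent.KFacts.RgdTI Cfsg.Agent.KFacts.RgdCent
  Cfsg.Agent.KFacts.RgdOdd Cfsg.Agent.KFacts.SLRow.Def Cfsg.Agent.OddHalf.SL.Base0
open scoped commutatorElement

/-! ### Combinatorics -/

section Comb

variable {I W : Type*} [Fintype I] [DecidableEq I] [Group W] {M : CoxeterMatrix I}
  {cs : CoxeterSystem M W} {A : I → I → ℤ} {h : IsCartan M A} [Finite W] (h4 : ∀ i j, M i j ≠ 4)
  (h6 : ∀ i j, M i j ≠ 6)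

/-- The functional `a ↦ (a, r)`. -/
def fn (r : I → ℤ) (h4 : ∀ i j, M i j ≠ 4) (h6 : ∀ i j, M i j ≠ 6) (cs : CoxeterSystem M W) (h : IsCartan M A) :
    (I → ℤ) →+ ℤ :=
  AddMonoidHom.mk' (fun a => Bf A a r) fun a b => (roots cs h h4 h6).add_left a b r

theorem fn_apply (r a : I → ℤ) : fn r h4 h6 cs h a = Bf A a r := rfl

variable (hirr : Conn M)

include h4 h6 hirr

/-- a root `b ⊥ r, s` has a neighbour `a` with `(a, r) = 1`, `(a, s) ≥ 0`, `(a, b) = -1` -/
theorem nb {r s b : I → ℤ} (hr : IsRoot cs h r) (hs : IsRoot cs h s) (hb : IsRoot cs h b) (hrs : Bf A r s = 1)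
    (h1 : Bf A b r = 0) (h2 : Bf A b s = 0) : ∃ a, IsRoot cs h a ∧ Bf A a r = 1 ∧ 0 ≤ Bf A a s ∧ Bf A a b = -1 := by
  have hR := roots cs h h4 h6
  obtain ⟨a, ha, har, hab⟩ := orth h4 h6 hirr r hr b hb (by rw [hR.symm]; exact h1)
  refine ⟨a, ha, har, ?_, hab⟩
  by_contra hneg
  have g1 := hR.ge ha hs
  rcases (show Bf A a s = -1 ∨ Bf A a s = -2 by omega) with e | e
  · have h3 := hR.eq a ha (r - s) (hR.sub_mem hr hs hrs) (by rw [hR.sub_right, har, e]; norm_num)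
    rw [h3, hR.sub_left, hR.symm r b, hR.symm s b, h1, h2] at hab
    omega
  · have h3 := hR.eq_neg ha hs e
    rw [h3, hR.neg_left, hR.symm s b, h2] at hab
    omega

/-- `Ψ* = {r, s}` for `Ψ = {a | (a, r + s) > 0}`, `(r, s) = 1`. -/
theorem star_two {r s b : I → ℤ} (hr : IsRoot cs h r) (hs : IsRoot cs h s) (hb : IsRoot cs h b) (hrs : Bf A r s = 1)
    (hall : ∀ a, IsRoot cs h a → 0 < Bf A a r + Bf A a s → 0 ≤ Bf A b a) : b = r ∨ b = s := by
  have hR := roots cs h h4 h6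
  have hsr : Bf A s r = 1 := by rw [hR.symm]; exact hrs
  have h1 := hall r hr (by rw [hR.two r hr, hrs]; norm_num)
  have h2 := hall s hs (by rw [hR.two s hs, hsr]; norm_num)
  have l1 := hR.le b hb r hr
  have l2 := hR.le b hb s hs
  by_cases e1 : Bf A b r = 2
  · exact Or.inl (hR.eq b hb r hr e1)
  by_cases e2 : Bf A b s = 2
  · exact Or.inr (hR.eq b hb s hs e2)
  exfalso
  have key : ∀ {r s : I → ℤ}, IsRoot cs h r → IsRoot cs h s → Bf A r s = 1 →
      (∀ a, IsRoot cs h a → 0 < Bf A a r + Bf A a s → 0 ≤ Bf A b a) → Bf A b r = 1 → Bf A b s ≤ 1 → False := by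
    intro r s hr hs hrs hall e3 e4
    have hrb : Bf A r b = 1 := by rw [hR.symm]; exact e3
    have h3 := hall (r - b) (hR.sub_mem hr hb hrb) (by
      rw [hR.sub_left, hR.sub_left, hR.two r hr, hrs, e3]; omega)
    rw [hR.sub_right, hR.two b hb, e3] at h3
    omega
  by_cases e3 : Bf A b r = 1
  · exact key hr hs hrs hall e3 (by omega)
  by_cases e4 : Bf A b s = 1
  · exact key hs hr hsr (fun a ha h0 => hall a ha (by omega)) e4 (by omega)
  obtain ⟨a, ha, har, has, hab⟩ := nb h4 h6 hirr hr hs hb hrs (by omega) (by omega)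
  have h3 := hall a ha (by omega)
  rw [hR.symm, hab] at h3
  omega

end Comb

/-! ### Automorphisms -/

/-- the roots are conjugate -/
theorem exists_rep {I W Y : Type*} [Fintype I] [DecidableEq I] [Group W] [Group Y] {M : CoxeterMatrix I}
    {K : Subgroup Y} {q : ℕ} {cs : CoxeterSystem M W} {A : I → I → ℤ} {h : IsCartan M A} {T : Subgroup Y}
    {n : I → Y} {X : (I → ℤ) → Subgroup Y} [Finite W] (D : Datum K q cs h T n X) {r₀ r : I → ℤ}
    (hr₀ : IsRoot cs h r₀) (hr : IsRoot cs h r) : ∃ w, rep cs h w r₀ = r := by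
  have h2 : 2 ≤ Fintype.card I := by have := D.three; omega
  refine ind D.h4 D.h6 D.irr h2 (P := fun r => ∃ w, rep cs h w r₀ = r) hr₀ ⟨1, by
    rw [map_one, Module.End.one_apply]⟩ ?_ hr
  rintro _ s _ hs hrs ⟨w, rfl⟩
  have hR := roots cs h D.h4 D.h6
  have hr' : IsRoot cs h (rep cs h w r₀) := hr₀.act w
  obtain ⟨s', hs'⟩ : ∃ s' : W, ∀ y, rep cs h s' y = y - cpr cs h y (rep cs h w r₀ - s) • (rep cs h w r₀ - s) := by
    obtain ⟨v, i, e⟩ := hR.sub_mem hr' hs hrs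
    refine ⟨v * cs.simple i * v⁻¹, fun y => ?_⟩
    rw [rep_mul_apply, rep_mul_apply, rep_simple_eq, map_sub, rep_apply_inv, map_smul,
      ← cpr_rep_sr (cs := cs) (h := h), ← e]
  refine ⟨s'⁻¹ * w, ?_⟩
  rw [rep_mul_apply]
  have h3 := rep_sub D.h4 D.h6 hr' hs hrs hs'
  rw [← h3, rep_inv_apply]

section Aut

variable {I W Y : Type*} [Fintype I] [DecidableEq I] [Group W] [Group Y] {M : CoxeterMatrix I}
  {cs : CoxeterSystem M W} {A : I → I → ℤ} {h : IsCartan M A} {T : Subgroup Y} {n : I → Y}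
  {X : (I → ℤ) → Subgroup Y} {K : Subgroup Y} {q : ℕ}

section Cent

variable [Finite W] [Finite Y] (D : Datum K q cs h T n X)

include D

theorem cen_two {τ : Y} (hτ : τ ∈ T) {r s b : I → ℤ} (hr : IsRoot cs h r) (hs : IsRoot cs h s)
    (hrs : Bf A r s = 1) (hc : ∀ a, IsRoot cs h a → 0 < Bf A a r + Bf A a s → a ∈ Cen cs h X τ)
    (hb : IsRoot cs h b) : b ∈ Cen cs h X τ := by
  have hR := roots cs h D.h4 D.h6
  have hsr : Bf A s r = 1 := by rw [hR.symm]; exact hrs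
  have hrC := hc r hr (by rw [hR.two r hr, hrs]; norm_num)
  have hsC := hc s hs (by rw [hR.two s hs, hsr]; norm_num)
  have e0 : r - s ∈ Cen cs h X τ := by
    rw [sub_eq_add_neg]
    exact cen_add D.rgd (PreOf.a2 D.h4 D.h6 hr hs.neg (by rw [hR.neg_right, hrs])) hrC (cen_neg D.rgd hτ hsC)
  by_cases h1 : 0 < Bf A b r + Bf A b s
  · exact hc b hb h1
  by_cases h2 : Bf A b r + Bf A b s < 0
  · have := cen_neg D.rgd hτ (hc (-b) hb.neg (by rw [hR.neg_left, hR.neg_left]; omega))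
    rwa [neg_neg] at this
  have g1 := hR.ge hb hr
  have g2 := hR.ge hb hs
  have l1 := hR.le b hb r hr
  by_cases e1 : Bf A b r = 0
  · have e2 : Bf A b s = 0 := by omega
    obtain ⟨a, ha, har, has, hab⟩ := nb D.h4 D.h6 D.irr hr hs hb hrs e1 e2
    have haC := hc a ha (by omega)
    have hab' : IsRoot cs h (a + b) := hR.add a ha b hb hab
    have habC := hc (a + b) hab' (by rw [hR.add_left, hR.add_left]; omega)
    have e3 : b = (a + b) + -a := by abel
    rw [e3]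
    refine cen_add D.rgd (PreOf.a2 D.h4 D.h6 hab' ha.neg ?_) habC (cen_neg D.rgd hτ haC)
    rw [hR.neg_right, hR.add_left, hR.two a ha, hR.symm b a, hab]
    norm_num
  by_cases e2 : 0 < Bf A b r
  · -- `b = r - s` or `b = r`
    by_cases e3 : Bf A b r = 2
    · rw [hR.eq b hb r hr e3]; exact hrC
    · have := hR.eq b hb (r - s) (hR.sub_mem hr hs hrs) (by rw [hR.sub_right]; omega)
      rw [this]; exact e0
  · by_cases e3 : Bf A b r = -2
    · rw [hR.eq_neg hb hr e3]; exact cen_neg D.rgd hτ hrC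
    · have := hR.eq (-b) hb.neg (r - s) (hR.sub_mem hr hs hrs) (by
        rw [hR.neg_left, hR.sub_right]; omega)
      have h3 := cen_neg D.rgd hτ e0
      rwa [← this, neg_neg] at h3

/-- `C_K(⟨X a : (a, r + s) > 0⟩) = X r X s` for `(r, s) = 1`. -/
theorem cent_two {r s : I → ℤ} (hr : IsRoot cs h r) (hs : IsRoot cs h s) (hrs : Bf A r s = 1) {g : Y}
    (hg : g ∈ K) (hc : ∀ a, IsRoot cs h a → 0 < Bf A a r + Bf A a s → ∀ v ∈ X a, g * v = v * g) :
    g ∈ RGD.Sup X {r, s} := by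
  have hL := OfDatum.lr D
  have hR := roots cs h D.h4 D.h6
  set P : Set (I → ℤ) := {a | IsRoot cs h a ∧ 0 < Bf A a r + Bf A a s} with hP
  have hL' : ∀ a ∈ P, LR D.rgd a := fun a ha => hL a ha.1
  obtain ⟨τ, hτ, hPτ, z, hz, rfl⟩ := cent_eq D.rgd hL' (star_comm hL') (by rw [D.GG_eq]; exact hg)
    (fun a ha v hv => hc a ha.1 ha.2 v hv)
  have h1 : τ = 1 := D.cent τ hτ fun b hb =>
    (cen_two D hτ hr hs hrs (fun a ha h0 => hPτ ⟨ha, h0⟩) hb).2
  rw [h1, one_mul]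
  refine RGD.Sup_mono ?_ hz
  intro b hb
  refine star_two D.h4 D.h6 D.irr hr hs hb.1 hrs fun a ha h0 => ?_
  rw [bf_eq_cpr D.h4 D.h6 _ ha]
  exact hb.2 a ⟨ha, h0⟩

end Cent

variable [Finite W] [Finite Y] (D : Datum (⊤ : Subgroup Y) q cs h T n X)

include D

theorem hab (i : I) : ∀ a ∈ X (sr i), ∀ b ∈ X (sr i), a * b = b * a := by
  intro a ha b hb
  have h1 := Xsq D.h4 D.h6 D.irr D.three D.rgd (sr i) (isRoot_sr cs h i)
  have e1 : a⁻¹ = a := inv_eq_of_mul_eq_one_left (h1 a ha)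
  have e2 : b⁻¹ = b := inv_eq_of_mul_eq_one_left (h1 b hb)
  have e3 : a * b = (a * b)⁻¹ := eq_inv_of_mul_eq_one_left (h1 _ (mul_mem ha hb))
  rw [e3, mul_inv_rev, e1, e2]

/-- `r` is a sum of two roots `a`, `b` with `(a, r) = (b, r) = 1` -/
theorem split {r : I → ℤ} (hr : IsRoot cs h r) :
    ∃ a b, IsRoot cs h a ∧ IsRoot cs h b ∧ Bf A a r = 1 ∧ Bf A b r = 1 ∧ r = a + b := by
  have hR := roots cs h D.h4 D.h6
  obtain ⟨s, hs, hrs⟩ := exists_neg_one D.h4 D.h6 D.irr D.three hr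
  refine ⟨r + s, -s, hR.add r hr s hs hrs, hs.neg, ?_, ?_, by abel⟩
  · rw [hR.add_left, hR.two r hr, hR.symm s r, hrs]; norm_num
  · rw [hR.neg_left, hR.symm, hrs]; norm_num

/-- automorphisms trivial on `⟨X a : (a, r) > 0⟩` -/
theorem aut1 {r : I → ℤ} (hr : IsRoot cs h r) {α : MulAut Y}
    (hα : ∀ a, IsRoot cs h a → 0 < Bf A a r → ∀ v ∈ X a, α v = v) : ∃ z ∈ X r, α = MulAut.conj z := by
  have hsl := PreOf.sl (cs := cs) (h := h) D.h4 D.h6
  obtain ⟨z, hz, e⟩ := Cfsg.Agent.KFacts.RgdAutN.autN D.rgd D.gen (hab D) (fn r D.h4 D.h6 cs h) (S := {r}) (by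
      rintro c rfl
      obtain ⟨a, b, ha, hb, h1, h2, h3⟩ := split D hr
      exact ⟨hr, a, b, ha, hb, by rw [fn_apply, h1]; norm_num, by rw [fn_apply, h2]; norm_num, h3⟩) (by
      intro g hg
      refine RGD.le_Sup (S := {r}) rfl ?_
      refine f3_rad hsl hr (OfDatum.orth' D hr) D.rgd (OfDatum.lr D) D.cent (by rw [D.GG_eq]; trivial) ?_
      intro a ha v hv
      exact hg a ha.1 (by rw [fn_apply, bf_eq_cpr D.h4 D.h6 _ hr]; have := ha.2; omega) v hv)
    (α := α) (fun a ha h0 v hv => hα a ha h0 v hv)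
  refine ⟨z, ?_, e⟩
  refine (RGD.Sup_le fun c hc => ?_ : RGD.Sup X {r} ≤ X r) hz
  rw [Set.mem_singleton_iff] at hc
  rw [hc]

/-- automorphisms trivial on `⟨X a : (a, r + s) > 0⟩`, `(r, s) = 1` -/
theorem aut2 {r s : I → ℤ} (hr : IsRoot cs h r) (hs : IsRoot cs h s) (hrs : Bf A r s = 1) {α : MulAut Y}
    (hα : ∀ a, IsRoot cs h a → 0 < Bf A a r + Bf A a s → ∀ v ∈ X a, α v = v) :
    ∃ x ∈ X r, ∃ y ∈ X s, α = MulAut.conj (x * y) := by
  have hR := roots cs h D.h4 D.h6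
  have hsr : Bf A s r = 1 := by rw [hR.symm]; exact hrs
  -- a sum of two roots
  have key : ∀ {r s : I → ℤ}, IsRoot cs h r → IsRoot cs h s → Bf A r s = 1 →
      ∃ a b, IsRoot cs h a ∧ IsRoot cs h b ∧ 0 < Bf A a r + Bf A a s ∧ 0 < Bf A b r + Bf A b s ∧ r = a + b := by
    intro r s hr hs hrs
    obtain ⟨m, hm, hmr, hms⟩ := three D.h4 D.h6 D.irr D.three r hr s hs hrs
    have hrm : Bf A r m = 1 := by rw [hR.symm]; exact hmr
    refine ⟨m, r - m, hm, hR.sub_mem hr hm hrm, by omega, ?_, by abel⟩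
    rw [hR.sub_left, hR.sub_left, hR.two r hr, hmr, hrs, hms]
    norm_num
  obtain ⟨z, hz, e⟩ := Cfsg.Agent.KFacts.RgdAutN.autN D.rgd D.gen (hab D)
    (fn r D.h4 D.h6 cs h + fn s D.h4 D.h6 cs h) (S := {r, s}) (by
      rintro c (rfl | hc)
      · obtain ⟨a, b, ha, hb, h1, h2, h3⟩ := key hr hs hrs
        exact ⟨hr, a, b, ha, hb, h1, h2, h3⟩
      · rw [Set.mem_singleton_iff] at hc
        subst hc
        obtain ⟨a, b, ha, hb, h1, h2, h3⟩ := key hs hr hsr
        refine ⟨hs, a, b, ha, hb, ?_, ?_, h3⟩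
        · show 0 < Bf A a r + Bf A a c
          omega
        · show 0 < Bf A b r + Bf A b c
          omega) (by
      intro g hg
      exact cent_two D hr hs hrs (Subgroup.mem_top g) fun a ha h0 v hv => hg a ha h0 v hv)
    (α := α) (fun a ha h0 v hv => hα a ha h0 v hv)
  have hcomm : ∀ x ∈ X r, ∀ y ∈ X s, x * y = y * x := fun x hx y hy =>
    (OfDatum.lr D s hs).comm r hr (by rw [← bf_eq_cpr D.h4 D.h6 _ hs, hrs]; norm_num) x hx y hy
  have h1 : z ∈ X r ⊔ X s := by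
    refine (RGD.Sup_le fun c hc => ?_ : RGD.Sup X {r, s} ≤ X r ⊔ X s) hz
    rcases hc with rfl | hc
    · exact le_sup_left
    · rw [Set.mem_singleton_iff] at hc
      rw [hc]; exact le_sup_right
  obtain ⟨x, hx, y, hy, e'⟩ := OfDatum.mem_sup_of_comm hcomm h1
  exact ⟨x, hx, y, hy, by rw [e, e']⟩

end Aut

/-! ### The whole of `C(t)` -/

/-- `K ⊴ C(t)`, `C(t) ∩ C(K) = ⟨t⟩`, `t ∉ K`. -/
structure Full {G : Type*} [Group G] (t : G) (K : Subgroup G) : Prop where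
  tt : t * t = 1
  tK : t ∉ K
  Kt : ∀ k ∈ K, t * k = k * t
  nrm : ∀ g, g * t = t * g → ∀ u ∈ K, g * u * g⁻¹ ∈ K
  cK : ∀ g, g * t = t * g → (∀ u ∈ K, g * u = u * g) → g = 1 ∨ g = t

theorem _root_.Cfsg.Agent.OddHalf.SL.OfDatum.Clean.full {G : Type*} [Group G] {t : G} {K : Subgroup G}
    (C : OfDatum.Clean t K) : Full t K := ⟨C.tt, C.tK, C.Kt, C.nrm, C.cK⟩

namespace Full

variable {G : Type*} [Group G] {t : G} {K : Subgroup G} (C : Full t K)

include C

theorem mem_normalizer {g : G} (hg : g * t = t * g) : g ∈ Subgroup.normalizer (K : Set G) := by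
  have hg' : g⁻¹ * t = t * g⁻¹ := (show Commute g t from hg).inv_left.eq
  rw [Subgroup.mem_normalizer_iff]
  intro u
  refine ⟨fun hu => C.nrm g hg u hu, fun hu => ?_⟩
  have := C.nrm g⁻¹ hg' _ hu
  have e : g⁻¹ * (g * u * g⁻¹) * g⁻¹⁻¹ = u := by group
  rwa [e] at this

/-- An element of `C(t)` inducing the inner automorphism of `z ∈ K`. -/
theorem eq_of_conj {g : G} (hg : g * t = t * g) {z : ↥K}
    (hz : ∀ k : ↥K, g * k * g⁻¹ = (z : G) * k * (z : G)⁻¹) : g = z ∨ t * g = z := by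
  have h1 : ((z : G)⁻¹ * g) * t = t * ((z : G)⁻¹ * g) := by
    have c1 : Commute t (z : G) := C.Kt z z.2
    have c2 : Commute t g := (show Commute g t from hg).symm
    exact (c1.inv_right.mul_right c2).symm.eq
  have h2 := C.cK _ h1 fun u hu => by
    have h3 := hz ⟨u, hu⟩
    calc (z : G)⁻¹ * g * u = (z : G)⁻¹ * (g * u * g⁻¹) * g := by group
      _ = (z : G)⁻¹ * ((z : G) * u * (z : G)⁻¹) * g := by rw [h3]
      _ = u * ((z : G)⁻¹ * g) := by group
  rcases h2 with h2 | h2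
  · exact Or.inl (inv_mul_eq_one.1 h2).symm
  · right
    have h3 : g = z * t := by rw [← h2]; group
    rw [h3, ← C.Kt z z.2, ← mul_assoc, C.tt, one_mul]

end Full

section Main

variable {I W G : Type*} [Fintype I] [DecidableEq I] [Group W] [Group G] {M : CoxeterMatrix I}
  {cs : CoxeterSystem M W} {A : I → I → ℤ} {h : IsCartan M A} {K : Subgroup G} {q : ℕ} {T₀ : Subgroup ↥K}
  {n : I → ↥K} {X : (I → ℤ) → Subgroup ↥K} {t : G} {T : Subgroup G} {n' : I → G}

section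

variable [Finite W] [Finite G] (D₀ : Datum (⊤ : Subgroup ↥K) q cs h T₀ n X) (C : Full t K)

include D₀ C

/-- **(K1)** for the whole of `C(t)` -/
theorem K1' : ∀ r ∈ {x | IsRoot cs h x}, ∀ c, c * t = t * c →
    (∀ a ∈ {x | IsRoot cs h x}, 1 ≤ Bf A a r → ∀ x ∈ (X a).map K.subtype, c * x = x * c) →
    c ∈ (X r).map K.subtype ∨ t * c ∈ (X r).map K.subtype := by
  intro r hr c hct hc
  obtain ⟨z, hz, e⟩ := aut1 D₀ hr (α := Subgroup.normalizerMonoidHom K ⟨c, C.mem_normalizer hct⟩) (by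
    intro a ha h0 v hv
    apply Subtype.ext
    show c * (v : G) * c⁻¹ = v
    rw [hc a ha h0 v ⟨v, hv, rfl⟩, mul_inv_cancel_right])
  have h1 := C.eq_of_conj hct (z := z) fun k => by
    have h2 := congrArg (fun f : MulAut ↥K => ((f k : ↥K) : G)) e
    exact h2
  rcases h1 with h1 | h1
  · exact Or.inl ⟨z, hz, h1.symm⟩
  · exact Or.inr ⟨z, hz, h1.symm⟩

/-- **(K2)** for the whole of `C(t)` -/
theorem K2' : ∀ r ∈ {x | IsRoot cs h x}, ∀ s ∈ {x | IsRoot cs h x}, Bf A r s = 1 → ∀ c, c * t = t * c →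
    (∀ a ∈ {x | IsRoot cs h x}, 0 ≤ Bf A a r → 0 ≤ Bf A a s → ∀ x ∈ (X a).map K.subtype, c * x = x * c) →
    ∃ x ∈ (X r).map K.subtype, ∃ y ∈ (X s).map K.subtype, c = x * y ∨ c = t * (x * y) := by
  intro r hr s hs hrs c hct hc
  have hR := roots cs h D₀.h4 D₀.h6
  have hsr : Bf A s r = 1 := by rw [hR.symm]; exact hrs
  obtain ⟨x, hx, y, hy, e⟩ := aut2 D₀ hr hs hrs
    (α := Subgroup.normalizerMonoidHom K ⟨c, C.mem_normalizer hct⟩) (by
    intro a ha h0 v hv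
    apply Subtype.ext
    show c * (v : G) * c⁻¹ = v
    have l1 := hR.le a ha r hr
    have l2 := hR.le a ha s hs
    have k1 : 0 ≤ Bf A a r := by
      by_contra hneg
      have h1 := hR.eq a ha s hs (by omega)
      rw [h1, hsr] at hneg
      omega
    have k2 : 0 ≤ Bf A a s := by
      by_contra hneg
      have h1 := hR.eq a ha r hr (by omega)
      rw [h1, hrs] at hneg
      omega
    rw [hc a ha k1 k2 v ⟨v, hv, rfl⟩, mul_inv_cancel_right])
  have h1 := C.eq_of_conj hct (z := x * y) fun k => by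
    have h2 := congrArg (fun f : MulAut ↥K => ((f k : ↥K) : G)) e
    exact h2
  refine ⟨x, ⟨x, hx, rfl⟩, y, ⟨y, hy, rfl⟩, ?_⟩
  rcases h1 with h1 | h1
  · exact Or.inl h1
  · refine Or.inr ?_
    have h2 : c = t * (t * c) := by rw [← mul_assoc, C.tt, one_mul]
    rw [h2, h1]; rfl

variable (D : Datum K q cs h T n' (fun r => (X r).map K.subtype))

include D

theorem pre {V : (I → ℤ) → Subgroup G} (Y : YData D.rgd t V) :
    Defs.Pre t (Bf A) {x | IsRoot cs h x} (fun r => (X r).map K.subtype) V := by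
  refine PreOf.pre D.h4 D.h6 D.irr D.three Y C.tt (fun r hr x hx => C.Kt x (D.XK hr hx)) ?_ (K1' D₀ C) (K2' D₀ C)
  intro ht
  exact C.tK ((iSup₂_le fun a ha => D.XK ha :
    (⨆ r ∈ {x | IsRoot cs h x}, (X r).map K.subtype) ≤ K) ht)

omit D₀ C in
/-- root groups of order `> 2` -/
theorem three_elts (hq : 2 < q) : ∀ r, IsRoot cs h r → ∃ x ∈ (X r).map K.subtype, ∃ y ∈ (X r).map K.subtype,
    x ≠ 1 ∧ y ≠ 1 ∧ x ≠ y := by
  intro r hr
  have h1 : 2 < Nat.card ↥((X r).map K.subtype) := by rw [D.card r hr]; exact hq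
  obtain ⟨x, hx, hx1⟩ : ∃ x ∈ (X r).map K.subtype, x ≠ 1 := by
    by_contra hcon
    push Not at hcon
    have : Subsingleton ↥((X r).map K.subtype) := ⟨fun a b => Subtype.ext (by rw [hcon a a.2, hcon b b.2])⟩
    have := Nat.card_of_subsingleton (1 : ↥((X r).map K.subtype))
    omega
  by_contra hcon
  push Not at hcon
  have hs : Function.Surjective (fun b : Bool => if b then (1 : ↥((X r).map K.subtype)) else ⟨x, hx⟩) := by
    intro y
    by_cases h0 : (y : G) = 1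
    · exact ⟨true, Subtype.ext h0.symm⟩
    · exact ⟨false, Subtype.ext (hcon x hx y y.2 hx1 h0)⟩
  have h2 := Nat.card_le_card_of_surjective _ hs
  simp only [Nat.card_eq_fintype_card, Fintype.card_bool] at h2
  omega

/-- The growth, `q > 2`, from the doubled root groups. -/
theorem dbl_of_yData (hq : 2 < q) {V : (I → ℤ) → Subgroup G} (Y : YData D.rgd t V) :
    Defs.Dbl t (Bf A) {x | IsRoot cs h x} (fun r => (X r).map K.subtype) V := by
  have hR := roots cs h D.h4 D.h6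
  refine Main.dbl_of_big (pre D₀ C D Y)
    (big D.h4 D.h6 D.irr D.three Y (fun δ hδ => (C.Kt δ (D.TK hδ)).symm) (three_elts D hq)) ?_
  intro r hr
  obtain ⟨s, hs, hrs⟩ := exists_neg_one D.h4 D.h6 D.irr D.three hr
  exact ⟨-s, hs.neg, by rw [hR.neg_right, hrs]; norm_num⟩

/-- **THE GROWTH, `q > 2`**, outer automorphisms included. -/
theorem dbl_of_base (hq : 2 < q) {r₀ : I → ℤ} {V₀ : Subgroup G} (B : Base0.Base0 D.rgd t r₀ V₀) :
    ∃ V : (I → ℤ) → Subgroup G, V r₀ = V₀ ∧ YData D.rgd t V ∧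
      Defs.Dbl t (Bf A) {x | IsRoot cs h x} (fun r => (X r).map K.subtype) V := by
  have h2 : 2 ≤ Fintype.card I := by have := D.three; omega
  have htr : ∀ r, IsRoot cs h r → ∃ w, rep cs h w r₀ = r := fun r hr => exists_rep D B.root hr
  have Y0 := B.yData0 htr (bf_rep D.h4 D.h6)
  have hc : ∀ r, IsRoot cs h r → 2 < Nat.card ↥((X r).map K.subtype) := fun r hr => by rw [D.card r hr]; exact hq
  have Y := Y0.yData D.h4 D.h6 D.irr D.three C.tt (fun r hr x hx => C.Kt x (D.XK hr hx)) B.tN (K2' D₀ C) hc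
  refine ⟨_, ?_, Y, dbl_of_yData D₀ C D hq Y⟩
  have h1 := B.wf_eq (w := 1) (k := 1) (rp_of_mem (cs := cs) (hN := D.rgd.nsys) (one_mem _))
  rw [map_one, Module.End.one_apply] at h1
  rw [h1]
  ext v
  rw [mem_cj]
  simp

/-- **THE GROWTH, `q = 2`**, outer automorphisms included. -/
theorem dbl_of_base_two (hq : q = 2) {r₀ : I → ℤ} {V₀ : Subgroup G} (B : Base0.Base0 D.rgd t r₀ V₀)
    (sq : ∀ w ∈ V₀, w * w = 1) :
    ∃ V : (I → ℤ) → Subgroup G, V r₀ = V₀ ∧ YData D.rgd t V ∧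
      Defs.Dbl t (Bf A) {x | IsRoot cs h x} (fun r => (X r).map K.subtype) V := by
  have htr : ∀ r, IsRoot cs h r → ∃ w, rep cs h w r₀ = r := fun r hr => exists_rep D B.root hr
  have Y0 := B.yData0 htr (bf_rep D.h4 D.h6)
  have sq' : ∀ r, IsRoot cs h r → ∀ w ∈ Base0.Wf D.rgd r₀ V₀ r, w * w = 1 := by
    intro r hr v hv
    obtain ⟨w, rfl⟩ := htr r hr
    obtain ⟨k, hk⟩ := exists_rp cs D.rgd.nsys w
    rw [B.wf_eq hk, mem_cj] at hv
    have h1 := sq _ hv
    calc v * v = k * ((k⁻¹ * v * k) * (k⁻¹ * v * k)) * k⁻¹ := by group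
      _ = 1 := by rw [h1]; group
  have Y := Y0.yData_two sq'
  refine ⟨_, ?_, Y, TwoMain.dbl_of_two (pre D₀ C D Y) (two D.h4 D.h6 D.irr D.three ?_ sq')⟩
  · have h1 := B.wf_eq (w := 1) (k := 1) (rp_of_mem (cs := cs) (hN := D.rgd.nsys) (one_mem _))
    rw [map_one, Module.End.one_apply] at h1
    rw [h1]
    ext v
    rw [mem_cj]
    simp
  · intro r hr x hx y hy hx1 hy1
    by_contra hne
    have h1 : Nat.card ↥((X r).map K.subtype) = 2 := by rw [D.card r hr, hq]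
    have hi : Function.Injective (fun i : Fin 3 => if i = 0 then (1 : ↥((X r).map K.subtype)) else
        if i = 1 then ⟨x, hx⟩ else ⟨y, hy⟩) := by
      intro i j hij
      have h2 := congrArg Subtype.val hij
      fin_cases i <;> fin_cases j <;> simp at h2 ⊢
      · exact hx1 h2.symm
      · exact hy1 h2.symm
      · exact hx1 h2
      · exact hne h2
      · exact hy1 h2
      · exact hne h2.symm
    have h2 := Nat.card_le_card_of_injective _ hi
    rw [h1, Nat.card_eq_fintype_card, Fintype.card_fin] at h2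
    omega

end

end Main

end Cfsg.Agent.OddHalf.SL.OfAut
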