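import Cfsg.Agent.OddHalf.SL.OfRGD
import Cfsg.Agent.KFacts.RgdSL

/-!
# The hypotheses of the doubling theorem from a simply laced root group datum

`R : RGD cs h 2 T n X` in `G`.

* `Base R t r₀ W₀` : the doubled root group at one root; `Wf`, `wf_eq` : the transported groups;
* `YData R t W` : the doubled root groups; `Base.yData`;
* `pow_eq_one` : the root groups have exponent `p`; `YData.tri`; `pre`, `two`, `big`.
-/

set_option autoImplicit false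
set_option linter.unusedSectionVars false

namespace Cfsg.Agent.OddHalf.SL.PreOf

open CoxeterSystem Cfsg.Agent.ChevalleyStructure.CoxeterGeom Cfsg.Agent.Tits.Roots Cfsg.Agent.Tits.Core
  Cfsg.Agent.Tits.RootComb Cfsg.Agent.Nodes.Comb Cfsg.Agent.Nodes.Reps Cfsg.Agent.Nodes.BNOf
  Cfsg.Agent.Nodes.SubComb Cfsg.Agent.Nodes.Coroot Cfsg.Agent.Nodes.SimplyLaced Cfsg.Agent.Nodes.Unique
  Cfsg.Agent.OddHalf.SL.Index Cfsg.Agent.OddHalf.SL.OfRGD Cfsg.Agent.KFacts.RgdSL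
open scoped commutatorElement

variable {I W G : Type*} [Fintype I] [DecidableEq I] [Group W] [Group G] {M : CoxeterMatrix I}
  {cs : CoxeterSystem M W} {A : I → I → ℤ} {h : IsCartan M A} {p : ℕ} {T : Subgroup G} {n : I → G}
  {X : (I → ℤ) → Subgroup G}

/-! ### Exponent -/

section Exponent

variable [Finite W] (h4 : ∀ i j, M i j ≠ 4) (h6 : ∀ i j, M i j ≠ 6)

include h4 h6 in
theorem sl : SL cs h := fun x y hx hy => by rw [← cpr_symm cs h h4 h6 hx hy]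

include h4 h6 in
theorem a2 {x y : I → ℤ} (hx : IsRoot cs h x) (hy : IsRoot cs h y) (hxy : Bf A x y = -1) : A2 cs h x y :=
  (sl h4 h6).a2 hx hy (by rw [← bf_eq_cpr h4 h6 x hy]; exact hxy)

variable (R : RGD cs h p T n X)

include R in
theorem comm_pow {x y : I → ℤ} (hA : A2 cs h x y) {u v : G} (hu : u ∈ X x) (hv : v ∈ X y) (k : ℕ) :
    ⁅u, v ^ k⁆ = ⁅u, v⁆ ^ k := by
  induction k with
  | zero => rw [pow_zero, pow_zero, commutatorElement_one_right]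
  | succ k ih => rw [pow_succ, A2.comm_mul R hA hu (pow_mem hv k) hv, ih, pow_succ]

include R in
theorem pow_comm' {x y : I → ℤ} (hA : A2 cs h x y) {u v : G} (hu : u ∈ X x) (hv : v ∈ X y) (k : ℕ) :
    ⁅u ^ k, v⁆ = ⁅u, v⁆ ^ k := by
  rw [← commutatorElement_inv, comm_pow R hA.symm hv hu, ← inv_pow, commutatorElement_inv]

include R in
/-- The root groups have exponent `p`. -/
theorem pow_eq_one [Finite G] [Fact p.Prime] {x y : I → ℤ} (hA : A2 cs h x y) {u : G} (hu : u ∈ X x) :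
    u ^ p = 1 := by
  have h1 := OfRGD.X_ne_bot R hA.ry
  obtain ⟨v, hv, hvp⟩ : ∃ v : ↥(X y), v ≠ 1 ∧ v ^ p = 1 := by
    have hp : IsPGroup p ↥(X y) := R.pgrp' hA.ry
    have : Nontrivial ↥(X y) := (Subgroup.nontrivial_iff_ne_bot _).2 h1
    have hdvd : p ∣ Nat.card ↥(X y) := by
      obtain ⟨k, hk⟩ := IsPGroup.iff_card.1 hp
      have hk0 : k ≠ 0 := by
        rintro rfl
        rw [pow_zero] at hk
        exact absurd hk Finite.one_lt_card.ne'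
      rw [hk]
      exact dvd_pow_self p hk0
    obtain ⟨v, hv⟩ := exists_prime_orderOf_dvd_card' p hdvd
    refine ⟨v, ?_, ?_⟩
    · rintro rfl
      rw [orderOf_one] at hv
      exact (Fact.out : p.Prime).one_lt.ne hv
    · rw [← hv, pow_orderOf_eq_one]
  by_contra hne
  have h2 := A2.comm_ne_one R hA (pow_mem hu p) hne v.2 (fun e => hv (Subtype.ext e))
  apply h2
  rw [pow_comm' R hA hu v.2, ← comm_pow R hA hu v.2]
  have : (v : G) ^ p = 1 := by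
    have := congrArg Subtype.val hvp
    exact this
  rw [this, commutatorElement_one_right]

end Exponent

/-! ### The doubled root groups -/

/-- The doubled root groups of a root group datum. -/
structure YData (R : RGD cs h p T n X) (t : G) (V : (I → ℤ) → Subgroup G) : Prop where
  XW : ∀ r, IsRoot cs h r → X r ≤ V r
  ab : ∀ r, IsRoot cs h r → ∀ v ∈ V r, ∀ w ∈ V r, v * w = w * v
  brk : ∀ r, IsRoot cs h r → ∀ w ∈ V r, w⁻¹ * (t * w * t) ∈ X r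
  cent : ∀ r, IsRoot cs h r → ∀ w ∈ V r, t * w = w * t → w ∈ X r
  surj : ∀ r, IsRoot cs h r → ∀ x ∈ X r, ∃ w ∈ V r, w⁻¹ * (t * w * t) = x
  WX : ∀ r, IsRoot cs h r → ∀ a, IsRoot cs h a → 0 ≤ Bf A a r → ∀ w ∈ V r, ∀ x ∈ X a, w * x = x * w
  eqv : ∀ w k, Rp cs R.nsys w k → ∀ r, IsRoot cs h r → ∀ v ∈ V r, k * v * k⁻¹ ∈ V (rep cs h w r)

/-- The doubled root group at one root. -/
structure Base (R : RGD cs h p T n X) (t : G) (r₀ : I → ℤ) (V₀ : Subgroup G) : Prop where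
  root : IsRoot cs h r₀
  XW : X r₀ ≤ V₀
  ab : ∀ v ∈ V₀, ∀ w ∈ V₀, v * w = w * v
  brk : ∀ w ∈ V₀, w⁻¹ * (t * w * t) ∈ X r₀
  cent : ∀ w ∈ V₀, t * w = w * t → w ∈ X r₀
  surj : ∀ x ∈ X r₀, ∃ w ∈ V₀, w⁻¹ * (t * w * t) = x
  WX : ∀ a, IsRoot cs h a → 0 ≤ Bf A a r₀ → ∀ w ∈ V₀, ∀ x ∈ X a, w * x = x * w
  nrm : ∀ w k, Rp cs R.nsys w k → rep cs h w r₀ = r₀ → ∀ v ∈ V₀, k * v * k⁻¹ ∈ V₀
  tN : ∀ w k, Rp cs R.nsys w k → t * k = k * t

/-- The transported groups. -/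
def Wf (R : RGD cs h p T n X) (r₀ : I → ℤ) (V₀ : Subgroup G) (r : I → ℤ) : Subgroup G :=
  ⨆ q : {q : W × G // Rp cs R.nsys q.1 q.2 ∧ rep cs h q.1 r₀ = r}, cj q.1.2 V₀

namespace Base

variable {R : RGD cs h p T n X} {t : G} {r₀ : I → ℤ} {V₀ : Subgroup G} (D : Base R t r₀ V₀)

include D

theorem wf_eq {w : W} {k : G} (hk : Rp cs R.nsys w k) : Wf R r₀ V₀ (rep cs h w r₀) = cj k V₀ := by
  apply le_antisymm
  · refine iSup_le ?_
    rintro ⟨⟨w', k'⟩, hk', hr⟩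
    intro v hv
    rw [mem_cj] at hv ⊢
    have h1 : rep cs h (w⁻¹ * w') r₀ = r₀ := by
      rw [rep_mul_apply]
      show rep cs h w⁻¹ (rep cs h w' r₀) = r₀
      rw [hr, rep_inv_apply]
    have h2 := D.nrm _ _ (hk.inv.mul hk') h1 _ hv
    have e : k⁻¹ * k' * (k'⁻¹ * v * k') * (k⁻¹ * k')⁻¹ = k⁻¹ * v * k := by group
    rwa [e] at h2
  · exact le_iSup (fun q : {q : W × G // Rp cs R.nsys q.1 q.2 ∧ rep cs h q.1 r₀ = rep cs h w r₀} =>
      cj q.1.2 V₀) ⟨(w, k), hk, rfl⟩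

theorem yData (htr : ∀ r, IsRoot cs h r → ∃ w, rep cs h w r₀ = r)
    (hB : ∀ (w : W) x y, Bf A (rep cs h w x) (rep cs h w y) = Bf A x y) : YData R t (Wf R r₀ V₀) := by
  -- every root group is the conjugate of the base
  have key : ∀ r, IsRoot cs h r → ∃ w k, Rp cs R.nsys w k ∧ rep cs h w r₀ = r ∧ Wf R r₀ V₀ r = cj k V₀ ∧
      X r = cj k (X r₀) := by
    intro r hr
    obtain ⟨w, rfl⟩ := htr r hr
    obtain ⟨k, hk⟩ := exists_rp cs R.nsys w
    exact ⟨w, k, hk, rfl, D.wf_eq hk, (R.conj_rp hk D.root).symm⟩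
  constructor
  · intro r hr
    obtain ⟨w, k, hk, -, e1, e2⟩ := key r hr
    rw [e1, e2]
    exact cj_mono k D.XW
  · intro r hr v hv w' hw'
    obtain ⟨w, k, hk, -, e1, e2⟩ := key r hr
    rw [e1, mem_cj] at hv hw'
    have h1 := D.ab _ hv _ hw'
    have e3 : v * w' = k * ((k⁻¹ * v * k) * (k⁻¹ * w' * k)) * k⁻¹ := by group
    have e4 : w' * v = k * ((k⁻¹ * w' * k) * (k⁻¹ * v * k)) * k⁻¹ := by group
    rw [e3, e4, h1]
  · intro r hr v hv
    obtain ⟨w, k, hk, -, e1, e2⟩ := key r hr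
    rw [e1, mem_cj] at hv
    rw [e2, mem_cj]
    have h1 := D.brk _ hv
    have h2 := D.tN w k hk
    have h3 : t * k⁻¹ = k⁻¹ * t := by
      have := D.tN w⁻¹ k⁻¹ hk.inv
      exact this
    have e3 : (k⁻¹ * v * k)⁻¹ * (t * (k⁻¹ * v * k) * t) = k⁻¹ * (v⁻¹ * (t * v * t)) * k := by
      calc (k⁻¹ * v * k)⁻¹ * (t * (k⁻¹ * v * k) * t) = k⁻¹ * v⁻¹ * k * ((t * k⁻¹) * v * (k * t)) := by group
        _ = k⁻¹ * v⁻¹ * k * ((k⁻¹ * t) * v * (t * k)) := by rw [h3, h2]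
        _ = k⁻¹ * (v⁻¹ * (t * v * t)) * k := by group
    rwa [e3] at h1
  · intro r hr v hv htv
    obtain ⟨w, k, hk, -, e1, e2⟩ := key r hr
    rw [e1, mem_cj] at hv
    rw [e2, mem_cj]
    apply D.cent _ hv
    have h2 := D.tN w k hk
    have h3 : t * k⁻¹ = k⁻¹ * t := D.tN w⁻¹ k⁻¹ hk.inv
    calc t * (k⁻¹ * v * k) = (t * k⁻¹) * v * k := by group
      _ = k⁻¹ * (t * v) * k := by rw [h3]; group
      _ = k⁻¹ * v * (t * k) := by rw [htv]; group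
      _ = k⁻¹ * v * k * t := by rw [h2]; group
  · intro r hr x hx
    obtain ⟨w, k, hk, -, e1, e2⟩ := key r hr
    rw [e2, mem_cj] at hx
    obtain ⟨v, hv, e⟩ := D.surj _ hx
    refine ⟨k * v * k⁻¹, by rw [e1]; exact conj_mem_cj.2 hv, ?_⟩
    have h2 := D.tN w k hk
    have h3 : t * k⁻¹ = k⁻¹ * t := D.tN w⁻¹ k⁻¹ hk.inv
    calc (k * v * k⁻¹)⁻¹ * (t * (k * v * k⁻¹) * t) = k * v⁻¹ * k⁻¹ * ((t * k) * v * (k⁻¹ * t)) := by group
      _ = k * v⁻¹ * k⁻¹ * ((k * t) * v * (t * k⁻¹)) := by rw [h2, h3]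
      _ = k * (v⁻¹ * (t * v * t)) * k⁻¹ := by group
      _ = x := by rw [e]; group
  · intro r hr a ha h0 v hv x hx
    obtain ⟨w, k, hk, e0, e1, e2⟩ := key r hr
    rw [e1, mem_cj] at hv
    have h1 := R.conj_mem' hk ha hx
    have h2 := D.WX (rep cs h w⁻¹ a) (ha.act _) (by
      rw [← hB w, rep_apply_inv, e0]; exact h0) _ hv _ h1
    have e3 : v * x = k * ((k⁻¹ * v * k) * (k⁻¹ * x * k)) * k⁻¹ := by group
    have e4 : x * v = k * ((k⁻¹ * x * k) * (k⁻¹ * v * k)) * k⁻¹ := by group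
    rw [e3, e4, h2]
  · intro w k hk r hr v hv
    obtain ⟨w', k', hk', e0, e1, e2⟩ := key r hr
    have h1 := D.wf_eq (hk.mul hk')
    rw [rep_mul_apply, e0] at h1
    rw [h1, mem_cj]
    rw [e1, mem_cj] at hv
    have e3 : (k * k')⁻¹ * (k * v * k⁻¹) * (k * k') = k'⁻¹ * v * k' := by group
    rwa [e3]

end Base

/-! ### Triangles and torus elements -/

section Conn

variable [Finite W] (h4 : ∀ i j, M i j ≠ 4) (h6 : ∀ i j, M i j ≠ 6)
  (hirr : ∀ J : Set I, J.Nonempty → Jᶜ.Nonempty → ∃ i ∈ J, ∃ j ∈ Jᶜ, M i j ≠ 2)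

include h4 h6 in
theorem rep_sub {r s : I → ℤ} (hr : IsRoot cs h r) (hs : IsRoot cs h s) (hrs : Bf A r s = 1) {w : W}
    (hw : ∀ y, rep cs h w y = y - cpr cs h y (r - s) • (r - s)) : rep cs h w s = r := by
  have hR := roots cs h h4 h6
  rw [hw, ← bf_eq_cpr h4 h6 s (hR.sub_mem hr hs hrs), hR.sub_right, hR.two s hs, hR.symm s r, hrs]
  norm_num

variable {R : RGD cs h p T n X} {t : G} {V : (I → ℤ) → Subgroup G}

include h4 h6 in
/-- `g V_s g⁻¹ = h V_r h⁻¹`. -/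
theorem YData.tri (D : YData R t V) : ∀ r ∈ {x | IsRoot cs h x}, ∀ s ∈ {x | IsRoot cs h x}, Bf A r s = 1 →
    ∀ g ∈ X (r - s), g ≠ 1 → ∃ k ∈ X (s - r), ∀ w, w ∈ V s ↔ k⁻¹ * (g * w * g⁻¹) * k ∈ V r := by
  intro r hr s hs hrs g hg hg1
  have hR := roots cs h h4 h6
  have hrsr : IsRoot cs h (r - s) := hR.sub_mem hr hs hrs
  obtain ⟨s', hs', a, ha, b, hb, m, hm, he⟩ := exists_mu R hrsr hg hg1
  have e0 : rep cs h s' s = r := rep_sub h4 h6 hr hs hrs hs'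
  rw [neg_sub] at ha hb
  have hsr : IsRoot cs h (s - r) := by
    have := hR.neg_mem _ hrsr
    rwa [neg_sub] at this
  have hb0 : 0 ≤ Bf A (s - r) s := by
    rw [hR.sub_left, hR.two s hs, hrs]; norm_num
  refine ⟨a⁻¹, inv_mem ha, fun w => ?_⟩
  have hg' : g = a⁻¹ * m * b⁻¹ := by rw [he]; group
  have e1 : (a⁻¹)⁻¹ * (g * w * g⁻¹) * a⁻¹ = m * (b⁻¹ * w * b) * m⁻¹ := by rw [hg']; group
  rw [e1]
  constructor
  · intro hw
    have h1 : w * b = b * w := D.WX s hs _ hsr hb0 w hw b hb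
    have e2 : b⁻¹ * w * b = w := by rw [mul_assoc, h1]; group
    rw [e2]
    have := D.eqv s' m hm s hs w hw
    rwa [e0] at this
  · intro hw
    have h2 := D.eqv s'⁻¹ m⁻¹ hm.inv r hr _ hw
    rw [← e0, rep_inv_apply] at h2
    have e3 : m⁻¹ * (m * (b⁻¹ * w * b) * m⁻¹) * m⁻¹⁻¹ = b⁻¹ * w * b := by group
    rw [e3] at h2
    have h1 : b⁻¹ * w * b * b = b * (b⁻¹ * w * b) := D.WX s hs _ hsr hb0 _ h2 b hb
    have e4 : w = b * (b⁻¹ * w * b) * b⁻¹ := by group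
    rw [e4, ← h1]
    have e5 : b⁻¹ * w * b * b * b⁻¹ = b⁻¹ * w * b := by group
    rwa [e5]

include h4 h6 in
/-- A torus element. -/
theorem exists_delta (R : RGD cs h p T n X) {a : I → ℤ} (ha : IsRoot cs h a) {u u' : G} (hu : u ∈ X a)
    (hu' : u' ∈ X a) (hu1 : u ≠ 1) (hu1' : u' ≠ 1) (hne : u ≠ u') :
    ∃ δ ∈ T, (∀ b, IsRoot cs h b → Bf A a b = -1 → ∀ x ∈ X b, δ * x = x * δ → x = 1) ∧
      ∀ b, IsRoot cs h b → Bf A a b = 0 → ∀ x ∈ X b, δ * x = x * δ := by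
  have hR := roots cs h h4 h6
  obtain ⟨s, hs, c, hc, d, hd, m, hm, he⟩ := exists_mu R ha hu hu1
  obtain ⟨s', hs', c', hc', d', hd', m', hm', he'⟩ := exists_mu R ha hu' hu1'
  have hss : s = s' := by
    have : s'⁻¹ * s = 1 := by
      refine eq_one_of_fix cs h _ fun i => ?_
      have h3 : rep cs h s (sr i) = rep cs h s' (sr i) := by rw [hs, hs']
      show rep cs h (s'⁻¹ * s) (sr i) = sr i
      rw [rep_mul_apply, h3, rep_inv_apply]
    exact (inv_mul_eq_one.1 this).symm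
  subst hss
  refine ⟨m'⁻¹ * m, hm'.unique hm, ?_, ?_⟩
  · intro b hb hab x hx hcomm
    have hA := a2 h4 h6 ha hb hab
    have e1 := hA.comm_eq R hu hx hc hd hs hm he
    have e2 := hA.comm_eq R hu' hx hc' hd' hs' hm' he'
    by_contra hx1
    apply hne
    have e3 : ⁅u, x⁆ = ⁅u', x⁆ := by
      rw [e1, e2]
      have h1 : m * x * m⁻¹ = m' * (m'⁻¹ * m * x) * m⁻¹ := by group
      rw [h1, hcomm]; group
    have e4 : ⁅x, u⁆ = ⁅x, u'⁆ := by
      rw [← commutatorElement_inv, e3, commutatorElement_inv]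
    exact hA.symm.comm_inj R hx hx1 hu hu' e4
  · intro b hb hab x hx
    have hba : Bf A b a = 0 := by rw [hR.symm]; exact hab
    have hne1 : a ≠ b := by
      rintro rfl
      rw [hR.two a ha] at hab
      omega
    have hne2 : -a ≠ b := by
      rintro rfl
      rw [hR.neg_right, hR.two a ha] at hab
      omega
    have k1 : ∀ y ∈ X a, Commute y x := fun y hy => OfRGD.comm_nonneg h4 h6 R ha hb hne1 hab.ge y hy x hx
    have k2 : ∀ y ∈ X (-a), Commute y x := fun y hy =>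
      OfRGD.comm_nonneg h4 h6 R ha.neg hb hne2 (by rw [hR.neg_left, hab]; norm_num) y hy x hx
    have k3 : Commute m x := by
      rw [he]
      exact ((k2 c hc).mul_left (k1 u hu)).mul_left (k2 d hd)
    have k4 : Commute m' x := by
      rw [he']
      exact ((k2 c' hc').mul_left (k1 u' hu')).mul_left (k2 d' hd')
    exact (k4.inv_left.mul_left k3).eq

end Conn

/-! ### The hypotheses of the doubling theorem -/

section Pre

variable [Finite W] (h4 : ∀ i j, M i j ≠ 4) (h6 : ∀ i j, M i j ≠ 6)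
  (hirr : ∀ J : Set I, J.Nonempty → Jᶜ.Nonempty → ∃ i ∈ J, ∃ j ∈ Jᶜ, M i j ≠ 2) (h3 : 3 ≤ Fintype.card I)
  {R : RGD cs h 2 T n X} {t : G} {V : (I → ℤ) → Subgroup G}

include h4 h6 hirr h3

/-- Every root has a neighbour at `120°`. -/
theorem exists_neg_one {r : I → ℤ} (hr : IsRoot cs h r) : ∃ s, IsRoot cs h s ∧ Bf A r s = -1 := by
  have hR := roots cs h h4 h6
  obtain ⟨c, hc, hcr, hcs⟩ := exists_outside h4 h6 hirr h3 r hr
  have hcr' : Bf A c r ≠ 0 := by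
    rcases hcr with h1 | h1 <;> exact h1
  have n1 : Bf A c r ≠ 2 := fun e => hcs (by rw [hR.eq c hc r hr e]; exact Submodule.subset_span (Set.mem_insert _ _))
  have n2 : Bf A c r ≠ -2 := fun e => hcs (by
    rw [hR.eq_neg hc hr e]; exact neg_mem (Submodule.subset_span (Set.mem_insert _ _)))
  have b1 := hR.le c hc r hr
  have b2 := hR.ge hc hr
  have : Bf A c r = 1 ∨ Bf A c r = -1 := by omega
  rcases this with e | e
  · exact ⟨-c, hc.neg, by rw [hR.neg_right, hR.symm, e]⟩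
  · exact ⟨c, hc, by rw [hR.symm, e]⟩

theorem pre [Finite G] (D : YData R t V) (tt : t * t = 1) (tX : ∀ r, IsRoot cs h r → ∀ x ∈ X r, t * x = x * t)
    (tK : t ∉ ⨆ r ∈ {x | IsRoot cs h x}, X r)
    (K1 : ∀ r ∈ {x | IsRoot cs h x}, ∀ c, c * t = t * c →
      (∀ a ∈ {x | IsRoot cs h x}, 1 ≤ Bf A a r → ∀ x ∈ X a, c * x = x * c) → c ∈ X r ∨ t * c ∈ X r)
    (K2 : ∀ r ∈ {x | IsRoot cs h x}, ∀ s ∈ {x | IsRoot cs h x}, Bf A r s = 1 → ∀ c, c * t = t * c →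
      (∀ a ∈ {x | IsRoot cs h x}, 0 ≤ Bf A a r → 0 ≤ Bf A a s → ∀ x ∈ X a, c * x = x * c) →
      ∃ x ∈ X r, ∃ y ∈ X s, c = x * y ∨ c = t * (x * y)) :
    Defs.Pre t (Bf A) {x | IsRoot cs h x} X V where
  roots := roots cs h h4 h6
  tt := tt
  tX := tX
  tK := tK
  Xsq := fun r hr x hx => by
    have : Fact (Nat.Prime 2) := ⟨Nat.prime_two⟩
    obtain ⟨s, hs, hrs⟩ := exists_neg_one h4 h6 hirr h3 hr
    rw [← pow_two]
    exact pow_eq_one R (a2 h4 h6 hr hs hrs) hx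
  Xne := fun r hr => OfRGD.X_ne_bot R hr
  XW := D.XW
  Wab := D.ab
  brk := D.brk
  cent := D.cent
  surj := D.surj
  WX := D.WX
  Xneg := fun r hr s hs hrs x hx y hy => OfRGD.comm_neg_one h4 h6 R hr hs hrs x hx y hy
  Xnd := fun r hr s hs hrs x hx y hy hxy => by
    by_contra hcon
    push Not at hcon
    exact (a2 h4 h6 hr hs hrs).comm_ne_one R hx hcon.1 hy hcon.2 (commutatorElement_eq_one_iff_mul_comm.2 hxy)
  tri := D.tri h4 h6
  K1 := K1
  K2 := K2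
  orth := orth h4 h6 hirr

omit R in
theorem two (hcard : ∀ r, IsRoot cs h r → ∀ x ∈ X r, ∀ y ∈ X r, x ≠ 1 → y ≠ 1 → x = y)
    (sq : ∀ r, IsRoot cs h r → ∀ w ∈ V r, w * w = 1) : Defs.Two (Bf A) {x | IsRoot cs h x} X V where
  card := hcard
  sq := sq
  three := three h4 h6 hirr h3

theorem big (D : YData R t V) (tT : ∀ δ ∈ T, δ * t = t * δ)
    (hcard : ∀ r, IsRoot cs h r → ∃ x ∈ X r, ∃ y ∈ X r, x ≠ 1 ∧ y ≠ 1 ∧ x ≠ y) :
    Defs.Big t (Bf A) {x | IsRoot cs h x} X V := by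
  have hR := roots cs h h4 h6
  have hnT : ∀ δ ∈ T, ∀ r, IsRoot cs h r → ∀ w ∈ V r, δ * w * δ⁻¹ ∈ V r := by
    intro δ hδ r hr w hw
    have := D.eqv 1 δ (rp_of_mem (cs := cs) (hN := R.nsys) hδ) r hr w hw
    rwa [map_one, Module.End.one_apply] at this
  constructor
  · intro r hr s hs hrs
    obtain ⟨m, hm, hmr, hms⟩ := three h4 h6 hirr h3 r hr s hs hrs
    have hm' : IsRoot cs h (-m) := hR.neg_mem m hm
    obtain ⟨u, hu, u', hu', hu1, hu1', hne⟩ := hcard (-m) hm'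
    obtain ⟨δ, hδ, h1, h2⟩ := exists_delta h4 h6 R hm' hu hu' hu1 hu1' hne
    refine ⟨δ, tT δ hδ, ?_, hnT δ hδ r hr, hnT δ hδ s hs, ?_, ?_⟩
    · exact h2 (r - s) (hR.sub_mem hr hs hrs) (by rw [hR.neg_left, hR.sub_right, hmr, hms]; norm_num)
    · exact h1 r hr (by rw [hR.neg_left, hmr])
    · exact h1 s hs (by rw [hR.neg_left, hms])
  · intro r hr s hs hrs
    obtain ⟨m, hm, hmr, hms⟩ := three h4 h6 hirr h3 r hr s hs hrs
    have hmr' : IsRoot cs h (m - r) := hR.sub_mem hm hr hmr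
    have hrr := hR.two r hr
    have hss := hR.two s hs
    obtain ⟨u, hu, u', hu', hu1, hu1', hne⟩ := hcard (m - r) hmr'
    obtain ⟨δ, hδ, h1, h2⟩ := exists_delta h4 h6 R hmr' hu hu' hu1 hu1' hne
    refine ⟨δ, tT δ hδ, ?_, hnT δ hδ r hr, hnT δ hδ s hs, ?_, ?_⟩
    · exact h2 s hs (by rw [hR.sub_left, hms, hrs]; norm_num)
    · intro x hx
      have := R.tor (r - s) (hR.sub_mem hr hs hrs) δ hδ
      rw [← this]
      exact conj_mem_cj.2 hx
    · refine h1 (r - s) (hR.sub_mem hr hs hrs) ?_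
      rw [hR.sub_left, hR.sub_right, hR.sub_right, hmr, hms, hrr, hrs]
      norm_num

end Pre

end Cfsg.Agent.OddHalf.SL.PreOf
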