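import Cfsg.Agent.OddHalf.SL.Rest

/-!
# THEOREM SL for `q > 2` (helper186)

* `dbl_of_big`: `Pre`, `Big` ⇒ `Dbl` (simply laced `Φ`, every root `r` has a root `s` with `(r, s) = 1`);
* `dbl_of_big_Y`: the same with `PreY` (e.g. `Φ` = the long roots of a twisted type).
-/

set_option autoImplicit false

namespace Cfsg.Agent.OddHalf.SL.Main

open Cfsg.Agent.OddHalf.SL.Defs Cfsg.Agent.OddHalf.SL.General Cfsg.Agent.OddHalf.SL.Rest

variable {L : Type*} [AddCommGroup L] {G : Type*} [Group G]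
variable {t : G} {B : L → L → ℤ} {Φ : Set L} {X W : L → Subgroup G}

theorem dbl_of_big_Y [Finite G] {Y : L → L → Set G} (h : PreY t B Φ X W Y) (hb : Big t B Φ X W)
    (hex : ∀ r ∈ Φ, ∃ s ∈ Φ, B r s = 1) : Dbl t B Φ X W := dbl (Ax.of_big h hb hex)

theorem dbl_of_big [Finite G] (h : Pre t B Φ X W) (hb : Big t B Φ X W)
    (hex : ∀ r ∈ Φ, ∃ s ∈ Φ, B r s = 1) : Dbl t B Φ X W := dbl_of_big_Y (of_pre h) hb hex

end Cfsg.Agent.OddHalf.SL.Main
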