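import Cfsg.Agent.OddHalf.SL.PreOf
import Cfsg.Agent.OddHalf.SL.Main
import Cfsg.Agent.KFacts.RgdOdd
import Cfsg.Agent.KFacts.SLRow.Def

/-!
# THEOREM SL for an abstract simply laced datum (ODD D7)

`D : Datum K q cs h T n X` (`KFacts/SLRow`), `Clean t K` : `K ⊴ C(t)`, `C(t) ∩ C(K) = ⟨t⟩`, `t ∉ K`, `C(t) : K⟨t⟩` odd.

* `K1`, `K2` : the centralizer hypotheses of `Defs.Pre`; `pre` : `Defs.Pre` from `YData`;
* `exists_hom_of_dbl` : the end from `Defs.Dbl`;
* `exists_hom_big` : `q > 2`, a doubled root group at one root ⇒ `∃ m : G →* ℤˣ, m t = -1`.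
-/

set_option autoImplicit false
set_option linter.unusedSectionVars false

namespace Cfsg.Agent.OddHalf.SL.OfDatum

open CoxeterSystem Cfsg.Agent.ChevalleyStructure.CoxeterGeom Cfsg.Agent.Tits.Roots Cfsg.Agent.Tits.Core
  Cfsg.Agent.Tits.RootComb Cfsg.Agent.Nodes.Comb Cfsg.Agent.Nodes.Reps Cfsg.Agent.Nodes.BNOf
  Cfsg.Agent.Nodes.Bruhat Cfsg.Agent.Nodes.Coroot Cfsg.Agent.OddHalf.SL.Index Cfsg.Agent.OddHalf.SL.OfRGD
  Cfsg.Agent.OddHalf.SL.PreOf Cfsg.Agent.KFacts.RgdSL Cfsg.Agent.KFacts.RgdTI Cfsg.Agent.KFacts.RgdCent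
  Cfsg.Agent.KFacts.RgdOdd Cfsg.Agent.KFacts.SLRow.Def
open scoped commutatorElement

/-- The join of two commuting subgroups. -/
theorem mem_sup_of_comm {G : Type*} [Group G] {P Q : Subgroup G} (hc : ∀ x ∈ P, ∀ y ∈ Q, x * y = y * x) {c : G}
    (h : c ∈ P ⊔ Q) : ∃ x ∈ P, ∃ y ∈ Q, c = x * y := by
  let S : Subgroup G :=
    { carrier := {c | ∃ x ∈ P, ∃ y ∈ Q, c = x * y}
      one_mem' := ⟨1, one_mem _, 1, one_mem _, (one_mul 1).symm⟩
      mul_mem' := by
        rintro _ _ ⟨x, hx, y, hy, rfl⟩ ⟨x', hx', y', hy', rfl⟩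
        refine ⟨x * x', mul_mem hx hx', y * y', mul_mem hy hy', ?_⟩
        calc x * y * (x' * y') = x * (y * x') * y' := by group
          _ = x * (x' * y) * y' := by rw [hc x' hx' y hy]
          _ = x * x' * (y * y') := by group
      inv_mem' := by
        rintro _ ⟨x, hx, y, hy, rfl⟩
        refine ⟨x⁻¹, inv_mem hx, y⁻¹, inv_mem hy, ?_⟩
        rw [mul_inv_rev, hc _ (inv_mem hx) _ (inv_mem hy)] }
  have h1 : P ⊔ Q ≤ S :=
    sup_le (fun x hx => ⟨x, hx, 1, one_mem _, (mul_one x).symm⟩) (fun y hy => ⟨1, one_mem _, y, hy, (one_mul y).symm⟩)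
  exact h1 h

/-- `K ⊴ C(t)`, `C(t) ∩ C(K) = ⟨t⟩`, `t ∉ K` and `C(t) : K⟨t⟩` odd. -/
structure Clean {G : Type*} [Group G] (t : G) (K : Subgroup G) : Prop where
  tt : t * t = 1
  tK : t ∉ K
  Kt : ∀ k ∈ K, t * k = k * t
  nrm : ∀ g, g * t = t * g → ∀ u ∈ K, g * u * g⁻¹ ∈ K
  cK : ∀ g, g * t = t * g → (∀ u ∈ K, g * u = u * g) → g = 1 ∨ g = t
  odd : Odd ((K ⊔ Subgroup.zpowers t).relIndex (Subgroup.centralizer {t}))

namespace Clean

variable {G : Type*} [Group G] {t : G} {K : Subgroup G} (C : Clean t K)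

include C

theorem le_centralizer : K ⊔ Subgroup.zpowers t ≤ Subgroup.centralizer {t} := by
  refine sup_le ?_ ?_
  · intro k hk
    rw [Subgroup.mem_centralizer_singleton_iff]
    exact (C.Kt k hk).symm
  · rw [Subgroup.zpowers_le, Subgroup.mem_centralizer_singleton_iff]

/-- a common odd exponent of the elements of `C(t)` modulo `K⟨t⟩` -/
theorem pow_mem [Finite G] {g : G} (hg : g * t = t * g) :
    g ^ (K ⊔ Subgroup.zpowers t).relIndex (Subgroup.centralizer {t}) ∈ K ⊔ Subgroup.zpowers t := by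
  have hN : ((K ⊔ Subgroup.zpowers t).subgroupOf (Subgroup.centralizer {t})).Normal := by
    refine ⟨fun u hu k => ?_⟩
    rw [Subgroup.mem_subgroupOf] at hu ⊢
    have hk : (k : G) * t = t * k := Subgroup.mem_centralizer_singleton_iff.1 k.2
    rcases (Cfsg.Agent.KFacts.RgdSyl.mem_sup_zpowers C.tt C.Kt).1 hu with h1 | h1
    · exact (le_sup_left : K ≤ _) (C.nrm k hk u h1)
    · refine (Cfsg.Agent.KFacts.RgdSyl.mem_sup_zpowers C.tt C.Kt).2 (Or.inr ?_)
      have h2 := C.nrm k hk _ h1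
      have e : (k : G) * (t * (u : G)) * (k : G)⁻¹ = t * (k * u * (k : G)⁻¹) := by
        rw [← mul_assoc, hk]; group
      rw [e] at h2
      exact h2
  have h1 := Subgroup.pow_index_mem (H := (K ⊔ Subgroup.zpowers t).subgroupOf (Subgroup.centralizer {t}))
    (⟨g, Subgroup.mem_centralizer_singleton_iff.2 hg⟩ : ↥(Subgroup.centralizer {t}))
  rw [Subgroup.mem_subgroupOf] at h1
  exact h1

/-- A 2-element of `C(t)` lies in `K⟨t⟩`. -/
theorem mem_of_pow [Finite G] {g : G} (hg : g * t = t * g) {k : ℕ} (hk : g ^ 2 ^ k = 1) : g ∈ K ∨ t * g ∈ K := by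
  rw [← Cfsg.Agent.KFacts.RgdSyl.mem_sup_zpowers C.tt C.Kt]
  have h1 := C.pow_mem hg
  have h2 : ((K ⊔ Subgroup.zpowers t).relIndex (Subgroup.centralizer {t})).Coprime (orderOf g) := by
    have h3 : orderOf g ∣ 2 ^ k := orderOf_dvd_of_pow_eq_one hk
    exact Nat.Coprime.coprime_dvd_right h3 ((Nat.coprime_two_right.2 C.odd).pow_right k)
  obtain ⟨a, ha⟩ := exists_pow_eq_self_of_coprime h2
  rw [← ha]
  exact Subgroup.pow_mem _ h1 a

/-- An element of `C(t)` all of whose powers of odd order centralise `K` lies in `K⟨t⟩`. -/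
theorem mem_of_odd [Finite G] {c : G} (hc : c * t = t * c)
    (hodd : ∀ g ∈ Subgroup.zpowers c, ∀ m : ℕ, g ^ m = 1 → m.Coprime 2 → ∀ u ∈ K, g * u = u * g) :
    c ∈ K ∨ t * c ∈ K := by
  obtain ⟨k, m, hm, e⟩ := Nat.exists_eq_two_pow_mul_odd (orderOf_pos c).ne'
  refine C.mem_of_pow hc (k := k) ?_
  have hm2 : m.Coprime 2 := Nat.coprime_two_right.2 hm
  have h1 : (c ^ 2 ^ k) ^ m = 1 := by rw [← pow_mul, ← e, pow_orderOf_eq_one]
  have hct : c ^ 2 ^ k * t = t * c ^ 2 ^ k := (Commute.pow_left (show Commute c t from hc) _).eq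
  rcases C.cK _ hct (hodd _ (Subgroup.npow_mem_zpowers c _) m h1 hm2) with h2 | h2
  · exact h2
  · rw [h2] at h1
    obtain ⟨j, hj⟩ := hm
    rw [hj, pow_succ, pow_mul, pow_two, C.tt, one_pow, one_mul] at h1
    rw [h2]; exact h1

end Clean

variable {I W G : Type*} [Fintype I] [DecidableEq I] [Group W] [Group G] {M : CoxeterMatrix I}
  {cs : CoxeterSystem M W} {A : I → I → ℤ} {h : IsCartan M A} {T : Subgroup G} {n : I → G}
  {X : (I → ℤ) → Subgroup G} {K : Subgroup G} {q : ℕ} {t : G}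

section

variable [Finite W] [Finite G] (D : Datum K q cs h T n X)

include D

theorem hconn : ∀ i, ∃ j, cpr cs h (sr i) (sr j) = -1 := by
  intro i
  have hne : ({i} : Set I)ᶜ.Nonempty := by
    by_contra hcon
    rw [Set.not_nonempty_iff_eq_empty, Set.compl_empty_iff] at hcon
    have h1 : ∀ j : I, j = i := fun j => by
      have : j ∈ ({i} : Set I) := by rw [hcon]; trivial
      exact this
    have h2 : Fintype.card I ≤ 1 := Fintype.card_le_one_iff.2 fun a b => by rw [h1 a, h1 b]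
    have := D.three
    omega
  obtain ⟨i', hi', j, hj, hij⟩ := D.irr {i} ⟨i, rfl⟩ hne
  obtain rfl : i' = i := hi'
  have hij' : i' ≠ j := fun e => hj e.symm
  refine ⟨j, ?_⟩
  rw [← bf_eq_cpr D.h4 D.h6 _ (isRoot_sr cs h j), bf_sr, Cfsg.Agent.Nodes.ZFam.pairing_sr']
  rcases h.rel i' j hij' with ⟨h0, h1, h2⟩ | ⟨h0, h1, h2⟩ | ⟨h0, -⟩ | ⟨h0, -⟩
  · exact absurd h0 hij
  · exact h2
  · exact absurd h0 (D.h4 _ _)
  · exact absurd h0 (D.h6 _ _)

theorem lr : ∀ a, IsRoot cs h a → LR D.rgd a := by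
  refine lr_all D.rgd (PreOf.sl D.h4 D.h6) fun a ha => ?_
  obtain ⟨s, hs, has⟩ := exists_neg_one D.h4 D.h6 D.irr D.three ha
  refine ⟨-s, hs.neg, ?_⟩
  have hR := roots cs h D.h4 D.h6
  rw [← bf_eq_cpr D.h4 D.h6 _ hs.neg, hR.neg_right, has]; norm_num

theorem orth' {r : I → ℤ} (hr : IsRoot cs h r) : Orth cs h r := by
  intro b hb hbr
  have hR := roots cs h D.h4 D.h6
  obtain ⟨a, ha, h1, h2⟩ := orth D.h4 D.h6 D.irr r hr b hb (by
    rw [hR.symm, bf_eq_cpr D.h4 D.h6 _ hr]; exact hbr)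
  exact ⟨a, ha, by rw [← bf_eq_cpr D.h4 D.h6 _ hr]; exact h1, by rw [← bf_eq_cpr D.h4 D.h6 _ hb]; exact h2⟩

variable (C : Clean t K)

include C

/-- **(K1)** -/
theorem K1' : ∀ r ∈ {x | IsRoot cs h x}, ∀ c, c * t = t * c →
    (∀ a ∈ {x | IsRoot cs h x}, 1 ≤ Bf A a r → ∀ x ∈ X a, c * x = x * c) → c ∈ X r ∨ t * c ∈ X r := by
  intro r hr c hct hc
  have hs := PreOf.sl (cs := cs) (h := h) D.h4 D.h6
  have key : ∀ c ∈ K, (∀ a ∈ {x | IsRoot cs h x}, 1 ≤ Bf A a r → ∀ x ∈ X a, c * x = x * c) → c ∈ X r := by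
    intro c hcK hc
    refine f3_rad hs hr (orth' D hr) D.rgd (lr D) D.cent (by rw [D.GG_eq]; exact hcK) ?_
    intro a ha v hv
    exact hc a ha.1 (by rw [bf_eq_cpr D.h4 D.h6 _ hr]; exact ha.2) v hv
  have h0 : c ∈ K ∨ t * c ∈ K := by
    refine C.mem_of_odd hct fun g hg m hm hm2 => ?_
    have hgt : g * t = t * g := by
      have : Subgroup.zpowers c ≤ Subgroup.centralizer {t} := by
        rw [Subgroup.zpowers_le, Subgroup.mem_centralizer_singleton_iff]; exact hct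
      exact Subgroup.mem_centralizer_singleton_iff.1 (this hg)
    have h1 := odd_k1 D.rgd hs (lr D) D.cent (hconn D) hr (orth' D hr) (g := g)
      (by rw [D.GG_eq]; exact C.nrm g hgt) hm hm2 (by
        intro a ha v hv
        have h1 : Subgroup.zpowers c ≤ Subgroup.centralizer {v} := by
          rw [Subgroup.zpowers_le, Subgroup.mem_centralizer_singleton_iff]
          exact hc a ha.1 (by rw [bf_eq_cpr D.h4 D.h6 _ hr]; exact ha.2) v hv
        exact Subgroup.mem_centralizer_singleton_iff.1 (h1 hg))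
    rwa [D.GG_eq] at h1
  rcases h0 with h1 | h1
  · exact Or.inl (key c h1 hc)
  · refine Or.inr (key _ h1 fun a ha hra x hx => ?_)
    have h2 := C.Kt x (D.XK ha hx)
    rw [mul_assoc, hc a ha hra x hx, ← mul_assoc, h2, mul_assoc]

/-- **(K2)** -/
theorem K2' : ∀ r ∈ {x | IsRoot cs h x}, ∀ s ∈ {x | IsRoot cs h x}, Bf A r s = 1 → ∀ c, c * t = t * c →
    (∀ a ∈ {x | IsRoot cs h x}, 0 ≤ Bf A a r → 0 ≤ Bf A a s → ∀ x ∈ X a, c * x = x * c) →
    ∃ x ∈ X r, ∃ y ∈ X s, c = x * y ∨ c = t * (x * y) := by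
  intro r hr s hs hrs c hct hc
  have hsl := PreOf.sl (cs := cs) (h := h) D.h4 D.h6
  have hrs' : cpr cs h r s = 1 := by rw [← bf_eq_cpr D.h4 D.h6 _ hs]; exact hrs
  have key : ∀ c ∈ K, (∀ a ∈ {x | IsRoot cs h x}, 0 ≤ Bf A a r → 0 ≤ Bf A a s → ∀ x ∈ X a, c * x = x * c) →
      ∃ x ∈ X r, ∃ y ∈ X s, c = x * y := by
    intro c hcK hc
    have h1 : c ∈ X r ⊔ X s := by
      refine f3_one D.rgd hsl (lr D) D.cent hr hs (by rw [D.GG_eq]; exact hcK) hrs' ?_
      intro a ha v hv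
      exact hc a ha.1 (by rw [bf_eq_cpr D.h4 D.h6 _ hr]; exact ha.2.1)
        (by rw [bf_eq_cpr D.h4 D.h6 _ hs]; exact ha.2.2) v hv
    have h2 : ∀ x ∈ X r, ∀ y ∈ X s, x * y = y * x := fun x hx y hy =>
      (lr D s hs).comm r hr (by rw [← bf_eq_cpr D.h4 D.h6 _ hs, hrs]; norm_num) x hx y hy
    exact mem_sup_of_comm h2 h1
  have h0 : c ∈ K ∨ t * c ∈ K := by
    refine C.mem_of_odd hct fun g hg m hm hm2 => ?_
    have hgt : g * t = t * g := by
      have : Subgroup.zpowers c ≤ Subgroup.centralizer {t} := by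
        rw [Subgroup.zpowers_le, Subgroup.mem_centralizer_singleton_iff]; exact hct
      exact Subgroup.mem_centralizer_singleton_iff.1 (this hg)
    have h1 := odd_k2 D.rgd hsl (lr D) D.cent (hconn D) hr hs hrs' (g := g)
      (by rw [D.GG_eq]; exact C.nrm g hgt) hm hm2 (by
        intro a ha v hv
        have h1 : Subgroup.zpowers c ≤ Subgroup.centralizer {v} := by
          rw [Subgroup.zpowers_le, Subgroup.mem_centralizer_singleton_iff]
          exact hc a ha.1 (by rw [bf_eq_cpr D.h4 D.h6 _ hr]; exact ha.2.1)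
            (by rw [bf_eq_cpr D.h4 D.h6 _ hs]; exact ha.2.2) v hv
        exact Subgroup.mem_centralizer_singleton_iff.1 (h1 hg))
    rwa [D.GG_eq] at h1
  rcases h0 with h1 | h1
  · obtain ⟨x, hx, y, hy, e⟩ := key c h1 hc
    exact ⟨x, hx, y, hy, Or.inl e⟩
  · obtain ⟨x, hx, y, hy, e⟩ := key _ h1 fun a ha har has x hx => by
      have h2 := C.Kt x (D.XK ha hx)
      rw [mul_assoc, hc a ha har has x hx, ← mul_assoc, h2, mul_assoc]
    refine ⟨x, hx, y, hy, Or.inr ?_⟩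
    rw [← e, ← mul_assoc, C.tt, one_mul]

theorem pre {V : (I → ℤ) → Subgroup G} (Y : YData D.rgd t V) : Defs.Pre t (Bf A) {x | IsRoot cs h x} X V := by
  refine PreOf.pre D.h4 D.h6 D.irr D.three Y C.tt (fun r hr x hx => C.Kt x (D.XK hr hx)) ?_ (K1' D C) (K2' D C)
  intro ht
  exact C.tK ((iSup₂_le fun a ha => D.XK ha : (⨆ r ∈ {x | IsRoot cs h x}, X r) ≤ K) ht)

/-- The end of the doubling argument. -/
theorem exists_hom_of_dbl {V : (I → ℤ) → Subgroup G} (Y : Defs.Dbl t (Bf A) {x | IsRoot cs h x} X V) :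
    ∃ m : G →* ℤˣ, m t = -1 := by
  refine Bridge.of_dbl (roots cs h D.h4 D.h6) Y hth (dir D.h4 D.h6 D.rgd) ?_ ?_
  · rw [pos_eq]
    exact fun ht => C.tK (D.UK ht)
  · rw [pos_eq]
    exact D.odd_centralizer C.tt C.Kt C.tK C.odd

/-- **THEOREM SL, `q > 2`.** -/
theorem exists_hom_big (hq : 2 < q) {V : (I → ℤ) → Subgroup G} (Y : YData D.rgd t V) :
    ∃ m : G →* ℤˣ, m t = -1 := by
  have hR := roots cs h D.h4 D.h6
  refine exists_hom_of_dbl D C (Main.dbl_of_big (pre D C Y) (big D.h4 D.h6 D.irr D.three Y ?_ ?_) ?_)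
  · intro δ hδ
    exact (C.Kt δ (D.TK hδ)).symm
  · intro r hr
    have h1 : 2 < Nat.card ↥(X r) := by rw [D.card r hr]; exact hq
    have h2 : ∃ x y : ↥(X r), x ≠ 1 ∧ y ≠ 1 ∧ x ≠ y := by
      by_contra hcon
      push Not at hcon
      obtain ⟨x, hx⟩ : ∃ x : ↥(X r), x ≠ 1 := by
        by_contra hcon'
        push Not at hcon'
        have : Subsingleton ↥(X r) := ⟨fun a b => by rw [hcon' a, hcon' b]⟩
        have := Nat.card_of_subsingleton (1 : ↥(X r))
        omega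
      have h3 : ∀ y : ↥(X r), y = 1 ∨ y = x := by
        intro y
        by_contra hy
        push Not at hy
        exact hy.2 (hcon x y hx hy.1).symm
      have h4 : Nat.card ↥(X r) ≤ 2 := by
        have hs : Function.Surjective (fun b : Bool => if b then (1 : ↥(X r)) else x) := by
          intro y
          rcases h3 y with rfl | rfl
          · exact ⟨true, rfl⟩
          · exact ⟨false, rfl⟩
        have := Nat.card_le_card_of_surjective _ hs
        simpa using this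
      omega
    obtain ⟨x, y, h3, h4, h5⟩ := h2
    exact ⟨x, x.2, y, y.2, fun e => h3 (Subtype.ext e), fun e => h4 (Subtype.ext e), fun e => h5 (Subtype.ext e)⟩
  · intro r hr
    obtain ⟨s, hs, hrs⟩ := exists_neg_one D.h4 D.h6 D.irr D.three hr
    exact ⟨-s, hs.neg, by rw [hR.neg_right, hrs]; norm_num⟩

/-- **THEOREM SL, `q > 2`**, from a doubled root group at one root. -/
theorem exists_hom_base (hq : 2 < q) {r₀ : I → ℤ} {V₀ : Subgroup G} (B : Base D.rgd t r₀ V₀) :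
    ∃ m : G →* ℤˣ, m t = -1 := by
  have h2 : 2 ≤ Fintype.card I := by have := D.three; omega
  refine exists_hom_big D C hq (B.yData ?_ (bf_rep D.h4 D.h6))
  intro r hr
  refine ind D.h4 D.h6 D.irr h2 (P := fun r => ∃ w, rep cs h w r₀ = r) B.root ⟨1, by
    rw [map_one, Module.End.one_apply]⟩ ?_ hr
  rintro _ s _ hs hrs ⟨w, rfl⟩
  have hR := roots cs h D.h4 D.h6
  have hr' : IsRoot cs h (rep cs h w r₀) := B.root.act w
  obtain ⟨s', hs'⟩ : ∃ s' : W, ∀ y, rep cs h s' y = y - cpr cs h y (rep cs h w r₀ - s) • (rep cs h w r₀ - s) := by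
    obtain ⟨v, i, e⟩ := hR.sub_mem hr' hs hrs
    refine ⟨v * cs.simple i * v⁻¹, fun y => ?_⟩
    rw [rep_mul_apply, rep_mul_apply, rep_simple_eq, map_sub, rep_apply_inv, map_smul, ← cpr_rep_sr (cs := cs) (h := h), ← e]
  refine ⟨s'⁻¹ * w, ?_⟩
  rw [rep_mul_apply]
  have h3 := rep_sub D.h4 D.h6 hr' hs hrs hs'
  rw [← h3, rep_inv_apply]

end

end Cfsg.Agent.OddHalf.SL.OfDatum
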