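import Cfsg.Agent.OddHalf.SL.Defs

/-!
# Doubling the root groups: general form of the hypotheses (helper186)

`PreY t B Φ X W Y`: `Pre` with a family `Y r s` of subsets of `C(W r) ∩ C(W s)` in the centraliser hypotheses
(`H1`, `H0`, `Hm`); in the simply laced case `Y r s = ⋃ X a`, `(a, r), (a, s) ≥ 0` (`of_pre`), in twisted types
`Φ` = the long roots and `Y r s` contains the short root groups.
-/

set_option autoImplicit false

namespace Cfsg.Agent.OddHalf.SL.General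

open Cfsg.Agent.OddHalf.SL.Defs

variable {L : Type*} [AddCommGroup L] {G : Type*} [Group G]

structure PreY (t : G) (B : L → L → ℤ) (Φ : Set L) (X W : L → Subgroup G) (Y : L → L → Set G) :
    Prop where
  roots : Roots B Φ
  tt : t * t = 1
  tX : ∀ r ∈ Φ, ∀ x ∈ X r, t * x = x * t
  tK : t ∉ ⨆ r ∈ Φ, X r
  Xsq : ∀ r ∈ Φ, ∀ x ∈ X r, x * x = 1
  Xne : ∀ r ∈ Φ, X r ≠ ⊥
  XW : ∀ r ∈ Φ, X r ≤ W r
  Wab : ∀ r ∈ Φ, ∀ v ∈ W r, ∀ w ∈ W r, v * w = w * v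
  brk : ∀ r ∈ Φ, ∀ w ∈ W r, w⁻¹ * (t * w * t) ∈ X r
  cent : ∀ r ∈ Φ, ∀ w ∈ W r, t * w = w * t → w ∈ X r
  surj : ∀ r ∈ Φ, ∀ x ∈ X r, ∃ w ∈ W r, w⁻¹ * (t * w * t) = x
  /-- `W r` centralises `X a` for `(a, r) ≥ 0` -/
  WX : ∀ r ∈ Φ, ∀ a ∈ Φ, 0 ≤ B a r → ∀ w ∈ W r, ∀ x ∈ X a, w * x = x * w
  Xneg : ∀ r ∈ Φ, ∀ s ∈ Φ, B r s = -1 → ∀ x ∈ X r, ∀ y ∈ X s, x * y * x⁻¹ * y⁻¹ ∈ X (r + s)
  Xnd : ∀ r ∈ Φ, ∀ s ∈ Φ, B r s = -1 → ∀ x ∈ X r, ∀ y ∈ X s, x * y = y * x → x = 1 ∨ y = 1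
  /-- `g W_s g⁻¹ = h W_r h⁻¹` -/
  tri : ∀ r ∈ Φ, ∀ s ∈ Φ, B r s = 1 → ∀ g ∈ X (r - s), g ≠ 1 → ∃ h ∈ X (s - r),
    ∀ w, w ∈ W s ↔ h⁻¹ * (g * w * g⁻¹) * h ∈ W r
  YW : ∀ r ∈ Φ, ∀ s ∈ Φ, ∀ c ∈ Y r s, (∀ w ∈ W r, w * c = c * w) ∧ (∀ w ∈ W s, w * c = c * w)
  Yd : ∀ r ∈ Φ, ∀ s ∈ Φ, B r s = 1 → ∀ c ∈ Y r s, ∀ g ∈ X (r - s), ∀ w ∈ W s,
    w * (g⁻¹ * c * g) = (g⁻¹ * c * g) * w
  Ym : ∀ r ∈ Φ, ∀ s ∈ Φ, B r s = -1 → ∀ c ∈ Y r s, ∀ w ∈ W (r + s), w * c = c * w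
  H1 : ∀ r ∈ Φ, ∀ s ∈ Φ, B r s = 1 → ∀ c, c * t = t * c → (∀ k ∈ Y r s, c * k = k * c) →
    ∃ x ∈ X r, ∃ y ∈ X s, c = x * y ∨ c = t * (x * y)
  H0 : ∀ r ∈ Φ, ∀ s ∈ Φ, B r s = 0 → ∀ c, c * t = t * c → (∀ k ∈ Y r s, c * k = k * c) →
    (∀ a ∈ Φ, B a r = 1 → B a s = -1 → ∀ k ∈ X a, c * k = k * c) →
    (∀ a ∈ Φ, B a r = -1 → B a s = 1 → ∀ k ∈ X a, c * k = k * c) →
    ∃ x ∈ X r, ∃ y ∈ X s, c = x * y ∨ c = t * (x * y)
  Hm : ∀ r ∈ Φ, ∀ s ∈ Φ, B r s = -1 → ∀ c, c * t = t * c → (∀ k ∈ Y r s, c * k = k * c) →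
    (∀ k ∈ X r, c * k = k * c) → (∀ k ∈ X s, c * k = k * c) →
    ∃ x ∈ X r, ∃ y ∈ X s, ∃ m ∈ X (r + s), c = x * y * m ∨ c = t * (x * y * m)
  orth : ∀ r ∈ Φ, ∀ s ∈ Φ, B r s = 0 → ∃ a ∈ Φ, B a r = 1 ∧ B a s = -1

/-- `Pre` implies `PreY`. -/
theorem of_pre {t : G} {B : L → L → ℤ} {Φ : Set L} {X W : L → Subgroup G} (h : Pre t B Φ X W) :
    PreY t B Φ X W (fun r s => {c | ∃ a ∈ Φ, 0 ≤ B a r ∧ 0 ≤ B a s ∧ c ∈ X a}) where
  roots := h.roots
  tt := h.tt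
  tX := h.tX
  tK := h.tK
  Xsq := h.Xsq
  Xne := h.Xne
  XW := h.XW
  Wab := h.Wab
  brk := h.brk
  cent := h.cent
  surj := h.surj
  WX := h.WX
  Xneg := h.Xneg
  Xnd := h.Xnd
  tri := h.tri
  orth := h.orth
  YW := by
    rintro r hr s hs c ⟨a, ha, har, has, hc⟩
    exact ⟨fun w hw => h.WX r hr a ha har w hw c hc, fun w hw => h.WX s hs a ha has w hw c hc⟩
  Yd := by
    rintro r hr s hs hrs c ⟨a, ha, har, has, hc⟩ g hg w hw
    have hd : r - s ∈ Φ := h.roots.sub_mem hr hs hrs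
    have hBad : B a (r - s) = B a r - B a s := h.roots.sub_right _ _ _
    by_cases h0 : 0 ≤ B a (r - s)
    · have h1 : g * c = c * g := h.WX _ hd a ha h0 g (h.XW _ hd hg) c hc
      have h2 : g⁻¹ * c * g = c := by rw [mul_assoc, ← h1]; group
      rw [h2]
      exact h.WX s hs a ha has w hw c hc
    · have h3 := h.roots.ge ha hd
      have h4 : B a (r - s) = -1 := by
        by_contra hne
        have h5 : B a (r - s) = -2 := by omega
        have h6 := h.roots.eq_neg ha hd h5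
        rw [h6, h.roots.neg_left, h.roots.sub_left, h.roots.two r hr, h.roots.symm s r, hrs] at har
        omega
      have h5 : a + (r - s) ∈ Φ := h.roots.add a ha _ hd h4
      have h6 := h.Xneg a ha _ hd h4 c⁻¹ (inv_mem hc) g⁻¹ (inv_mem hg)
      rw [inv_inv, inv_inv] at h6
      have h7 : 0 ≤ B (a + (r - s)) s := by
        rw [h.roots.add_left, h.roots.sub_left, hrs, h.roots.two s hs]
        omega
      have h8 := h.WX s hs _ h5 h7 w hw _ h6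
      have h9 := h.WX s hs a ha has w hw c hc
      have e : g⁻¹ * c * g = c * (c⁻¹ * g⁻¹ * c * g) := by group
      rw [e]
      calc w * (c * (c⁻¹ * g⁻¹ * c * g)) = (w * c) * (c⁻¹ * g⁻¹ * c * g) := by group
        _ = c * (w * (c⁻¹ * g⁻¹ * c * g)) := by rw [h9]; group
        _ = c * (c⁻¹ * g⁻¹ * c * g) * w := by rw [h8]; group
  Ym := by
    rintro r hr s hs hrs c ⟨a, ha, har, has, hc⟩ w hw
    refine h.WX _ (h.roots.add r hr s hs hrs) a ha ?_ w hw c hc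
    rw [h.roots.add_right]; omega
  H1 := by
    intro r hr s hs hrs c hct hc
    exact h.K2 r hr s hs hrs c hct fun a ha har has x hx => hc x ⟨a, ha, har, has, hx⟩
  H0 := by
    intro r hr s hs hrs c hct hc h1 h2
    have h3 : ∀ a ∈ Φ, 1 ≤ B a r → ∀ x ∈ X a, c * x = x * c := by
      intro a ha har x hx
      by_cases has : 0 ≤ B a s
      · exact hc x ⟨a, ha, by omega, has, hx⟩
      · have h4 := h.roots.ge ha hs
        have h5 := h.roots.le a ha r hr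
        have h6 : B a s = -1 := by
          by_contra hne
          have h7 := h.roots.eq_neg ha hs (by omega)
          rw [h7, h.roots.neg_left, h.roots.symm, hrs] at har
          omega
        have h7 : B a r = 1 := by
          by_contra hne
          have h8 := h.roots.eq a ha r hr (by omega)
          rw [h8, hrs] at h6
          omega
        exact h1 a ha h7 h6 x hx
    rcases h.K1 r hr c hct h3 with h4 | h4
    · exact ⟨c, h4, 1, one_mem _, Or.inl (mul_one c).symm⟩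
    · refine ⟨t * c, h4, 1, one_mem _, Or.inr ?_⟩
      rw [mul_one, ← mul_assoc, h.tt, one_mul]
  Hm := by
    intro r hr s hs hrs c hct hc h1 h2
    have hm := h.roots.add r hr s hs hrs
    have h3 : ∀ a ∈ Φ, 1 ≤ B a (r + s) → ∀ x ∈ X a, c * x = x * c := by
      intro a ha ham x hx
      rw [h.roots.add_right] at ham
      have l1 := h.roots.le a ha r hr
      have l2 := h.roots.le a ha s hs
      have g1 := h.roots.ge ha hr
      have g2 := h.roots.ge ha hs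
      by_cases har : 0 ≤ B a r
      · by_cases has : 0 ≤ B a s
        · exact hc x ⟨a, ha, har, has, hx⟩
        · have h7 : B a r = 2 := by omega
          have h8 := h.roots.eq a ha r hr h7
          rw [h8] at hx
          exact h1 x hx
      · have h7 : B a s = 2 := by omega
        have h8 := h.roots.eq a ha s hs h7
        rw [h8] at hx
        exact h2 x hx
    rcases h.K1 _ hm c hct h3 with h4 | h4
    · exact ⟨1, one_mem _, 1, one_mem _, c, h4, Or.inl (by group)⟩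
    · refine ⟨1, one_mem _, 1, one_mem _, t * c, h4, Or.inr ?_⟩
      rw [mul_one, one_mul, ← mul_assoc, h.tt, one_mul]

end Cfsg.Agent.OddHalf.SL.General
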