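import Cfsg.Agent.OddHalf.SL.General

/-!
# Doubling the root groups: `[W r, W s]` for `(r, s) = 1` (helper186)

* `comm_mem`: `[W r, W s] ≤ X r X s`;
* `gen`, `gen_comm`, `gen_cent`: `F = ⟨W r, W s ^ X (r - s)⟩` is abelian modulo `E = X r X s ≤ Z(F)`;
* `ker_form`: elements of `F` commuting with `t` lie in `⟨t⟩ E`.
-/

set_option autoImplicit false

namespace Cfsg.Agent.OddHalf.SL.Core

open Cfsg.Agent.OddHalf.SL.Defs Cfsg.Agent.OddHalf.SL.General

variable {L : Type*} [AddCommGroup L] {G : Type*} [Group G]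

/-- the bracket with `t` -/
def bt (t w : G) : G := w⁻¹ * (t * w * t)

theorem tw (t w : G) : t * w * t = w * bt t w := by unfold bt; group

theorem bt_mul {t v w : G} (tt : t * t = 1) (h : bt t v * w = w * bt t v) :
    bt t (v * w) = bt t v * bt t w := by
  have h1 : bt t v * w⁻¹ = w⁻¹ * bt t v := by
    have : Commute (bt t v) w := h
    exact this.inv_right.eq
  calc bt t (v * w) = w⁻¹ * v⁻¹ * (t * (v * w) * t) := by unfold bt; group
    _ = w⁻¹ * (v⁻¹ * (t * v * (t * t) * w * t)) := by rw [tt]; group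
    _ = (w⁻¹ * bt t v) * (t * w * t) := by unfold bt; group
    _ = bt t v * bt t w := by rw [← h1]; unfold bt; group

theorem bt_eq_one {t w : G} (tt : t * t = 1) (h : bt t w = 1) : t * w = w * t := by
  have h1 := tw t w
  rw [h, mul_one] at h1
  calc t * w = t * w * (t * t) := by rw [tt, mul_one]
    _ = (t * w * t) * t := by group
    _ = w * t := by rw [h1]

theorem bt_of_comm {t w : G} (tt : t * t = 1) (h : t * w = w * t) : bt t w = 1 := by
  unfold bt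
  rw [h, mul_assoc w, tt, mul_one, inv_mul_cancel]

theorem comm_conj {g x : G} (h : g * x = x * g) : g * x * g⁻¹ = x := by
  rw [h, mul_assoc, mul_inv_cancel, mul_one]

/-- commutators commute with everything commuting with the entries -/
theorem comm_comm {v u k : G} (hv : v * k = k * v) (hu : u * k = k * u) :
    (v * u * v⁻¹ * u⁻¹) * k = k * (v * u * v⁻¹ * u⁻¹) := by
  have h1 : Commute v k := hv
  have h2 : Commute u k := hu
  exact (((h1.mul_left h2).mul_left h1.inv_left).mul_left h2.inv_left).eq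

/-- conjugation by `t` -/
theorem t_comm_of {t c c' : G} (tt : t * t = 1) (h : t * c * t = c') (h2 : c' = c) : c * t = t * c := by
  rw [h2] at h
  calc c * t = (t * t) * c * t := by rw [tt, one_mul]
    _ = t * (t * c * t) := by group
    _ = t * c := by rw [h]

/-- the exclusion of the component `t` -/
theorem excl {t v u w : G} (hc : v * u * v⁻¹ * u⁻¹ = t * w) (tt : t * t = 1) (hwv : w * v = v * w)
    (huv : u * (v * v) = (v * v) * u) : w⁻¹ * (t * w⁻¹ * t) * (v * bt t v * v) = v * v := by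
  have h1 : u * v * u⁻¹ = w⁻¹ * t * v := by
    have hti : t⁻¹ = t := inv_eq_of_mul_eq_one_left tt
    have h2 : (v * u * v⁻¹ * u⁻¹)⁻¹ = w⁻¹ * t := by rw [hc, mul_inv_rev, hti]
    calc u * v * u⁻¹ = (v * u * v⁻¹ * u⁻¹)⁻¹ * v := by group
      _ = _ := by rw [h2]
  have h2 : (u * v * u⁻¹) * (u * v * u⁻¹) = v * v := by
    calc (u * v * u⁻¹) * (u * v * u⁻¹) = u * (v * v) * u⁻¹ := by group
      _ = v * v := comm_conj huv
  rw [h1] at h2
  rw [← h2]
  have hwv' : w⁻¹ * v = v * w⁻¹ := by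
    have : Commute w v := hwv
    exact this.inv_left.eq
  calc w⁻¹ * (t * w⁻¹ * t) * (v * bt t v * v) = w⁻¹ * (t * w⁻¹ * t) * ((t * v * t) * v) := by
        rw [tw t v]
    _ = w⁻¹ * t * w⁻¹ * (t * t) * v * t * v := by group
    _ = w⁻¹ * t * (w⁻¹ * v) * t * v := by rw [tt]; group
    _ = w⁻¹ * t * v * (w⁻¹ * t * v) := by rw [hwv']; group

variable {t : G} {B : L → L → ℤ} {Φ : Set L} {X W : L → Subgroup G} {Y : L → L → Set G}

theorem ti (h : PreY t B Φ X W Y) : t⁻¹ = t := inv_eq_of_mul_eq_one_left h.tt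

theorem bt_mem (h : PreY t B Φ X W Y) {r : L} (hr : r ∈ Φ) {w : G} (hw : w ∈ W r) : bt t w ∈ X r :=
  h.brk r hr w hw

theorem mem_X_of_bt (h : PreY t B Φ X W Y) {r : L} (hr : r ∈ Φ) {w : G} (hw : w ∈ W r)
    (hb : bt t w = 1) : w ∈ X r := h.cent r hr w hw (bt_eq_one h.tt hb)

theorem XX (h : PreY t B Φ X W Y) {r s : L} (hr : r ∈ Φ) (hs : s ∈ Φ) (hrs : 0 ≤ B r s) {x y : G}
    (hx : x ∈ X r) (hy : y ∈ X s) : x * y = y * x :=
  (h.WX s hs r hr hrs y (h.XW s hs hy) x hx).symm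

theorem rr (h : PreY t B Φ X W Y) {r : L} (hr : r ∈ Φ) : 0 ≤ B r r := by rw [h.roots.two r hr]; norm_num

theorem bt_hom (h : PreY t B Φ X W Y) {r : L} (hr : r ∈ Φ) {v w : G} (hv : v ∈ W r) (hw : w ∈ W r) :
    bt t (v * w) = bt t v * bt t w :=
  bt_mul h.tt (h.WX r hr r hr (rr h hr) w hw _ (bt_mem h hr hv)).symm

theorem sq_mem (h : PreY t B Φ X W Y) {r : L} (hr : r ∈ Φ) {w : G} (hw : w ∈ W r) : w * w ∈ X r :=
  mem_X_of_bt h hr (mul_mem hw hw) (by rw [bt_hom h hr hw hw]; exact h.Xsq r hr _ (bt_mem h hr hw))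

theorem Xi (h : PreY t B Φ X W Y) {r : L} (hr : r ∈ Φ) {x : G} (hx : x ∈ X r) : x⁻¹ = x :=
  inv_eq_of_mul_eq_one_left (h.Xsq r hr x hx)

theorem exists_ne (h : PreY t B Φ X W Y) {r : L} (hr : r ∈ Φ) : ∃ g ∈ X r, g ≠ 1 := by
  by_contra hcon
  push Not at hcon
  exact h.Xne r hr ((Subgroup.eq_bot_iff_forall _).2 hcon)

/-- bookkeeping for `d = r - s`, `(r, s) = 1` -/
structure Tri (B : L → L → ℤ) (Φ : Set L) (r s : L) : Prop where
  hr : r ∈ Φ
  hs : s ∈ Φ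
  hd : r - s ∈ Φ
  hd' : s - r ∈ Φ
  rs : B r s = 1
  sr : B s r = 1
  dr : B (r - s) r = 1
  ds : B (r - s) s = -1
  ds' : B (s - r) s = 1
  dr' : B (s - r) r = -1

theorem Tri.of (h : PreY t B Φ X W Y) {r s : L} (hr : r ∈ Φ) (hs : s ∈ Φ) (hrs : B r s = 1) :
    Tri B Φ r s := by
  have hsr : B s r = 1 := by rw [h.roots.symm]; exact hrs
  refine ⟨hr, hs, h.roots.sub_mem hr hs hrs, h.roots.sub_mem hs hr hsr, hrs, hsr, ?_, ?_, ?_, ?_⟩
  · rw [h.roots.sub_left, h.roots.two r hr, hsr]; norm_num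
  · rw [h.roots.sub_left, h.roots.two s hs, hrs]; norm_num
  · rw [h.roots.sub_left, h.roots.two s hs, hrs]; norm_num
  · rw [h.roots.sub_left, h.roots.two r hr, hsr]; norm_num

theorem Tri.symm {r s : L} (T : Tri B Φ r s) : Tri B Φ s r :=
  ⟨T.hs, T.hr, T.hd', T.hd, T.sr, T.rs, T.ds', T.dr', T.dr, T.ds⟩

/-- `X r ∩ X s = 1` for `(r, s) = 1` -/
theorem disj (h : PreY t B Φ X W Y) {r s : L} (T : Tri B Φ r s) {x : G} (hx : x ∈ X r) (hx' : x ∈ X s) :
    x = 1 := by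
  obtain ⟨g, hg, hg1⟩ := exists_ne h T.hd
  have h1 : g * x = x * g := XX h T.hd T.hr (by rw [T.dr]; norm_num) hg hx
  rcases h.Xnd _ T.hd _ T.hs T.ds g hg x hx' h1 with h2 | h2
  · exact absurd h2 hg1
  · exact h2

/-- conjugates of `X s` under `X (r - s)` -/
theorem conj_X (h : PreY t B Φ X W Y) {r s : L} (T : Tri B Φ r s) {g y : G} (hg : g ∈ X (r - s))
    (hy : y ∈ X s) : g * y * g⁻¹ * y⁻¹ ∈ X r := by
  have h1 := h.Xneg _ T.hd _ T.hs T.ds g hg y hy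
  have e : r - s + s = r := by abel
  rwa [e] at h1

/-- `t` commutes with `[v, u]` for `(r, s) ≥ 0` -/
theorem comm_t (h : PreY t B Φ X W Y) {r s : L} (hr : r ∈ Φ) (hs : s ∈ Φ) (hrs : 0 ≤ B r s)
    {v u : G} (hv : v ∈ W r) (hu : u ∈ W s) :
    (v * u * v⁻¹ * u⁻¹) * t = t * (v * u * v⁻¹ * u⁻¹) := by
  have hsr : 0 ≤ B s r := by rw [h.roots.symm]; exact hrs
  obtain ⟨x, hx⟩ : ∃ x, x = bt t v := ⟨_, rfl⟩
  obtain ⟨y, hy⟩ : ∃ y, y = bt t u := ⟨_, rfl⟩
  have hxX : x ∈ X r := by rw [hx]; exact bt_mem h hr hv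
  have hyX : y ∈ X s := by rw [hy]; exact bt_mem h hs hu
  have xu : Commute x u := (h.WX s hs r hr hrs u hu x hxX).symm
  have xv : Commute x v := (h.WX r hr r hr (rr h hr) v hv x hxX).symm
  have yu : Commute y u := (h.WX s hs s hs (rr h hs) u hu y hyX).symm
  have yv : Commute y v := (h.WX r hr s hs hsr v hv y hyX).symm
  have xy : Commute x y := XX h hr hs hrs hxX hyX
  refine t_comm_of h.tt (c' := (v * x) * (u * y) * (v * x)⁻¹ * (u * y)⁻¹) ?_ ?_
  · rw [hx, hy, ← tw, ← tw]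
    have hti := ti h
    rw [mul_inv_rev, mul_inv_rev, mul_inv_rev, mul_inv_rev, hti]
    calc t * (v * u * v⁻¹ * u⁻¹) * t = t * v * u * v⁻¹ * u⁻¹ * t := by group
      _ = t * v * (t * t) * u * (t * t) * v⁻¹ * (t * t) * u⁻¹ * t := by rw [h.tt]; group
      _ = _ := by group
  · have c1 : Commute x (u * y) := xu.mul_right xy
    have c2 : Commute y v := yv
    calc (v * x) * (u * y) * (v * x)⁻¹ * (u * y)⁻¹ = v * (x * (u * y)) * x⁻¹ * v⁻¹ * (u * y)⁻¹ := by group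
      _ = v * ((u * y) * x) * x⁻¹ * v⁻¹ * (u * y)⁻¹ := by rw [c1.eq]
      _ = v * u * (y * v⁻¹) * y⁻¹ * u⁻¹ := by group
      _ = v * u * (v⁻¹ * y) * y⁻¹ * u⁻¹ := by rw [c2.inv_right.eq]
      _ = v * u * v⁻¹ * u⁻¹ := by group

/-- a product `x y` -/
theorem sup_nt (h : PreY t B Φ X W Y) {r s : L} (hr : r ∈ Φ) (hs : s ∈ Φ) {x y : G} (hx : x ∈ X r)
    (hy : y ∈ X s) : x * y ≠ t := by
  intro h1
  apply h.tK
  rw [← h1]
  exact mul_mem (Subgroup.mem_iSup_of_mem r (Subgroup.mem_iSup_of_mem hr hx))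
    (Subgroup.mem_iSup_of_mem s (Subgroup.mem_iSup_of_mem hs hy))

/-- the component `t` of `[v, u]` is excluded, `(r, s) ≥ 0` -/
theorem no_t (h : PreY t B Φ X W Y) {r s : L} (hr : r ∈ Φ) (hs : s ∈ Φ) (hrs : 0 ≤ B r s)
    {v u x y : G} (hv : v ∈ W r) (hu : u ∈ W s) (hx : x ∈ X r) (hy : y ∈ X s)
    (hc : v * u * v⁻¹ * u⁻¹ = t * (x * y)) : False := by
  have hsr : 0 ≤ B s r := by rw [h.roots.symm]; exact hrs
  have xv : Commute x v := (h.WX r hr r hr (rr h hr) v hv x hx).symm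
  have yv : Commute y v := (h.WX r hr s hs hsr v hv y hy).symm
  have xy : x * y = y * x := XX h hr hs hrs hx hy
  have h1 := excl hc h.tt (xv.mul_left yv).eq (h.WX s hs r hr hrs u hu _ (sq_mem h hr hv))
  have hti := ti h
  have h2 : (x * y)⁻¹ * (t * (x * y)⁻¹ * t) = 1 := by
    have e : (x * y)⁻¹ = x * y := by rw [mul_inv_rev, Xi h hr hx, Xi h hs hy, xy]
    rw [e]
    have txy : t * (x * y) = (x * y) * t := by
      have c1 : Commute t x := h.tX r hr x hx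
      have c2 : Commute t y := h.tX s hs y hy
      exact (c1.mul_right c2).eq
    rw [txy, mul_assoc (x * y) t, h.tt, mul_one]
    calc x * y * (x * y) = x * y * (y * x) := by rw [← xy]
      _ = x * (y * y) * x := by group
      _ = 1 := by rw [h.Xsq s hs y hy, mul_one, h.Xsq r hr x hx]
  rw [h2, one_mul] at h1
  have h3 : bt t v = 1 := by
    have h4 : v * (bt t v * v) = v * v := by rw [← mul_assoc]; exact h1
    exact mul_eq_right.1 (mul_left_cancel h4)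
  have h4 : v ∈ X r := mem_X_of_bt h hr hv h3
  have h5 : v * u * v⁻¹ * u⁻¹ = 1 := by
    rw [← h.WX s hs r hr hrs u hu v h4]; group
  rw [h5] at hc
  have h6 : x * y = t := by
    have := eq_inv_of_mul_eq_one_right hc.symm
    rw [this, hti]
  exact sup_nt h hr hs hx hy h6

/-- `[W r, W s] ≤ X r X s` -/
theorem comm_mem (h : PreY t B Φ X W Y) {r s : L} (hr : r ∈ Φ) (hs : s ∈ Φ) (hrs : B r s = 1)
    {v u : G} (hv : v ∈ W r) (hu : u ∈ W s) :
    ∃ x ∈ X r, ∃ y ∈ X s, v * u * v⁻¹ * u⁻¹ = x * y := by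
  obtain ⟨x, hx, y, hy, h1⟩ := h.H1 r hr s hs hrs _ (comm_t h hr hs (by omega) hv hu) (fun k hk => by
    obtain ⟨h2, h3⟩ := h.YW r hr s hs k hk
    exact comm_comm (h2 v hv) (h3 u hu))
  rcases h1 with h1 | h1
  · exact ⟨x, hx, y, hy, h1⟩
  · exact (no_t h hr hs (by omega) hv hu hx hy h1).elim

/-! ### the group `F` -/

/-- `E = X r X s` -/
def Es (h : PreY t B Φ X W Y) {r s : L} (T : Tri B Φ r s) : Subgroup G where
  carrier := {e | ∃ x ∈ X r, ∃ y ∈ X s, e = x * y}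
  one_mem' := ⟨1, one_mem _, 1, one_mem _, (mul_one 1).symm⟩
  mul_mem' := by
    rintro _ _ ⟨x, hx, y, hy, rfl⟩ ⟨x', hx', y', hy', rfl⟩
    refine ⟨x * x', mul_mem hx hx', y * y', mul_mem hy hy', ?_⟩
    have h1 : x' * y = y * x' := XX h T.hr T.hs (by rw [T.rs]; norm_num) hx' hy
    calc x * y * (x' * y') = x * (y * x') * y' := by group
      _ = x * x' * (y * y') := by rw [← h1]; group
  inv_mem' := by
    rintro _ ⟨x, hx, y, hy, rfl⟩
    refine ⟨x⁻¹, inv_mem hx, y⁻¹, inv_mem hy, ?_⟩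
    have h1 : x * y = y * x := XX h T.hr T.hs (by rw [T.rs]; norm_num) hx hy
    rw [h1, mul_inv_rev]

theorem mem_Es (h : PreY t B Φ X W Y) {r s : L} (T : Tri B Φ r s) {e : G} :
    e ∈ Es h T ↔ ∃ x ∈ X r, ∃ y ∈ X s, e = x * y := Iff.rfl

theorem Es_left (h : PreY t B Φ X W Y) {r s : L} (T : Tri B Φ r s) {e : G} (he : e ∈ X r) :
    e ∈ Es h T := ⟨e, he, 1, one_mem _, (mul_one e).symm⟩

theorem Es_right (h : PreY t B Φ X W Y) {r s : L} (T : Tri B Φ r s) {e : G} (he : e ∈ X s) :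
    e ∈ Es h T := ⟨1, one_mem _, e, he, (one_mul e).symm⟩

theorem Es_symm (h : PreY t B Φ X W Y) {r s : L} (T : Tri B Φ r s) {e : G} (he : e ∈ Es h T) :
    e ∈ Es h T.symm := by
  obtain ⟨x, hx, y, hy, rfl⟩ := he
  exact ⟨y, hy, x, hx, XX h T.hr T.hs (by rw [T.rs]; norm_num) hx hy⟩

/-- `X (r - s)` normalises `E` -/
theorem Es_conj (h : PreY t B Φ X W Y) {r s : L} (T : Tri B Φ r s) {g e : G} (hg : g ∈ X (r - s))
    (he : e ∈ Es h T) : g * e * g⁻¹ ∈ Es h T := by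
  obtain ⟨x, hx, y, hy, rfl⟩ := he
  have h1 : g * x = x * g := XX h T.hd T.hr (by rw [T.dr]; norm_num) hg hx
  have h2 := conj_X h T hg hy
  have h3 : g * (x * y) * g⁻¹ = x * (g * y * g⁻¹ * y⁻¹) * y := by
    calc g * (x * y) * g⁻¹ = (g * x) * y * g⁻¹ := by group
      _ = x * (g * y * g⁻¹ * y⁻¹) * y := by rw [h1]; group
  rw [h3]
  exact mul_mem (mul_mem (Es_left h T hx) (Es_left h T h2)) (Es_right h T hy)

theorem Es_conj' (h : PreY t B Φ X W Y) {r s : L} (T : Tri B Φ r s) {g e : G} (hg : g ∈ X (s - r))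
    (he : e ∈ Es h T) : g * e * g⁻¹ ∈ Es h T :=
  Es_symm h T.symm (Es_conj h T.symm hg (Es_symm h T he))

/-- `E` centralises `W r` -/
theorem Es_comm_r (h : PreY t B Φ X W Y) {r s : L} (T : Tri B Φ r s) {e w : G} (he : e ∈ Es h T)
    (hw : w ∈ W r) : w * e = e * w := by
  obtain ⟨x, hx, y, hy, rfl⟩ := he
  have c1 : Commute w x := h.WX r T.hr r T.hr (rr h T.hr) w hw x hx
  have c2 : Commute w y := h.WX r T.hr s T.hs (by rw [T.sr]; norm_num) w hw y hy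
  exact (c1.mul_right c2).eq

theorem Es_comm_s (h : PreY t B Φ X W Y) {r s : L} (T : Tri B Φ r s) {e w : G} (he : e ∈ Es h T)
    (hw : w ∈ W s) : w * e = e * w := Es_comm_r h T.symm (Es_symm h T he) hw

theorem Es_comm_t (h : PreY t B Φ X W Y) {r s : L} (T : Tri B Φ r s) {e : G} (he : e ∈ Es h T) :
    t * e = e * t := by
  obtain ⟨x, hx, y, hy, rfl⟩ := he
  have c1 : Commute t x := h.tX r T.hr x hx
  have c2 : Commute t y := h.tX s T.hs y hy
  exact (c1.mul_right c2).eq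

/-- the generators of `F` -/
def Gn (X W : L → Subgroup G) (r s : L) : Set G :=
  {f | f ∈ W r ∨ ∃ g ∈ X (r - s), ∃ u ∈ W s, f = g * u * g⁻¹}

/-- the group `F` -/
def Fs (X W : L → Subgroup G) (r s : L) : Subgroup G := Subgroup.closure (Gn X W r s)

theorem Wr_le (X W : L → Subgroup G) (r s : L) : W r ≤ Fs X W r s :=
  fun _ hw => Subgroup.subset_closure (Or.inl hw)

theorem conj_mem_Fs {X W : L → Subgroup G} {r s : L} {g u : G} (hg : g ∈ X (r - s)) (hu : u ∈ W s) :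
    g * u * g⁻¹ ∈ Fs X W r s := Subgroup.subset_closure (Or.inr ⟨g, hg, u, hu, rfl⟩)

theorem Ws_le (X W : L → Subgroup G) (r s : L) : W s ≤ Fs X W r s := fun u hu => by
  have := conj_mem_Fs (X := X) (r := r) (one_mem (X (r - s))) hu
  rwa [one_mul, inv_one, mul_one] at this

theorem Es_le_Fs (h : PreY t B Φ X W Y) {r s : L} (T : Tri B Φ r s) : Es h T ≤ Fs X W r s := by
  rintro _ ⟨x, hx, y, hy, rfl⟩
  exact mul_mem (Wr_le X W r s (h.XW r T.hr hx)) (Ws_le X W r s (h.XW s T.hs hy))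

/-- `E` centralises the generators -/
theorem gn_comm_Es (h : PreY t B Φ X W Y) {r s : L} (T : Tri B Φ r s) {e f : G} (he : e ∈ Es h T)
    (hf : f ∈ Gn X W r s) : f * e = e * f := by
  rcases hf with hf | ⟨g, hg, u, hu, rfl⟩
  · exact Es_comm_r h T he hf
  · have h1 := Es_conj h T (inv_mem hg) he
    rw [inv_inv] at h1
    have h2 := Es_comm_s h T h1 hu
    calc g * u * g⁻¹ * e = g * (u * (g⁻¹ * e * g)) * g⁻¹ := by group
      _ = g * ((g⁻¹ * e * g) * u) * g⁻¹ := by rw [h2]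
      _ = e * (g * u * g⁻¹) := by group

theorem fs_comm_Es (h : PreY t B Φ X W Y) {r s : L} (T : Tri B Φ r s) {e f : G} (he : e ∈ Es h T)
    (hf : f ∈ Fs X W r s) : f * e = e * f := by
  have : Fs X W r s ≤ Subgroup.centralizer {e} := by
    rw [Fs, Subgroup.closure_le]
    intro f hf
    exact Subgroup.mem_centralizer_singleton_iff.2 (gn_comm_Es h T he hf)
  exact Subgroup.mem_centralizer_singleton_iff.1 (this hf)

/-- commutators of generators lie in `E` -/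
theorem gn_comm (h : PreY t B Φ X W Y) {r s : L} (T : Tri B Φ r s) {f f' : G}
    (hf : f ∈ Gn X W r s) (hf' : f' ∈ Gn X W r s) : f * f' * f⁻¹ * f'⁻¹ ∈ Es h T := by
  -- `v ∈ W r` and `g u g⁻¹`
  have key : ∀ v ∈ W r, ∀ g ∈ X (r - s), ∀ u ∈ W s,
      v * (g * u * g⁻¹) * v⁻¹ * (g * u * g⁻¹)⁻¹ ∈ Es h T := by
    intro v hv g hg u hu
    have c1 : v * g = g * v := h.WX r T.hr _ T.hd (by rw [T.dr]; norm_num) v hv g hg
    have c2 : g⁻¹ * v = v * g⁻¹ := by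
      have : Commute v g := c1
      exact this.symm.inv_left.eq
    have e1 : v * (g * u * g⁻¹) * v⁻¹ * (g * u * g⁻¹)⁻¹ = g * (v * u * v⁻¹ * u⁻¹) * g⁻¹ := by
      calc v * (g * u * g⁻¹) * v⁻¹ * (g * u * g⁻¹)⁻¹
          = (v * g) * u * (g⁻¹ * v⁻¹) * g * u⁻¹ * g⁻¹ := by group
        _ = (g * v) * u * (g⁻¹ * v⁻¹) * g * u⁻¹ * g⁻¹ := by rw [c1]
        _ = g * v * u * ((v * g)⁻¹ * g) * u⁻¹ * g⁻¹ := by group
        _ = g * v * u * ((g * v)⁻¹ * g) * u⁻¹ * g⁻¹ := by rw [c1]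
        _ = _ := by group
    rw [e1]
    exact Es_conj h T hg (comm_mem h T.hr T.hs T.rs hv hu)
  rcases hf with hf | ⟨g, hg, u, hu, rfl⟩
  · rcases hf' with hf' | ⟨g, hg, u, hu, rfl⟩
    · have h1 := h.Wab r T.hr f hf f' hf'
      have h2 : f * f' * f⁻¹ * f'⁻¹ = 1 := by rw [h1]; group
      rw [h2]; exact one_mem _
    · exact key f hf g hg u hu
  · rcases hf' with hf' | ⟨g', hg', u', hu', rfl⟩
    · have h1 := inv_mem (key f' hf' g hg u hu)
      have h2 : (f' * (g * u * g⁻¹) * f'⁻¹ * (g * u * g⁻¹)⁻¹)⁻¹ =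
          (g * u * g⁻¹) * f' * (g * u * g⁻¹)⁻¹ * f'⁻¹ := by group
      rwa [h2] at h1
    · -- conjugate by `g'`
      obtain ⟨k, hk⟩ : ∃ k, k = g'⁻¹ * g := ⟨_, rfl⟩
      have hkX : k ∈ X (r - s) := by rw [hk]; exact mul_mem (inv_mem hg') hg
      have h1 : (k * u * k⁻¹) * u' * (k * u * k⁻¹)⁻¹ * u'⁻¹ ∈ Es h T := by
        by_cases hk1 : k = 1
        · have h2 := h.Wab s T.hs u hu u' hu'
          have h3 : (k * u * k⁻¹) * u' * (k * u * k⁻¹)⁻¹ * u'⁻¹ = 1 := by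
            rw [hk1]
            calc 1 * u * 1⁻¹ * u' * (1 * u * 1⁻¹)⁻¹ * u'⁻¹ = (u * u') * u⁻¹ * u'⁻¹ := by group
              _ = 1 := by rw [h2]; group
          rw [h3]; exact one_mem _
        · obtain ⟨q, hq, hqw⟩ := h.tri r T.hr s T.hs T.rs k hkX hk1
          have h2 := (hqw u).1 hu
          obtain ⟨w, hw⟩ : ∃ w, w = q⁻¹ * (k * u * k⁻¹) * q := ⟨_, rfl⟩
          rw [← hw] at h2
          have h3 : k * u * k⁻¹ = q * w * q⁻¹ := by rw [hw]; group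
          have c1 : u' * q = q * u' := h.WX s T.hs _ T.hd' (by rw [T.ds']; norm_num) u' hu' q hq
          have e1 : (k * u * k⁻¹) * u' * (k * u * k⁻¹)⁻¹ * u'⁻¹ =
              q * (w * u' * w⁻¹ * u'⁻¹) * q⁻¹ := by
            rw [h3]
            calc q * w * q⁻¹ * u' * (q * w * q⁻¹)⁻¹ * u'⁻¹
                = q * w * (q⁻¹ * (u' * q)) * w⁻¹ * (u' * q)⁻¹ := by group
              _ = q * w * (q⁻¹ * (q * u')) * w⁻¹ * (q * u')⁻¹ := by rw [c1]
              _ = _ := by group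
          rw [e1]
          exact Es_conj' h T hq (comm_mem h T.hr T.hs T.rs h2 hu')
      have h2 := Es_conj h T hg' h1
      have e2 : g' * ((k * u * k⁻¹) * u' * (k * u * k⁻¹)⁻¹ * u'⁻¹) * g'⁻¹ =
          (g * u * g⁻¹) * (g' * u' * g'⁻¹) * (g * u * g⁻¹)⁻¹ * (g' * u' * g'⁻¹)⁻¹ := by
        rw [hk]; group
      rwa [e2] at h2

/-- abstract: a group generated by elements commuting modulo a central subgroup -/
theorem closure_comm (E : Subgroup G) (S : Set G) (hE : ∀ f ∈ Subgroup.closure S, ∀ e ∈ E, f * e = e * f)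
    (hS : ∀ f ∈ S, ∀ f' ∈ S, f * f' * f⁻¹ * f'⁻¹ ∈ E) {f f' : G} (hf : f ∈ Subgroup.closure S)
    (hf' : f' ∈ Subgroup.closure S) : f * f' * f⁻¹ * f'⁻¹ ∈ E := by
  have step : ∀ a b : G, ∀ g ∈ Subgroup.closure S, a * g * a⁻¹ * g⁻¹ ∈ E → a ∈ Subgroup.closure S →
      b * g * b⁻¹ * g⁻¹ ∈ E → (a * b) * g * (a * b)⁻¹ * g⁻¹ ∈ E := by
    intro a b g hg ha hac hb
    have h1 : (a * b) * g * (a * b)⁻¹ * g⁻¹ = (a * (b * g * b⁻¹ * g⁻¹)) * g * a⁻¹ * g⁻¹ := by group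
    rw [h1, hE a hac _ hb]
    have h2 : b * g * b⁻¹ * g⁻¹ * a * g * a⁻¹ * g⁻¹ = (b * g * b⁻¹ * g⁻¹) * (a * g * a⁻¹ * g⁻¹) := by
      group
    rw [h2]
    exact mul_mem hb ha
  have stepi : ∀ a g : G, a ∈ Subgroup.closure S → a * g * a⁻¹ * g⁻¹ ∈ E →
      a⁻¹ * g * a⁻¹⁻¹ * g⁻¹ ∈ E := by
    intro a g ha h1
    have h2 : a⁻¹ * g * a⁻¹⁻¹ * g⁻¹ = a⁻¹ * (a * g * a⁻¹ * g⁻¹)⁻¹ * a := by group
    have h3 := hE a⁻¹ (inv_mem ha) _ (inv_mem h1)
    rw [h2, h3, inv_mul_cancel_right]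
    exact inv_mem h1
  have symm : ∀ a b : G, a * b * a⁻¹ * b⁻¹ ∈ E → b * a * b⁻¹ * a⁻¹ ∈ E := by
    intro a b h1
    have h2 : b * a * b⁻¹ * a⁻¹ = (a * b * a⁻¹ * b⁻¹)⁻¹ := by group
    rw [h2]; exact inv_mem h1
  have first : ∀ g ∈ S, ∀ f ∈ Subgroup.closure S, f * g * f⁻¹ * g⁻¹ ∈ E := by
    intro g hg f hf
    induction hf using Subgroup.closure_induction with
    | mem x hx => exact hS x hx g hg
    | one =>
      have : (1 : G) * g * 1⁻¹ * g⁻¹ = 1 := by group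
      rw [this]; exact one_mem _
    | mul x y hx hy h1 h2 => exact step x y g (Subgroup.subset_closure hg) h1 hx h2
    | inv x hx h1 => exact stepi x g hx h1
  induction hf' using Subgroup.closure_induction with
  | mem x hx => exact first x hx f hf
  | one =>
    have : f * 1 * f⁻¹ * 1⁻¹ = 1 := by group
    rw [this]; exact one_mem _
  | mul x y hx hy h1 h2 => exact symm _ _ (step x y f hf (symm _ _ h1) hx (symm _ _ h2))
  | inv x hx h1 => exact symm _ _ (stepi x f hx (symm _ _ h1))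

theorem fs_comm (h : PreY t B Φ X W Y) {r s : L} (T : Tri B Φ r s) {f f' : G}
    (hf : f ∈ Fs X W r s) (hf' : f' ∈ Fs X W r s) : f * f' * f⁻¹ * f'⁻¹ ∈ Es h T :=
  closure_comm (Es h T) (Gn X W r s) (fun _ hf _ he => fs_comm_Es h T he hf)
    (fun _ hf _ hf' => gn_comm h T hf hf') hf hf'

/-- `F` centralises `Y r s` -/
theorem fs_comm_Y (h : PreY t B Φ X W Y) {r s : L} (T : Tri B Φ r s) {f k : G}
    (hf : f ∈ Fs X W r s) (hk : k ∈ Y r s) : f * k = k * f := by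
  have : Fs X W r s ≤ Subgroup.centralizer {k} := by
    rw [Fs, Subgroup.closure_le]
    rintro f (hf | ⟨g, hg, u, hu, rfl⟩)
    · exact Subgroup.mem_centralizer_singleton_iff.2 ((h.YW r T.hr s T.hs k hk).1 f hf)
    · refine Subgroup.mem_centralizer_singleton_iff.2 ?_
      have h1 := h.Yd r T.hr s T.hs T.rs k hk g hg u hu
      calc g * u * g⁻¹ * k = g * (u * (g⁻¹ * k * g)) * g⁻¹ := by group
        _ = g * ((g⁻¹ * k * g) * u) * g⁻¹ := by rw [h1]
        _ = k * (g * u * g⁻¹) := by group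
  exact Subgroup.mem_centralizer_singleton_iff.1 (this hf)

/-- elements of `F` commuting with `t` lie in `⟨t⟩ E` -/
theorem ker_form (h : PreY t B Φ X W Y) {r s : L} (T : Tri B Φ r s) {f : G}
    (hf : f ∈ Fs X W r s) (hft : f * t = t * f) : f ∈ Es h T ∨ ∃ e ∈ Es h T, f = t * e := by
  obtain ⟨x, hx, y, hy, h1⟩ := h.H1 r T.hr s T.hs T.rs f hft (fun k hk => fs_comm_Y h T hf hk)
  rcases h1 with h1 | h1
  · exact Or.inl ⟨x, hx, y, hy, h1⟩
  · exact Or.inr ⟨x * y, ⟨x, hx, y, hy, rfl⟩, h1⟩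

end Cfsg.Agent.OddHalf.SL.Core
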