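import Cfsg.Agent.OddHalf.SL.One

/-!
# The relations between the `W r` for `(r, s) = 0, -1` (helper186)

`Ax t B Φ X W Y`: `PreY`, `t ∉ F`, `g u g⁻¹ ∈ u W (a + s)` (`four`), `W r` elementary (`sq`).
* `comm_zero`, `comm_neg`, `dbl`.
-/

set_option autoImplicit false

namespace Cfsg.Agent.OddHalf.SL.Rest

open Cfsg.Agent.OddHalf.SL.Defs Cfsg.Agent.OddHalf.SL.General Cfsg.Agent.OddHalf.SL.Core
open Cfsg.Agent.OddHalf.SL.One

variable {L : Type*} [AddCommGroup L] {G : Type*} [Group G]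
variable {t : G} {B : L → L → ℤ} {Φ : Set L} {X W : L → Subgroup G} {Y : L → L → Set G}

/-- `y ↦ [g, y]` maps `X s` onto `X r` -/
theorem surj_comm [Finite G] (h : PreY t B Φ X W Y) {r s : L} (T : Tri B Φ r s) {g : G}
    (hg : g ∈ X (r - s)) (hg1 : g ≠ 1) {x : G} (hx : x ∈ X r) :
    ∃ y ∈ X s, g * y * g⁻¹ * y⁻¹ = x := by
  obtain ⟨q, hq, hqw⟩ := h.tri r T.hr s T.hs T.rs g hg hg1
  obtain ⟨n, hn⟩ : ∃ n, n = q⁻¹ * g := ⟨_, rfl⟩
  have hqt : Commute q t := (h.tX _ T.hd' q hq).symm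
  have hgt : Commute g t := (h.tX _ T.hd g hg).symm
  have hnt : Commute n t := by rw [hn]; exact hqt.inv_left.mul_left hgt
  have hmem : ∀ x ∈ X r, n⁻¹ * x * n ∈ X s := by
    intro x hx
    have hxt : Commute t x := h.tX r T.hr x hx
    apply h.cent s T.hs
    · rw [hqw]
      have : q⁻¹ * (g * (n⁻¹ * x * n) * g⁻¹) * q = x := by rw [hn]; group
      rw [this]; exact h.XW r T.hr hx
    · exact ((hnt.symm.inv_right.mul_right hxt).mul_right hnt.symm).eq
  let F : X r → X r := fun x => ⟨g * (n⁻¹ * x * n) * g⁻¹ * (n⁻¹ * x * n)⁻¹, conj_X h T hg (hmem x x.2)⟩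
  have hinj : Function.Injective F := by
    intro a b hab
    have h1 : g * (n⁻¹ * a * n) * g⁻¹ * (n⁻¹ * a * n)⁻¹ = g * (n⁻¹ * b * n) * g⁻¹ * (n⁻¹ * b * n)⁻¹ :=
      congrArg Subtype.val hab
    obtain ⟨y, hy⟩ : ∃ y, y = n⁻¹ * (a : G) * n := ⟨_, rfl⟩
    obtain ⟨y', hy'⟩ : ∃ y', y' = n⁻¹ * (b : G) * n := ⟨_, rfl⟩
    have hyX : y ∈ X s := by rw [hy]; exact hmem a a.2
    have hyX' : y' ∈ X s := by rw [hy']; exact hmem b b.2
    rw [← hy, ← hy'] at h1
    have h2 : (y'⁻¹ * y) * g⁻¹ = g⁻¹ * (y'⁻¹ * y) := by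
      calc (y'⁻¹ * y) * g⁻¹ = y'⁻¹ * g⁻¹ * (g * y * g⁻¹ * y⁻¹) * y := by group
        _ = y'⁻¹ * g⁻¹ * (g * y' * g⁻¹ * y'⁻¹) * y := by rw [h1]
        _ = g⁻¹ * (y'⁻¹ * y) := by group
    have h3 : Commute (y'⁻¹ * y) g⁻¹ := h2
    have h4 : g * (y'⁻¹ * y) = (y'⁻¹ * y) * g := by
      have := h3.inv_right
      rw [inv_inv] at this
      exact this.symm.eq
    rcases h.Xnd _ T.hd _ T.hs T.ds g hg _ (mul_mem (inv_mem hyX') hyX) h4 with h5 | h5
    · exact absurd h5 hg1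
    · have h6 : y' = y := inv_mul_eq_one.1 h5
      rw [hy, hy'] at h6
      ext
      have h7 := mul_left_cancel (mul_right_cancel h6)
      exact h7.symm
  obtain ⟨a, ha⟩ := (Finite.injective_iff_surjective.1 hinj) ⟨x, hx⟩
  exact ⟨_, hmem a a.2, congrArg Subtype.val ha⟩

/-- the intermediate facts -/
structure Ax (t : G) (B : L → L → ℤ) (Φ : Set L) (X W : L → Subgroup G) (Y : L → L → Set G) :
    Prop where
  h : PreY t B Φ X W Y
  one : ∀ r ∈ Φ, ∀ s ∈ Φ, B r s = 1 → ∀ v ∈ W r, ∀ w ∈ W s, v * w = w * v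
  four : ∀ a ∈ Φ, ∀ s ∈ Φ, B a s = -1 → ∀ g ∈ X a, ∀ u ∈ W s, ∃ w ∈ W (a + s), g * u * g⁻¹ = u * w
  sq : ∀ r ∈ Φ, ∀ w ∈ W r, w * w = 1

theorem Ax.of_big [Finite G] (h : PreY t B Φ X W Y) (hb : Big t B Φ X W)
    (hex : ∀ r ∈ Φ, ∃ s ∈ Φ, B r s = 1) : Ax t B Φ X W Y := by
  have hN : ∀ {r s : L}, Tri B Φ r s → t ∉ Fs X W r s := by
    intro r s T
    obtain ⟨δ, h1, h2, h3, h4, h5, h6⟩ := hb.del r T.hr s T.hs T.rs
    exact t_not_mem h T h1 h2 h3 h4 h5 h6
  have hc : ∀ {r s : L} (T : Tri B Φ r s), ∀ g ∈ X (r - s), ∀ u ∈ W s,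
      ∃ w ∈ W r, g * u * g⁻¹ = u * w ∧ bt t w = g * bt t u * g⁻¹ * (bt t u)⁻¹ := by
    intro r s T g hg u hu
    obtain ⟨δ, h1, h2, h3, h4, h5, h6⟩ := hb.eps r T.hr s T.hs T.rs
    exact conj_form' h T (hN T) (hN T.symm) h1 h2 h3 h4 h5 h6 hg hu
  refine ⟨h, ?_, ?_, ?_⟩
  · intro r hr s hs hrs v hv w hw
    have T := Tri.of h hr hs hrs
    exact comm_one h T (hN T) (hN T.symm) hv hw
  · intro a ha s hs has g hg u hu
    have hm := h.roots.add a ha s hs has
    have T := Tri.of h hm hs (by rw [h.roots.add_left, has, h.roots.two s hs]; norm_num)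
    have e : a + s - s = a := by abel
    obtain ⟨w, hw, h1, -⟩ := hc T g (by rw [e]; exact hg) u hu
    exact ⟨w, hw, h1⟩
  · intro r hr w0 hw0
    obtain ⟨s, hs, hrs⟩ := hex r hr
    have T := Tri.of h hr hs hrs
    obtain ⟨g, hg, hg1⟩ := exists_ne h T.hd
    obtain ⟨y, hy, hgy⟩ := surj_comm h T hg hg1 (bt_mem h hr hw0)
    obtain ⟨u, hu, hbu⟩ := h.surj s hs y hy
    have hbu' : bt t u = y := hbu
    obtain ⟨w, hw, h1, h2⟩ := hc T g hg u hu
    rw [hbu', hgy] at h2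
    have hgg : g * g = 1 := h.Xsq _ T.hd g hg
    have cwg : Commute w g := h.WX r hr _ T.hd (by rw [T.dr]; norm_num) w hw g hg
    have hww : w * w = 1 := by
      have h3 : u * (w * w) = u := by
        calc u * (w * w) = (u * w) * w := by group
          _ = (g * u * g⁻¹) * w := by rw [h1]
          _ = (g * u * g⁻¹) * (g * w * g⁻¹) := by rw [comm_conj cwg.symm.eq]
          _ = g * (u * w) * g⁻¹ := by group
          _ = g * (g * u * g⁻¹) * g⁻¹ := by rw [h1]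
          _ = (g * g) * u * (g * g)⁻¹ := by group
          _ = u := by rw [hgg]; group
      exact mul_eq_left.1 h3
    have h3 : w⁻¹ * w0 ∈ X r := by
      apply mem_X_of_bt h hr (mul_mem (inv_mem hw) hw0)
      rw [bt_hom h hr (inv_mem hw) hw0, ← h2]
      have h4 := bt_hom h hr (inv_mem hw) hw
      rw [inv_mul_cancel, bt_of_comm h.tt (by rw [mul_one, one_mul])] at h4
      exact h4.symm
    have c1 : Commute w (w⁻¹ * w0) := h.Wab r hr w hw _ (h.XW r hr h3)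
    calc w0 * w0 = (w * (w⁻¹ * w0)) * (w * (w⁻¹ * w0)) := by group
      _ = w * ((w⁻¹ * w0) * w) * (w⁻¹ * w0) := by group
      _ = w * (w * (w⁻¹ * w0)) * (w⁻¹ * w0) := by rw [c1.eq]
      _ = (w * w) * ((w⁻¹ * w0) * (w⁻¹ * w0)) := by group
      _ = 1 := by rw [hww, h.Xsq r hr _ h3, one_mul]

/-- (5): `[W r, W s] = 1` for `(r, s) = 0` -/
theorem comm_zero (A : Ax t B Φ X W Y) {r s : L} (hr : r ∈ Φ) (hs : s ∈ Φ) (hrs : B r s = 0)
    {v u : G} (hv : v ∈ W r) (hu : u ∈ W s) : v * u = u * v := by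
  have h := A.h
  have hsr : B s r = 0 := by rw [h.roots.symm]; exact hrs
  have c1 : ∀ a ∈ Φ, B a r = 1 → B a s = -1 → ∀ k ∈ X a,
      (v * u * v⁻¹ * u⁻¹) * k = k * (v * u * v⁻¹ * u⁻¹) := by
    intro a ha har has k hk
    obtain ⟨w, hw, h1⟩ := A.four a ha s hs has k hk u hu
    have hm := h.roots.add a ha s hs has
    have cvw : Commute v w := A.one r hr _ hm (by
      rw [h.roots.add_right, hrs, h.roots.symm, har]; norm_num) v hv w hw
    have cvk : Commute v k := h.WX r hr a ha (by omega) v hv k hk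
    have e : k * (v * u * v⁻¹ * u⁻¹) * k⁻¹ = v * u * v⁻¹ * u⁻¹ := by
      calc k * (v * u * v⁻¹ * u⁻¹) * k⁻¹ =
            (k * v * k⁻¹) * (k * u * k⁻¹) * (k * v * k⁻¹)⁻¹ * (k * u * k⁻¹)⁻¹ := by group
        _ = v * (u * w) * v⁻¹ * (u * w)⁻¹ := by rw [comm_conj cvk.symm.eq, h1]
        _ = v * u * (w * v⁻¹) * (u * w)⁻¹ := by group
        _ = v * u * (v⁻¹ * w) * (u * w)⁻¹ := by rw [cvw.inv_left.eq]
        _ = _ := by group
    calc (v * u * v⁻¹ * u⁻¹) * k = (k * (v * u * v⁻¹ * u⁻¹) * k⁻¹) * k := by rw [e]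
      _ = _ := by group
  have c2 : ∀ a ∈ Φ, B a r = -1 → B a s = 1 → ∀ k ∈ X a,
      (v * u * v⁻¹ * u⁻¹) * k = k * (v * u * v⁻¹ * u⁻¹) := by
    intro a ha har has k hk
    obtain ⟨w, hw, h1⟩ := A.four a ha r hr har k hk v hv
    have hm := h.roots.add a ha r hr har
    have cuw : Commute u w := A.one s hs _ hm (by
      rw [h.roots.add_right, hsr, h.roots.symm, has]; norm_num) u hu w hw
    have cuk : Commute u k := h.WX s hs a ha (by omega) u hu k hk
    have e : k * (v * u * v⁻¹ * u⁻¹) * k⁻¹ = v * u * v⁻¹ * u⁻¹ := by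
      calc k * (v * u * v⁻¹ * u⁻¹) * k⁻¹ =
            (k * v * k⁻¹) * (k * u * k⁻¹) * (k * v * k⁻¹)⁻¹ * (k * u * k⁻¹)⁻¹ := by group
        _ = (v * w) * u * (v * w)⁻¹ * u⁻¹ := by rw [comm_conj cuk.symm.eq, h1]
        _ = v * (w * u) * w⁻¹ * v⁻¹ * u⁻¹ := by group
        _ = v * (u * w) * w⁻¹ * v⁻¹ * u⁻¹ := by rw [cuw.eq]
        _ = _ := by group
    calc (v * u * v⁻¹ * u⁻¹) * k = (k * (v * u * v⁻¹ * u⁻¹) * k⁻¹) * k := by rw [e]
      _ = _ := by group
  obtain ⟨x, hx, y, hy, h1⟩ := h.H0 r hr s hs hrs _ (comm_t h hr hs (by omega) hv hu) (fun k hk => by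
    obtain ⟨h2, h3⟩ := h.YW r hr s hs k hk
    exact comm_comm (h2 v hv) (h3 u hu)) c1 c2
  have h2 : v * u * v⁻¹ * u⁻¹ = x * y := by
    rcases h1 with h1 | h1
    · exact h1
    · exact (no_t h hr hs (by omega) hv hu hx hy h1).elim
  -- `y = 1`
  have hy1 : y = 1 := by
    obtain ⟨a, ha, har, has⟩ := h.orth r hr s hs hrs
    obtain ⟨g, hg, hg1⟩ := exists_ne h ha
    have h3 := c1 a ha har has g hg
    rw [h2] at h3
    have c : Commute g x := XX h ha hr (by omega) hg hx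
    have h4 : g * y = y * g := by
      have h5 : x * (g * y) = x * (y * g) := by
        calc x * (g * y) = (x * g) * y := by group
          _ = g * (x * y) := by rw [← c.eq]; group
          _ = x * (y * g) := by rw [← h3]; group
      exact mul_left_cancel h5
    rcases h.Xnd a ha s hs has g hg y hy h4 with h5 | h5
    · exact absurd h5 hg1
    · exact h5
  have hx1 : x = 1 := by
    obtain ⟨a, ha, has, har⟩ := h.orth s hs r hr hsr
    obtain ⟨g, hg, hg1⟩ := exists_ne h ha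
    have h3 := c2 a ha har has g hg
    rw [h2, hy1, mul_one] at h3
    rcases h.Xnd a ha r hr har g hg x hx h3.symm with h5 | h5
    · exact absurd h5 hg1
    · exact h5
  rw [hx1, hy1, one_mul] at h2
  calc v * u = (v * u * v⁻¹ * u⁻¹) * (u * v) := by group
    _ = u * v := by rw [h2, one_mul]

/-- (6): `[W r, W s] ≤ W (r + s)` for `(r, s) = -1` -/
theorem comm_neg (A : Ax t B Φ X W Y) {r s : L} (hr : r ∈ Φ) (hs : s ∈ Φ) (hrs : B r s = -1)
    {v u : G} (hv : v ∈ W r) (hu : u ∈ W s) : v * u * v⁻¹ * u⁻¹ ∈ W (r + s) := by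
  have h := A.h
  have hsr : B s r = -1 := by rw [h.roots.symm]; exact hrs
  have hm := h.roots.add r hr s hs hrs
  have hrm : B r (r + s) = 1 := by rw [h.roots.add_right, h.roots.two r hr, hrs]; norm_num
  have hsm : B s (r + s) = 1 := by rw [h.roots.add_right, h.roots.two s hs, hsr]; norm_num
  have hmr : B (r + s) r = 1 := by rw [h.roots.symm]; exact hrm
  have hms : B (r + s) s = 1 := by rw [h.roots.symm]; exact hsm
  have Tm := Tri.of h hr hm hrm
  have cvW : ∀ w ∈ W (r + s), Commute v w := fun w hw => A.one r hr _ hm hrm v hv w hw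
  have cuW : ∀ w ∈ W (r + s), Commute u w := fun w hw => A.one s hs _ hm hsm u hu w hw
  have four1 : ∀ g ∈ X r, ∃ w ∈ W (r + s), g * u * g⁻¹ = u * w := fun g hg =>
    A.four r hr s hs hrs g hg u hu
  have four2 : ∀ g ∈ X s, ∃ w ∈ W (r + s), g * v * g⁻¹ = v * w := fun g hg => by
    have := A.four s hs r hr hsr g hg v hv
    rwa [add_comm s r] at this
  obtain ⟨x, hx⟩ : ∃ x, x = bt t v := ⟨_, rfl⟩
  obtain ⟨y, hy⟩ : ∃ y, y = bt t u := ⟨_, rfl⟩
  have hxX : x ∈ X r := by rw [hx]; exact bt_mem h hr hv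
  have hyX : y ∈ X s := by rw [hy]; exact bt_mem h hs hu
  obtain ⟨w1, hw1, e1⟩ := four1 x hxX
  obtain ⟨w2, hw2, e2⟩ := four2 y hyX
  obtain ⟨z1, hz1⟩ : ∃ z1, z1 = y⁻¹ * x * y * x⁻¹ := ⟨_, rfl⟩
  have hz1X : z1 ∈ X (r + s) := by
    have h1 := h.Xneg s hs r hr hsr y⁻¹ (inv_mem hyX) x hxX
    rw [inv_inv, add_comm s r] at h1
    rw [hz1]; exact h1
  have hz1W := h.XW _ hm hz1X
  obtain ⟨c, hc⟩ : ∃ c, c = v * u * v⁻¹ * u⁻¹ := ⟨_, rfl⟩
  obtain ⟨w, hw⟩ : ∃ w, w = w1 * w2⁻¹ * z1 := ⟨_, rfl⟩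
  have hwW : w ∈ W (r + s) := by rw [hw]; exact mul_mem (mul_mem hw1 (inv_mem hw2)) hz1W
  have hti := ti h
  have htct : t * c * t = c * w := by
    have s1 : t * c * t = (v * x) * (u * y) * (v * x)⁻¹ * (u * y)⁻¹ := by
      rw [hx, hy, ← tw, ← tw, hc, mul_inv_rev, mul_inv_rev, mul_inv_rev, mul_inv_rev, hti]
      calc t * (v * u * v⁻¹ * u⁻¹) * t = t * v * u * v⁻¹ * u⁻¹ * t := by group
        _ = t * v * (t * t) * u * (t * t) * v⁻¹ * (t * t) * u⁻¹ * t := by rw [h.tt]; group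
        _ = _ := by group
    have cz : Commute z1 v⁻¹ := (cvW z1 hz1W).inv_left.symm
    have czy : Commute z1 y⁻¹ := by
      have : Commute z1 y := XX h hm hs (by omega) hz1X hyX
      exact this.inv_right
    have cw : Commute (w1 * w2⁻¹) v⁻¹ :=
      (cvW _ (mul_mem hw1 (inv_mem hw2))).inv_left.symm
    have cwu : Commute (w1 * w2⁻¹ * z1) u⁻¹ := by
      rw [← hw]; exact (cuW w hwW).inv_left.symm
    rw [s1, hw, hc]
    calc (v * x) * (u * y) * (v * x)⁻¹ * (u * y)⁻¹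
        = v * (x * u * x⁻¹) * y * (y⁻¹ * x * y * x⁻¹) * v⁻¹ * y⁻¹ * u⁻¹ := by group
      _ = v * (u * w1) * y * z1 * v⁻¹ * y⁻¹ * u⁻¹ := by rw [e1, hz1]
      _ = v * (u * w1) * y * (z1 * v⁻¹) * y⁻¹ * u⁻¹ := by group
      _ = v * (u * w1) * y * v⁻¹ * (z1 * y⁻¹) * u⁻¹ := by rw [cz.eq]; group
      _ = v * (u * w1) * (y * v * y⁻¹)⁻¹ * z1 * u⁻¹ := by rw [czy.eq]; group
      _ = v * (u * w1) * (v * w2)⁻¹ * z1 * u⁻¹ := by rw [e2]
      _ = v * u * ((w1 * w2⁻¹) * v⁻¹) * z1 * u⁻¹ := by group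
      _ = v * u * v⁻¹ * ((w1 * w2⁻¹ * z1) * u⁻¹) := by rw [cw.eq]; group
      _ = v * u * v⁻¹ * u⁻¹ * (w1 * w2⁻¹ * z1) := by rw [cwu.eq]; group
  have cCW : ∀ w ∈ W (r + s), Commute c w := fun w hw => by
    rw [hc]
    exact (((cvW w hw).mul_left (cuW w hw)).mul_left (cvW w hw).inv_left).mul_left (cuW w hw).inv_left
  -- `w` commutes with `t`
  have hww : w * w = 1 := A.sq _ hm w hwW
  have hwt : t * w = w * t := by
    have h1 : c * (w * (t * w * t)) = c := by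
      calc c * (w * (t * w * t)) = (c * w) * (t * w * t) := by group
        _ = (t * c * t) * (t * w * t) := by rw [htct]
        _ = t * c * (t * t) * w * t := by group
        _ = t * (c * w) * t := by rw [h.tt]; group
        _ = t * (t * c * t) * t := by rw [htct]
        _ = (t * t) * c * (t * t) := by group
        _ = c := by rw [h.tt]; group
    have h2 : w * (t * w * t) = 1 := mul_eq_left.1 h1
    have h3 : t * w * t = w := by
      calc t * w * t = (w * w) * (t * w * t) := by rw [hww, one_mul]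
        _ = w * (w * (t * w * t)) := by group
        _ = w := by rw [h2, mul_one]
    calc t * w = (t * w * t) * t := by rw [mul_assoc, h.tt, mul_one]
      _ = w * t := by rw [h3]
  have hwX : w ∈ X (r + s) := h.cent _ hm w hwW hwt
  obtain ⟨w3, hw3, hbw3⟩ := h.surj _ hm w hwX
  have hbw3' : bt t w3 = w := hbw3
  obtain ⟨c', hc'⟩ : ∃ c', c' = c * w3⁻¹ := ⟨_, rfl⟩
  have hct : c' * t = t * c' := by
    refine t_comm_of h.tt (c' := (c * w) * (w3 * w)⁻¹) ?_ (by rw [hc']; group)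
    have h1 : t * w3⁻¹ * t = (w3 * w)⁻¹ := by
      rw [← hbw3', ← tw, mul_inv_rev, mul_inv_rev, hti]; group
    calc t * c' * t = (t * c * t) * (t * w3⁻¹ * t) := by
          rw [hc']
          calc t * (c * w3⁻¹) * t = t * c * (t * t) * w3⁻¹ * t := by rw [h.tt]; group
            _ = _ := by group
      _ = (c * w) * (w3 * w)⁻¹ := by rw [htct, h1]
  -- centraliser conditions
  have kY : ∀ k ∈ Y r s, c' * k = k * c' := by
    intro k hk
    obtain ⟨h2, h3⟩ := h.YW r hr s hs k hk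
    have h4 := h.Ym r hr s hs hrs k hk w3 hw3
    have d1 : Commute c k := by rw [hc]; exact comm_comm (h2 v hv) (h3 u hu)
    have d2 : Commute w3 k := h4
    rw [hc']
    exact (d1.mul_left d2.inv_left).eq
  have kr : ∀ k ∈ X r, c' * k = k * c' := by
    intro k hk
    obtain ⟨w4, hw4, h1⟩ := four1 k hk
    have d1 : Commute k v := (h.WX r hr r hr (rr h hr) v hv k hk).symm
    have d2 : Commute k w3 := (h.WX _ hm r hr (by omega) w3 hw3 k hk).symm
    have e : k * c * k⁻¹ = c := by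
      rw [hc]
      calc k * (v * u * v⁻¹ * u⁻¹) * k⁻¹ =
            (k * v * k⁻¹) * (k * u * k⁻¹) * (k * v * k⁻¹)⁻¹ * (k * u * k⁻¹)⁻¹ := by group
        _ = v * (u * w4) * v⁻¹ * (u * w4)⁻¹ := by rw [comm_conj d1.eq, h1]
        _ = v * u * (w4 * v⁻¹) * (u * w4)⁻¹ := by group
        _ = v * u * (v⁻¹ * w4) * (u * w4)⁻¹ := by rw [(cvW w4 hw4).inv_left.eq]
        _ = _ := by group
    have d3 : Commute k c := by
      show k * c = c * k
      calc k * c = (k * c * k⁻¹) * k := by group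
        _ = c * k := by rw [e]
    rw [hc']
    exact (d3.mul_right d2.inv_right).symm.eq
  have ks : ∀ k ∈ X s, c' * k = k * c' := by
    intro k hk
    obtain ⟨w4, hw4, h1⟩ := four2 k hk
    have d1 : Commute k u := (h.WX s hs s hs (rr h hs) u hu k hk).symm
    have d2 : Commute k w3 := (h.WX _ hm s hs (by omega) w3 hw3 k hk).symm
    have e : k * c * k⁻¹ = c := by
      rw [hc]
      calc k * (v * u * v⁻¹ * u⁻¹) * k⁻¹ =
            (k * v * k⁻¹) * (k * u * k⁻¹) * (k * v * k⁻¹)⁻¹ * (k * u * k⁻¹)⁻¹ := by group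
        _ = (v * w4) * u * (v * w4)⁻¹ * u⁻¹ := by rw [comm_conj d1.eq, h1]
        _ = v * (w4 * u) * w4⁻¹ * v⁻¹ * u⁻¹ := by group
        _ = v * (u * w4) * w4⁻¹ * v⁻¹ * u⁻¹ := by rw [(cuW w4 hw4).eq]
        _ = _ := by group
    have d3 : Commute k c := by
      show k * c = c * k
      calc k * c = (k * c * k⁻¹) * k := by group
        _ = c * k := by rw [e]
    rw [hc']
    exact (d3.mul_right d2.inv_right).symm.eq
  obtain ⟨x1, hx1, y1, hy1, m1, hm1, h1⟩ := h.Hm r hr s hs hrs c' hct kY kr ks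
  -- `x1 = y1 = 1`
  obtain ⟨τ, hτ, h2⟩ : ∃ τ : G, (τ = 1 ∨ τ = t) ∧ c' = τ * (x1 * y1 * m1) := by
    rcases h1 with h1 | h1
    · exact ⟨1, Or.inl rfl, by rw [one_mul]; exact h1⟩
    · exact ⟨t, Or.inr rfl, h1⟩
  have hτX : ∀ a ∈ Φ, ∀ k ∈ X a, Commute τ k := by
    intro a ha k hk
    rcases hτ with hτ | hτ
    · rw [hτ]; exact Commute.one_left k
    · rw [hτ]; exact h.tX a ha k hk
  have hy1' : y1 = 1 := by
    obtain ⟨g, hg, hg1⟩ := exists_ne h hr
    have d1 : Commute g τ := (hτX r hr g hg).symm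
    have d2 : Commute g x1 := XX h hr hr (rr h hr) hg hx1
    have d3 : Commute g m1 := XX h hr hm (by omega) hg hm1
    have d4 : Commute g c' := (kr g hg).symm
    have d5 : Commute g y1 := by
      have : y1 = (τ * x1)⁻¹ * c' * m1⁻¹ := by rw [h2]; group
      rw [this]
      exact ((d1.mul_right d2).inv_right.mul_right d4).mul_right d3.inv_right
    rcases h.Xnd r hr s hs hrs g hg y1 hy1 d5.eq with h5 | h5
    · exact absurd h5 hg1
    · exact h5
  have hx1' : x1 = 1 := by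
    obtain ⟨g, hg, hg1⟩ := exists_ne h hs
    have d1 : Commute g τ := (hτX s hs g hg).symm
    have d3 : Commute g m1 := XX h hs hm (by omega) hg hm1
    have d4 : Commute g c' := (ks g hg).symm
    have d5 : Commute g x1 := by
      have : x1 = τ⁻¹ * c' * m1⁻¹ := by rw [h2, hy1']; group
      rw [this]
      exact (d1.inv_right.mul_right d4).mul_right d3.inv_right
    rcases h.Xnd s hs r hr hsr g hg x1 hx1 d5.eq with h5 | h5
    · exact absurd h5 hg1
    · exact h5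
  rw [hx1', hy1', one_mul, one_mul] at h2
  have hcc : c = τ * (m1 * w3) := by
    calc c = c' * w3 := by rw [hc']; group
      _ = τ * (m1 * w3) := by rw [h2]; group
  have hw5 : m1 * w3 ∈ W (r + s) := mul_mem (h.XW _ hm hm1) hw3
  rw [← hc]
  rcases hτ with hτ | hτ
  · rw [hcc, hτ, one_mul]; exact hw5
  · exfalso
    rw [hτ] at hcc
    have hvv := A.sq r hr v hv
    have h3 := excl (hc.symm.trans hcc) h.tt (cvW _ hw5).symm.eq (by rw [hvv, mul_one, one_mul])
    have i5 : (m1 * w3)⁻¹ = m1 * w3 := inv_eq_of_mul_eq_one_left (A.sq _ hm _ hw5)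
    have cxv : Commute x v := (h.WX r hr r hr (rr h hr) v hv x hxX).symm
    have h4 : v * bt t v * v = x := by
      rw [← hx, ← cxv.eq, mul_assoc, hvv, mul_one]
    rw [h4, hvv] at h3
    have h5 : (m1 * w3)⁻¹ * (t * (m1 * w3)⁻¹ * t) ∈ X (r + s) := by
      have h6 := bt_mem h hm hw5
      unfold bt at h6
      have h7 : (m1 * w3)⁻¹ * (t * (m1 * w3)⁻¹ * t) = (m1 * w3)⁻¹ * (t * (m1 * w3) * t) := by
        nth_rw 2 [i5]
      rw [h7]; exact h6
    have h6 : x = ((m1 * w3)⁻¹ * (t * (m1 * w3)⁻¹ * t))⁻¹ := eq_inv_of_mul_eq_one_right h3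
    have h7 : x ∈ X (r + s) := by rw [h6]; exact inv_mem h5
    have h8 := disj h Tm hxX h7
    have h9 : v ∈ X r := mem_X_of_bt h hr hv (by rw [← hx]; exact h8)
    obtain ⟨w6, hw6, e6⟩ := four1 v h9
    have h10 : c ∈ W (r + s) := by
      have : c = w6 := by
        rw [hc, e6, (cuW w6 hw6).eq, mul_inv_cancel_right]
      rw [this]; exact hw6
    have h11 : t ∈ W (r + s) := by
      have : t = c * (m1 * w3)⁻¹ := by rw [hcc]; group
      rw [this]; exact mul_mem h10 (inv_mem hw5)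
    have h12 := h.cent _ hm t h11 rfl
    exact h.tK (Subgroup.mem_iSup_of_mem _ (Subgroup.mem_iSup_of_mem hm h12))

/-- OUTPUT -/
theorem dbl (A : Ax t B Φ X W Y) : Dbl t B Φ X W where
  tt := A.h.tt
  XW := A.h.XW
  sq := A.sq
  conj_t := fun r hr w hw => by
    rw [tw]; exact mul_mem hw (A.h.XW r hr (bt_mem A.h hr hw))
  cent := fun r hr w hw => ⟨A.h.cent r hr w hw, fun hx => A.h.tX r hr w hx⟩
  brk := A.h.brk
  surj := A.h.surj
  pos := fun r hr s hs hrs v hv w hw => by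
    have h1 := A.h.roots.le r hr s hs
    by_cases h0 : B r s = 0
    · exact comm_zero A hr hs h0 hv hw
    · by_cases h2 : B r s = 1
      · exact A.one r hr s hs h2 v hv w hw
      · have h3 := A.h.roots.eq r hr s hs (by omega)
        rw [← h3] at hw
        exact A.h.Wab r hr v hv w hw
  neg := fun r hr s hs hrs v hv w hw => comm_neg A hr hs hrs hv hw

end Cfsg.Agent.OddHalf.SL.Rest
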