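import Cfsg.Agent.OddHalf.SL.Rest

/-!
# Doubling the root groups for `q = 2` (helper507)

* `conj_ker` : `g u g⁻¹ ∈ u W r ⟨t⟩ E` for `g ∈ X (r - s)`, `u ∈ W s`;
* `form` : either `g u g⁻¹ = u v` and `[u, v] = 1`, or `g u g⁻¹ = u b v t` and `[u, v] = a b`
  (`a`, `b` the nontrivial elements of `X r`, `X s`);
* `kill` : a third root `m` at `60°` to `r`, `s` excludes the second case;
* `ax` : `Rest.Ax`, `dbl_of_two` : `Dbl`.
-/

set_option autoImplicit false

namespace Cfsg.Agent.OddHalf.SL.TwoDbl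

open Cfsg.Agent.OddHalf.SL.Defs Cfsg.Agent.OddHalf.SL.General Cfsg.Agent.OddHalf.SL.Core
open Cfsg.Agent.OddHalf.SL.One Cfsg.Agent.OddHalf.SL.Rest

variable {L : Type*} [AddCommGroup L] {G : Type*} [Group G]
variable {t : G} {B : L → L → ℤ} {Φ : Set L} {X W : L → Subgroup G} {Y : L → L → Set G}

/-- `g u g⁻¹ ∈ u W r ⟨t⟩ E` for `g ∈ X (r - s)`, `u ∈ W s` -/
theorem conj_ker (h : PreY t B Φ X W Y) {r s : L} (T : Tri B Φ r s) {g u : G}
    (hg : g ∈ X (r - s)) (hu : u ∈ W s) :
    ∃ w ∈ W r, bt t w = g * bt t u * g⁻¹ * (bt t u)⁻¹ ∧ ∃ e ∈ Es h T,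
      (g * u * g⁻¹ = u * w * e ∨ g * u * g⁻¹ = u * w * (t * e)) := by
  obtain ⟨y0, hy0⟩ : ∃ y0, y0 = bt t u := ⟨_, rfl⟩
  have hy0X : y0 ∈ X s := by rw [hy0]; exact bt_mem h T.hs hu
  have hx' := conj_X h T hg hy0X
  obtain ⟨x', hx'e⟩ : ∃ x', x' = g * y0 * g⁻¹ * y0⁻¹ := ⟨_, rfl⟩
  rw [← hx'e] at hx'
  obtain ⟨w', hw', hbw⟩ := h.surj r T.hr x' hx'
  have hbw' : bt t w' = x' := hbw
  obtain ⟨k, hk⟩ : ∃ k, k = w'⁻¹ * u⁻¹ * (g * u * g⁻¹) := ⟨_, rfl⟩
  have hgt : g * t = t * g := (h.tX _ T.hd g hg).symm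
  have hkF : k ∈ Fs X W r s := by
    rw [hk]
    exact mul_mem (mul_mem (inv_mem (Wr_le X W r s hw')) (inv_mem (Ws_le X W r s hu)))
      (conj_mem_Fs hg hu)
  have hti := ti h
  have ti' : ∀ x : G, t * x⁻¹ * t = (t * x * t)⁻¹ := by
    intro x; rw [mul_inv_rev, mul_inv_rev, hti]; group
  have hxE : x' ∈ Es h T := Es_left h T hx'
  have hyE : y0 ∈ Es h T := Es_right h T hy0X
  have hkt : k * t = t * k := by
    refine t_comm_of h.tt (c' := (w' * x')⁻¹ * (u * y0)⁻¹ * ((g * u * g⁻¹) * (x' * y0))) ?_ ?_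
    · have e1 : t * (g * u * g⁻¹) * t = (g * u * g⁻¹) * (x' * y0) := by
        rw [tw, bt_conj hgt, ← hy0, hx'e]; group
      calc t * k * t = (t * w'⁻¹ * t) * (t * u⁻¹ * t) * (t * (g * u * g⁻¹) * t) := by
            rw [hk]
            calc t * (w'⁻¹ * u⁻¹ * (g * u * g⁻¹)) * t = t * w'⁻¹ * u⁻¹ * (g * u * g⁻¹) * t := by group
              _ = t * w'⁻¹ * (t * t) * u⁻¹ * (t * t) * (g * u * g⁻¹) * t := by rw [h.tt]; group
              _ = _ := by group
        _ = (w' * x')⁻¹ * (u * y0)⁻¹ * ((g * u * g⁻¹) * (x' * y0)) := by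
            rw [ti', ti', tw t w', tw t u, hbw', ← hy0, e1]
    · -- `x'`, `y0` are central in `F`
      have hw'F := Wr_le X W r s hw'
      have huF := Ws_le X W r s hu
      have hgF := conj_mem_Fs hg hu
      have c1 := fs_comm_Es h T (mul_mem hxE hyE) (mul_mem (mul_mem (inv_mem hw'F) (inv_mem huF)) hgF)
      have c2 := fs_comm_Es h T hxE (inv_mem hw'F)
      have c3 := fs_comm_Es h T hyE (inv_mem huF)
      have c4 : x' * y0 = y0 * x' := XX h T.hr T.hs (by rw [T.rs]; norm_num) hx' hy0X
      have c5 : Commute x' w'⁻¹ := c2.symm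
      have c6 : Commute y0 u⁻¹ := c3.symm
      have c7 : Commute y0 w'⁻¹ := (fs_comm_Es h T hyE (inv_mem hw'F)).symm
      rw [mul_inv_rev, mul_inv_rev, hk]
      calc x'⁻¹ * w'⁻¹ * (y0⁻¹ * u⁻¹) * (g * u * g⁻¹ * (x' * y0))
          = x'⁻¹ * (w'⁻¹ * y0⁻¹) * u⁻¹ * (g * u * g⁻¹) * (x' * y0) := by group
        _ = x'⁻¹ * (y0⁻¹ * w'⁻¹) * u⁻¹ * (g * u * g⁻¹) * (x' * y0) := by rw [c7.inv_left.eq]
        _ = x'⁻¹ * y0⁻¹ * ((w'⁻¹ * u⁻¹ * (g * u * g⁻¹)) * (x' * y0)) := by group
        _ = x'⁻¹ * y0⁻¹ * ((x' * y0) * (w'⁻¹ * u⁻¹ * (g * u * g⁻¹))) := by rw [c1]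
        _ = (y0 * x')⁻¹ * (x' * y0) * (w'⁻¹ * u⁻¹ * (g * u * g⁻¹)) := by group
        _ = w'⁻¹ * u⁻¹ * (g * u * g⁻¹) := by rw [c4, inv_mul_cancel, one_mul]
  have hguk : g * u * g⁻¹ = u * w' * k := by rw [hk]; group
  have hbt : bt t w' = g * bt t u * g⁻¹ * (bt t u)⁻¹ := by rw [hbw', hx'e, hy0]
  rcases ker_form h T hkF hkt with h1 | ⟨e, he, h1⟩
  · exact ⟨w', hw', hbt, k, h1, Or.inl hguk⟩
  · exact ⟨w', hw', hbt, e, he, Or.inr (by rw [hguk, h1])⟩

/-- the elements of `E` have order at most `2` -/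
theorem Es_sq (h : PreY t B Φ X W Y) {r s : L} (T : Tri B Φ r s) {e : G} (he : e ∈ Es h T) :
    e * e = 1 := by
  obtain ⟨x, hx, y, hy, rfl⟩ := he
  have h1 : x * y = y * x := XX h T.hr T.hs (by rw [T.rs]; norm_num) hx hy
  calc x * y * (x * y) = x * y * (y * x) := by rw [h1]
    _ = x * (y * y) * x := by group
    _ = 1 := by rw [h.Xsq s T.hs y hy, mul_one, h.Xsq r T.hr x hx]

/-- `W r = ⟨X r, v⟩` -/
theorem W_cases (h : PreY t B Φ X W Y) (h2 : Two B Φ X W) {r : L} (hr : r ∈ Φ) {v w : G}
    (hv : v ∈ W r) (hv1 : bt t v ≠ 1) (hw : w ∈ W r) : w ∈ X r ∨ ∃ x ∈ X r, w = v * x := by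
  by_cases hw1 : bt t w = 1
  · exact Or.inl (mem_X_of_bt h hr hw hw1)
  · right
    refine ⟨v⁻¹ * w, ?_, by group⟩
    apply mem_X_of_bt h hr (mul_mem (inv_mem hv) hw)
    have e := h2.card r hr _ (bt_mem h hr hv) _ (bt_mem h hr hw) hv1 hw1
    rw [bt_hom h hr (inv_mem hv) hw, ← e]
    have h4 := bt_hom h hr (inv_mem hv) hv
    rw [inv_mul_cancel, bt_of_comm h.tt (by rw [mul_one, one_mul])] at h4
    exact h4.symm

/-- `g b g⁻¹ = b a` -/
theorem conj_b (h : PreY t B Φ X W Y) (h2 : Two B Φ X W) {r s : L} (T : Tri B Φ r s) {g a b : G}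
    (hg : g ∈ X (r - s)) (hg1 : g ≠ 1) (ha : a ∈ X r) (ha1 : a ≠ 1) (hb : b ∈ X s) (hb1 : b ≠ 1) :
    g * b * g⁻¹ * b⁻¹ = a := by
  refine h2.card r T.hr _ (conj_X h T hg hb) a ha ?_ ha1
  intro he
  have h3 : g * b = b * g := by
    calc g * b = (g * b * g⁻¹ * b⁻¹) * (b * g) := by group
      _ = b * g := by rw [he, one_mul]
  rcases h.Xnd _ T.hd _ T.hs T.ds g hg b hb h3 with h4 | h4
  · exact hg1 h4
  · exact hb1 h4

/-- The two forms of `g u g⁻¹`. -/
theorem form (h : PreY t B Φ X W Y) (h2 : Two B Φ X W) {r s : L} (T : Tri B Φ r s) {g u : G}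
    (hg : g ∈ X (r - s)) (hg1 : g ≠ 1) (hu : u ∈ W s) (hu1 : bt t u ≠ 1) :
    (∃ v ∈ W r, bt t v ≠ 1 ∧ g * u * g⁻¹ = u * v ∧ u * v = v * u) ∨
    (∃ v ∈ W r, bt t v ≠ 1 ∧ g * u * g⁻¹ = u * bt t u * v * t ∧
      u * v = (bt t v * bt t u) * (v * u)) := by
  obtain ⟨w, hw, hbw, e, he, hform⟩ := conj_ker h T hg hu
  obtain ⟨b, hb⟩ : ∃ b, b = bt t u := ⟨_, rfl⟩
  obtain ⟨a, ha⟩ : ∃ a, a = bt t w := ⟨_, rfl⟩
  have hbX : b ∈ X s := by rw [hb]; exact bt_mem h T.hs hu
  have haX : a ∈ X r := by rw [ha]; exact bt_mem h T.hr hw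
  rw [← hb] at hu1 hbw
  rw [← ha] at hbw
  have ha1 : a ≠ 1 := by
    intro he1
    rw [he1] at hbw
    obtain ⟨a', ha', ha1'⟩ := exists_ne h T.hr
    exact ha1' ((conj_b h h2 T hg hg1 ha' ha1' hbX hu1).symm.trans hbw.symm)
  have hgt : Commute g t := (h.tX _ T.hd g hg).symm
  have hgw : Commute g w := (h.WX r T.hr _ T.hd (by rw [T.dr]; norm_num) w hw g hg).symm
  have hga : Commute g a := XX h T.hd T.hr (by rw [T.dr]; norm_num) hg haX
  have huu : u * u = 1 := h2.sq s T.hs u hu
  have hww : w * w = 1 := h2.sq r T.hr w hw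
  have hgg : g * g = 1 := h.Xsq _ T.hd g hg
  have haa : a * a = 1 := h.Xsq _ T.hr a haX
  have hbb : b * b = 1 := h.Xsq _ T.hs b hbX
  have htw : t * w * t = w * a := by rw [ha]; exact tw t w
  have htu : t * u * t = u * b := by rw [hb]; exact tw t u
  have hue : Commute u e := Es_comm_s h T he hu
  have hwe : Commute w e := Es_comm_r h T he hw
  have hte : Commute t e := Es_comm_t h T he
  have hee : e * e = 1 := Es_sq h T he
  have hab : Commute a b := XX h T.hr T.hs (by rw [T.rs]; norm_num) haX hbX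
  have hwa : Commute w a := h.WX r T.hr r T.hr (rr h T.hr) w hw a haX
  have hwb : Commute w b := h.WX r T.hr s T.hs (by rw [T.sr]; norm_num) w hw b hbX
  have hua : Commute u a := h.WX s T.hs r T.hr (by rw [T.rs]; norm_num) u hu a haX
  have hub : Commute u b := h.WX s T.hs s T.hs (rr h T.hs) u hu b hbX
  have hta : Commute t a := h.tX r T.hr a haX
  have htb : Commute t b := h.tX s T.hs b hbX
  have hgb : g * b * g⁻¹ = b * a := by
    calc g * b * g⁻¹ = (g * b * g⁻¹ * b⁻¹) * b := by group
      _ = a * b := by rw [← hbw]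
      _ = b * a := hab.eq
  obtain ⟨x, hx, y, hy, hexy⟩ := he
  have hxy : Commute x y := XX h T.hr T.hs (by rw [T.rs]; norm_num) hx hy
  have hxx : x * x = 1 := h.Xsq r T.hr x hx
  have hyy : y * y = 1 := h.Xsq s T.hs y hy
  have hgx : Commute g x := XX h T.hd T.hr (by rw [T.dr]; norm_num) hg hx
  have hwx : Commute w x := h.WX r T.hr r T.hr (rr h T.hr) w hw x hx
  have hux : Commute u x := h.WX s T.hs r T.hr (by rw [T.rs]; norm_num) u hu x hx
  have htx : Commute t x := h.tX r T.hr x hx
  -- `(g u g⁻¹)² = 1`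
  have hsq : (g * u * g⁻¹) * (g * u * g⁻¹) = 1 := by
    calc (g * u * g⁻¹) * (g * u * g⁻¹) = g * (u * u) * g⁻¹ := by group
      _ = 1 := by rw [huu]; group
  -- `g (g u g⁻¹) g⁻¹ = u`
  have hback : g * (g * u * g⁻¹) * g⁻¹ = u := by
    calc g * (g * u * g⁻¹) * g⁻¹ = (g * g) * u * (g * g)⁻¹ := by group
      _ = u := by rw [hgg]; group
  have hv : ∀ x ∈ X r, w * x ∈ W r ∧ bt t (w * x) = a := by
    intro x hx
    refine ⟨mul_mem hw (h.XW r T.hr hx), ?_⟩
    rw [bt_hom h T.hr hw (h.XW r T.hr hx), bt_of_comm h.tt (h.tX r T.hr x hx), mul_one, ← ha]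
  obtain ⟨hv1, hv2⟩ := hv x hx
  rcases hform with hf | hf
  · left
    refine ⟨w * x, hv1, by rw [hv2]; exact ha1, ?_, ?_⟩
    · -- `y = 1`
      rw [hf] at hback
      have h3 : g * (u * w * e) * g⁻¹ = (u * w * e) * w * (g * e * g⁻¹) := by
        calc g * (u * w * e) * g⁻¹ = (g * u * g⁻¹) * (g * w * g⁻¹) * (g * e * g⁻¹) := by group
          _ = _ := by rw [hf, comm_conj hgw.eq]
      have h4 : g * e * g⁻¹ = x * (g * y * g⁻¹) := by
        rw [hexy]
        calc g * (x * y) * g⁻¹ = (g * x * g⁻¹) * (g * y * g⁻¹) := by group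
          _ = _ := by rw [comm_conj hgx.eq]
      have h5 : u * (e * (g * e * g⁻¹)) = u := by
        calc u * (e * (g * e * g⁻¹)) = u * ((w * w) * e * (g * e * g⁻¹)) := by rw [hww, one_mul]
          _ = u * (w * (w * e) * (g * e * g⁻¹)) := by group
          _ = u * (w * (e * w) * (g * e * g⁻¹)) := by rw [hwe.eq]
          _ = (u * w * e) * w * (g * e * g⁻¹) := by group
          _ = u := by rw [← h3]; exact hback
      have h6 : e * (g * e * g⁻¹) = 1 := mul_eq_left.1 h5
      have h7 : g * y * g⁻¹ = y := by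
        have h8 : e * (g * e * g⁻¹) = (x * x) * (y * (g * y * g⁻¹)) := by
          rw [h4, hexy]
          calc x * y * (x * (g * y * g⁻¹)) = x * (y * x) * (g * y * g⁻¹) := by group
            _ = x * (x * y) * (g * y * g⁻¹) := by rw [hxy.eq]
            _ = _ := by group
        rw [h6, hxx, one_mul] at h8
        have h9 : g * y * g⁻¹ = y⁻¹ := (inv_eq_of_mul_eq_one_right h8.symm).symm
        rw [h9]; exact Xi h T.hs hy
      have h8 : g * y = y * g := by
        calc g * y = (g * y * g⁻¹) * g := by group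
          _ = y * g := by rw [h7]
      have h9 : y = 1 := by
        rcases h.Xnd _ T.hd _ T.hs T.ds g hg y hy h8 with h9 | h9
        · exact absurd h9 hg1
        · exact h9
      rw [hf, hexy, h9, mul_one]; group
    · have h3 : u * w * (u * w) = 1 := by
        rw [hf] at hsq
        calc u * w * (u * w) = u * w * (u * w) * (e * e) := by rw [hee, mul_one]
          _ = u * w * ((u * w) * e) * e := by group
          _ = u * w * (e * (u * w)) * e := by rw [(hue.mul_left hwe).eq]
          _ = (u * w * e) * (u * w * e) := by group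
          _ = 1 := hsq
      have h4 : u * w = w * u := by
        have h5 : u * w = (u * w)⁻¹ := eq_inv_of_mul_eq_one_right h3
        rw [mul_inv_rev, inv_eq_of_mul_eq_one_right huu, inv_eq_of_mul_eq_one_right hww] at h5
        exact h5
      have h5 : Commute u w := h4
      exact (h5.mul_right hux).eq
  · right
    -- `e = x b`
    have htc : ∀ z : G, t * (t * z) = z := fun z => by rw [← mul_assoc, h.tt, one_mul]
    have h3 : g * (u * w * (t * e)) * g⁻¹ = u * w * (t * e) * w * (t * (g * e * g⁻¹)) := by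
      calc g * (u * w * (t * e)) * g⁻¹ =
          (g * u * g⁻¹) * (g * w * g⁻¹) * (g * t * g⁻¹) * (g * e * g⁻¹) := by group
        _ = u * w * (t * e) * w * (t * (g * e * g⁻¹)) := by
            rw [hf, comm_conj hgw.eq, comm_conj hgt.eq]; group
    have h4 : g * e * g⁻¹ = x * (g * y * g⁻¹) := by
      rw [hexy]
      calc g * (x * y) * g⁻¹ = (g * x * g⁻¹) * (g * y * g⁻¹) := by group
        _ = _ := by rw [comm_conj hgx.eq]
    have h5 : a * (e * (g * e * g⁻¹)) = 1 := by
      have h6 : u * (a * (e * (g * e * g⁻¹))) = u := by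
        calc u * (a * (e * (g * e * g⁻¹))) = u * ((w * w) * a * e * (g * e * g⁻¹)) := by
              rw [hww]; group
          _ = u * w * (w * a) * (e * (g * e * g⁻¹)) := by group
          _ = u * w * (t * w * t) * (e * (g * e * g⁻¹)) := by rw [htw]
          _ = u * w * t * w * (t * e) * (g * e * g⁻¹) := by group
          _ = u * w * t * (w * e) * t * (g * e * g⁻¹) := by rw [hte.eq]; group
          _ = u * w * t * (e * w) * t * (g * e * g⁻¹) := by rw [hwe.eq]
          _ = u * w * (t * e) * w * (t * (g * e * g⁻¹)) := by group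
          _ = u := by rw [← h3, ← hf]; exact hback
      exact mul_eq_left.1 h6
    have h6 : e * (g * e * g⁻¹) = y * (g * y * g⁻¹) := by
      rw [h4, hexy]
      calc x * y * (x * (g * y * g⁻¹)) = x * (y * x) * (g * y * g⁻¹) := by group
        _ = x * (x * y) * (g * y * g⁻¹) := by rw [hxy.eq]
        _ = (x * x) * (y * (g * y * g⁻¹)) := by group
        _ = _ := by rw [hxx, one_mul]
    have hy1 : y ≠ 1 := by
      intro hy1
      rw [h6, hy1] at h5
      apply ha1
      have : a * (1 * (g * 1 * g⁻¹)) = a := by group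
      rw [← this]; exact h5
    have hyb : y = b := h2.card s T.hs y hy b hbX hy1 hu1
    refine ⟨w * x, hv1, by rw [hv2]; exact ha1, ?_, ?_⟩
    · rw [← hb, hf, hexy, hyb]
      calc u * w * (t * (x * b)) = u * w * ((t * x) * b) := by group
        _ = u * w * ((x * t) * b) := by rw [htx.eq]
        _ = u * w * x * (t * b) := by group
        _ = u * (w * x * b) * t := by rw [htb.eq]; group
        _ = u * (b * (w * x)) * t := by
            have hxb : Commute x b := by rw [← hyb]; exact hxy
            rw [(hwb.mul_left hxb).eq]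
        _ = u * b * (w * x) * t := by group
    · rw [hv2, ← hb]
      have h7 : u * w * (u * w) * (a * b) = 1 := by
        have h8 : (u * w * (t * e)) * (u * w * (t * e)) = u * w * (u * w) * (a * b) := by
          calc (u * w * (t * e)) * (u * w * (t * e)) = u * w * t * (e * (u * w)) * (t * e) := by group
            _ = u * w * t * ((u * w) * e) * (t * e) := by rw [(hue.mul_left hwe).eq]
            _ = u * w * t * u * w * (e * t) * e := by group
            _ = u * w * t * u * w * (t * e) * e := by rw [hte.eq]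
            _ = u * w * t * u * w * t * (e * e) := by group
            _ = u * w * t * u * (1 * w) * t := by rw [hee, one_mul, mul_one]
            _ = u * w * (t * u * t) * (t * w * t) := by rw [← h.tt]; group
            _ = u * w * (u * b) * (w * a) := by rw [htu, htw]
            _ = u * w * u * (b * w) * a := by group
            _ = u * w * u * (w * b) * a := by rw [hwb.eq]
            _ = u * w * (u * w) * (b * a) := by group
            _ = _ := by rw [hab.eq]
        rw [← h8, ← hf]; exact hsq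
      have hab2 : (a * b) * (a * b) = 1 := by
        calc (a * b) * (a * b) = (a * b) * (b * a) := by rw [hab.eq]
          _ = a * (b * b) * a := by group
          _ = 1 := by rw [hbb, mul_one, haa]
      have h8 : u * w = (a * b) * (w * u) := by
        have h9 : u * w * (u * w) = a * b := by
          calc u * w * (u * w) = u * w * (u * w) * (a * b) * (a * b) := by
                rw [mul_assoc _ (a * b), hab2, mul_one]
            _ = a * b := by rw [h7, one_mul]
        calc u * w = (u * w * (u * w)) * (w * u) := by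
              calc u * w = u * w * (u * (w * w) * u) := by rw [hww, mul_one, huu, mul_one]
                _ = _ := by group
          _ = (a * b) * (w * u) := by rw [h9]
      calc u * (w * x) = (u * w) * x := by group
        _ = a * b * (w * (u * x)) := by rw [h8]; group
        _ = a * b * (w * (x * u)) := by rw [hux.eq]
        _ = _ := by group

/-- A third root at `60°` excludes the second form. -/
theorem kill (h : PreY t B Φ X W Y) (h2 : Two B Φ X W) {r s m : L} (T : Tri B Φ r s)
    (T' : Tri B Φ m s) (T'' : Tri B Φ m r) {g u v : G}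
    (hg : g ∈ X (r - s)) (hu : u ∈ W s) (hu1 : bt t u ≠ 1) (hv : v ∈ W r)
    (hv1 : bt t v ≠ 1) (hguv : g * u * g⁻¹ = u * bt t u * v * t) (hg1 : g ≠ 1) : False := by
  obtain ⟨k, hk, hk1⟩ := exists_ne h T'.hd
  obtain ⟨b, hb⟩ : ∃ b, b = bt t u := ⟨_, rfl⟩
  obtain ⟨a, ha⟩ : ∃ a, a = bt t v := ⟨_, rfl⟩
  have hbX : b ∈ X s := by rw [hb]; exact bt_mem h T.hs hu
  have haX : a ∈ X r := by rw [ha]; exact bt_mem h T.hr hv
  have hmr : 0 ≤ B m r := by rw [T''.rs]; norm_num
  have hrm : 0 ≤ B r m := by rw [T''.sr]; norm_num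
  have hms : 0 ≤ B m s := by rw [T'.rs]; norm_num
  have hsm : 0 ≤ B s m := by rw [T'.sr]; norm_num
  have hrs : 0 ≤ B r s := by rw [T.rs]; norm_num
  have hsr : 0 ≤ B s r := by rw [T.sr]; norm_num
  have hdm : 0 ≤ B (r - s) m := by rw [h.roots.sub_left, T''.sr, T'.sr]; norm_num
  have hem : 0 ≤ B (m - s) r := by rw [h.roots.sub_left, T''.rs, T.sr]; norm_num
  have hde : 0 ≤ B (r - s) (m - s) := by
    rw [h.roots.sub_right, h.roots.sub_left, T''.sr, T'.sr, T.ds]; norm_num
  -- the elements of `W m`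
  have main : ∀ w ∈ W m, bt t w ≠ 1 → ∃ c ∈ X m, c ≠ 1 ∧ bt t w = c ∧
      Commute g w ∧ Commute g c ∧ Commute w a ∧ Commute w b ∧ Commute u c ∧ Commute v c ∧
      Commute w c ∧ Commute t c ∧ Commute a c ∧ Commute b c := by
    intro w hw hw1
    have hc : bt t w ∈ X m := bt_mem h T'.hr hw
    refine ⟨bt t w, hc, hw1, rfl, (h.WX m T'.hr _ T.hd hdm w hw g hg).symm,
      XX h T.hd T'.hr hdm hg hc, h.WX m T'.hr r T.hr hrm w hw a haX,
      h.WX m T'.hr s T.hs hsm w hw b hbX, h.WX s T.hs m T'.hr hms u hu _ hc,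
      h.WX r T.hr m T'.hr hmr v hv _ hc, h.WX m T'.hr m T'.hr (rr h T'.hr) w hw _ hc,
      h.tX m T'.hr _ hc, XX h T.hr T'.hr hrm haX hc, XX h T.hs T'.hr hsm hbX hc⟩
  have hgt : Commute g t := (h.tX _ T.hd g hg).symm
  have hkt : Commute k t := (h.tX _ T'.hd k hk).symm
  have hgk : Commute g k := XX h T.hd T'.hd hde hg hk
  have hkv : Commute k v := (h.WX r T.hr _ T'.hd hem v hv k hk).symm
  have hka : Commute k a := XX h T'.hd T.hr hem hk haX
  have hga : Commute g a := XX h T.hd T.hr (by rw [T.dr]; norm_num) hg haX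
  have haa : a * a = 1 := h.Xsq _ T.hr a haX
  have hbb : b * b = 1 := h.Xsq _ T.hs b hbX
  have htv : t * v * t = v * a := by rw [ha]; exact tw t v
  have htu : t * u * t = u * b := by rw [hb]; exact tw t u
  have hab : Commute a b := XX h T.hr T.hs hrs haX hbX
  have hva : Commute v a := h.WX r T.hr r T.hr (rr h T.hr) v hv a haX
  have hvb : Commute v b := h.WX r T.hr s T.hs hsr v hv b hbX
  have hua : Commute u a := h.WX s T.hs r T.hr hrs u hu a haX
  have hub : Commute u b := h.WX s T.hs s T.hs (rr h T.hs) u hu b hbX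
  have hta : Commute t a := h.tX r T.hr a haX
  have htb : Commute t b := h.tX s T.hs b hbX
  have hgb : g * b * g⁻¹ = b * a := by
    calc g * b * g⁻¹ = (g * b * g⁻¹ * b⁻¹) * b := by group
      _ = a * b := by rw [conj_b h h2 T hg hg1 haX (by rw [ha]; exact hv1) hbX (by rw [hb]; exact hu1)]
      _ = b * a := hab.eq
  rw [← hb] at hguv
  have hgkc : g * (k * u * k⁻¹) * g⁻¹ = k * (g * u * g⁻¹) * k⁻¹ := by
    calc g * (k * u * k⁻¹) * g⁻¹ = (g * k) * u * (g * k)⁻¹ := by group
      _ = (k * g) * u * (k * g)⁻¹ := by rw [hgk.eq]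
      _ = _ := by group
  rcases form h h2 T' hk hk1 hu hu1 with ⟨w, hw, hw1, hkuw, huw⟩ | ⟨w, hw, hw1, hkuw, huw⟩
  · obtain ⟨c, hc, hc1, hcw, gw, gc, wa, wb, uc, vc, wc, tc, ac, bc⟩ := main w hw hw1
    have hcc : c * c = 1 := h.Xsq _ T'.hr c hc
    have htw : t * w * t = w * c := by rw [← hcw]; exact tw t w
    have htw' : t * w = c * (w * t) := by
      calc t * w = t * w * (t * t) := by rw [h.tt, mul_one]
        _ = (t * w * t) * t := by group
        _ = (w * c) * t := by rw [htw]
        _ = (c * w) * t := by rw [wc.eq]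
        _ = _ := by group
    have hkb : k * b * k⁻¹ = b * c := by
      calc k * b * k⁻¹ = (k * b * k⁻¹ * b⁻¹) * b := by group
        _ = c * b := by rw [conj_b h h2 T' hk hk1 hc hc1 hbX (by rw [hb]; exact hu1)]
        _ = b * c := bc.symm.eq
    -- `v w = w v`
    have e1 : g * (u * w) * g⁻¹ = u * b * v * t * w := by
      calc g * (u * w) * g⁻¹ = (g * u * g⁻¹) * (g * w * g⁻¹) := by group
        _ = _ := by rw [hguv, comm_conj gw.eq]
    have e2 : k * (u * b * v * t) * k⁻¹ = u * w * (b * c) * v * t := by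
      calc k * (u * b * v * t) * k⁻¹ =
          (k * u * k⁻¹) * (k * b * k⁻¹) * (k * v * k⁻¹) * (k * t * k⁻¹) := by group
        _ = _ := by rw [hkuw, hkb, comm_conj hkv.eq, comm_conj hkt.eq]
    rw [hkuw, e1, hguv, e2] at hgkc
    have vw : v * w = w * v := by
      have e3 : (u * b * c) * (v * w) * t = (u * b * c) * (w * v) * t := by
        calc (u * b * c) * (v * w) * t = u * b * (c * v) * (w * t) := by group
          _ = u * b * (v * c) * (w * t) := by rw [vc.eq]
          _ = u * b * v * (c * (w * t)) := by group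
          _ = u * b * v * t * w := by rw [← htw']; group
          _ = u * w * (b * c) * v * t := hgkc
          _ = u * (w * b) * c * v * t := by group
          _ = u * (b * w) * c * v * t := by rw [wb.eq]
          _ = u * b * (w * c) * v * t := by group
          _ = u * b * (c * w) * v * t := by rw [wc.eq]
          _ = _ := by group
      exact mul_left_cancel (mul_right_cancel e3)
    -- conjugate `u w = w u` by `g`
    have e4 : (g * u * g⁻¹) * w = w * (g * u * g⁻¹) := by
      calc (g * u * g⁻¹) * w = (g * u * g⁻¹) * (g * w * g⁻¹) := by rw [comm_conj gw.eq]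
        _ = g * (u * w) * g⁻¹ := by group
        _ = g * (w * u) * g⁻¹ := by rw [huw]
        _ = (g * w * g⁻¹) * (g * u * g⁻¹) := by group
        _ = w * (g * u * g⁻¹) := by rw [comm_conj gw.eq]
    rw [hguv] at e4
    apply hc1
    have e5 : (u * b * v * t * w) = (u * b * v * t * w) * c := by
      calc (u * b * v * t * w) = w * (u * b * v * t) := e4
        _ = (w * u) * b * v * t := by group
        _ = (u * w) * b * v * t := by rw [huw]
        _ = u * (w * b) * v * t := by group
        _ = u * (b * w) * v * t := by rw [wb.eq]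
        _ = u * b * (w * v) * t := by group
        _ = u * b * (v * w) * t := by rw [vw]
        _ = u * b * v * (c * (c * (w * t))) := by rw [← mul_assoc c c, hcc, one_mul]; group
        _ = u * b * v * (c * (t * w)) := by rw [htw']
        _ = u * b * v * ((c * t) * w) := by group
        _ = u * b * v * ((t * c) * w) := by rw [tc.eq]
        _ = u * b * v * (t * (c * w)) := by group
        _ = u * b * v * (t * (w * c)) := by rw [wc.eq]
        _ = _ := by group
    exact (mul_eq_left.1 e5.symm)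
  · obtain ⟨c, hc, hc1, hcw, gw, gc, wa, wb, uc, vc, wc, tc, ac, bc⟩ := main w hw hw1
    have hcc : c * c = 1 := h.Xsq _ T'.hr c hc
    have htw : t * w * t = w * c := by rw [← hcw]; exact tw t w
    have htw' : t * w = c * (w * t) := by
      calc t * w = t * w * (t * t) := by rw [h.tt, mul_one]
        _ = (t * w * t) * t := by group
        _ = (w * c) * t := by rw [htw]
        _ = (c * w) * t := by rw [wc.eq]
        _ = _ := by group
    have htv' : t * v = a * (v * t) := by
      calc t * v = t * v * (t * t) := by rw [h.tt, mul_one]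
        _ = (t * v * t) * t := by group
        _ = (v * a) * t := by rw [htv]
        _ = (a * v) * t := by rw [hva.eq]
        _ = _ := by group
    have hkb : k * b * k⁻¹ = b * c := by
      calc k * b * k⁻¹ = (k * b * k⁻¹ * b⁻¹) * b := by group
        _ = c * b := by rw [conj_b h h2 T' hk hk1 hc hc1 hbX (by rw [hb]; exact hu1)]
        _ = b * c := bc.symm.eq
    rw [← hb] at hkuw
    rw [← hb, hcw] at huw
    -- `g (k u k⁻¹) g⁻¹ = u v w · stuff`
    have e1 : g * (u * b * w * t) * g⁻¹ = (u * b * v * t) * (b * a) * w * t := by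
      calc g * (u * b * w * t) * g⁻¹ =
          (g * u * g⁻¹) * (g * b * g⁻¹) * (g * w * g⁻¹) * (g * t * g⁻¹) := by group
        _ = _ := by rw [hguv, hgb, comm_conj gw.eq, comm_conj hgt.eq]
    have e2 : k * (u * b * v * t) * k⁻¹ = (u * b * w * t) * (b * c) * v * t := by
      calc k * (u * b * v * t) * k⁻¹ =
          (k * u * k⁻¹) * (k * b * k⁻¹) * (k * v * k⁻¹) * (k * t * k⁻¹) := by group
        _ = _ := by rw [hkuw, hkb, comm_conj hkv.eq, comm_conj hkt.eq]
    rw [hkuw, e1, hguv, e2] at hgkc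
    have htt : ∀ z : G, t * (t * z) = z := fun z => by rw [← mul_assoc, h.tt, one_mul]
    have e1' : (u * b * v * t) * (b * a) * w * t = u * (a * c) * (v * w) := by
      have tba : Commute t (b * a) := htb.mul_right hta
      calc (u * b * v * t) * (b * a) * w * t = u * b * v * (t * (b * a)) * w * t := by group
        _ = u * b * v * ((b * a) * t) * w * t := by rw [tba.eq]
        _ = u * b * (v * b) * a * (t * w) * t := by group
        _ = u * b * (b * v) * a * (c * (w * t)) * t := by rw [hvb.eq, htw']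
        _ = u * (b * b) * v * a * c * w * (t * t) := by group
        _ = u * v * a * c * w := by rw [hbb, h.tt, mul_one, mul_one]
        _ = u * (v * (a * c)) * w := by group
        _ = u * ((a * c) * v) * w := by rw [(hva.mul_right vc).eq]
        _ = _ := by group
    have e2' : (u * b * w * t) * (b * c) * v * t = u * (a * c) * (w * v) := by
      have tbc : Commute t (b * c) := htb.mul_right tc
      calc (u * b * w * t) * (b * c) * v * t = u * b * w * (t * (b * c)) * v * t := by group
        _ = u * b * w * ((b * c) * t) * v * t := by rw [tbc.eq]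
        _ = u * b * (w * b) * c * (t * v) * t := by group
        _ = u * b * (b * w) * c * (a * (v * t)) * t := by rw [wb.eq, htv']
        _ = u * (b * b) * w * c * a * v * (t * t) := by group
        _ = u * w * c * a * v := by rw [hbb, h.tt, mul_one, mul_one]
        _ = u * w * (c * a) * v := by group
        _ = u * w * (a * c) * v := by rw [ac.eq]
        _ = u * (w * (a * c)) * v := by group
        _ = u * ((a * c) * w) * v := by rw [(wa.mul_right wc).eq]
        _ = _ := by group
    have vw : v * w = w * v := by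
      rw [e1', e2'] at hgkc
      exact mul_left_cancel hgkc
    -- conjugate `u w = c b w u` by `g`
    have e4 : (u * b * v * t) * w = (c * (b * a)) * (w * (u * b * v * t)) := by
      calc (u * b * v * t) * w = (g * u * g⁻¹) * (g * w * g⁻¹) := by rw [hguv, comm_conj gw.eq]
        _ = g * (u * w) * g⁻¹ := by group
        _ = g * ((c * b) * (w * u)) * g⁻¹ := by rw [huw]
        _ = (g * c * g⁻¹) * (g * b * g⁻¹) * ((g * w * g⁻¹) * (g * u * g⁻¹)) := by group
        _ = c * (b * a) * (w * (u * b * v * t)) := by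
            rw [comm_conj gw.eq, comm_conj gc.eq, hgb, hguv]
    -- `u b v t w = b w u b v t = ...`
    have e5 : (u * b * v * t) * w = b * (w * (u * b * v * t)) := by
      calc (u * b * v * t) * w = u * b * v * (t * w) := by group
        _ = u * b * v * (c * (w * t)) := by rw [htw']
        _ = u * b * (v * c) * (w * t) := by group
        _ = u * b * (c * v) * (w * t) := by rw [vc.eq]
        _ = u * b * c * (v * w) * t := by group
        _ = u * (b * c) * (w * v) * t := by rw [vw]; group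
        _ = u * ((b * c) * w) * v * t := by group
        _ = u * (w * (b * c)) * v * t := by rw [(wb.mul_right wc).eq]
        _ = (u * w) * (b * c) * v * t := by group
        _ = ((c * b) * (w * u)) * (b * c) * v * t := by rw [huw]
        _ = (c * b) * w * (u * b) * (c * v) * t := by group
        _ = (c * b) * w * (u * b) * (v * c) * t := by rw [vc.eq]
        _ = (c * b) * w * (u * b * v) * (c * t) := by group
        _ = (c * b) * w * (u * b * v) * (t * c) := by rw [tc.eq]
        _ = (c * b) * ((w * (u * b * v * t)) * c) := by group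
        _ = (c * b) * (c * (w * (u * b * v * t))) := by
            have q1 : Commute (w * (u * b * v * t)) c :=
              wc.mul_left (((uc.mul_left bc).mul_left vc).mul_left tc)
            rw [q1.eq]
        _ = c * (b * c) * (w * (u * b * v * t)) := by group
        _ = c * (c * b) * (w * (u * b * v * t)) := by rw [bc.eq]
        _ = (c * c) * b * (w * (u * b * v * t)) := by group
        _ = _ := by rw [hcc, one_mul]
    have e6 : c * (b * a) = b := mul_right_cancel (e4.symm.trans e5)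
    have e7 : c = a := by
      have e8 : b * (c * a) = b * 1 := by
        calc b * (c * a) = (b * c) * a := by group
          _ = (c * b) * a := by rw [bc.eq]
          _ = c * (b * a) := by group
          _ = b * 1 := by rw [e6, mul_one]
      have e9 : c * a = 1 := mul_left_cancel e8
      calc c = c * (a * a) := by rw [haa, mul_one]
        _ = (c * a) * a := by group
        _ = a := by rw [e9, one_mul]
    exact hc1 (disj h T'' hc (by rw [e7]; exact haX))

/-- `[W r, W s] = 1`, and `g u g⁻¹ ∈ u W r` for `g ∈ X (r - s)`. -/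
theorem form' (h : PreY t B Φ X W Y) (h2 : Two B Φ X W) {r s : L} (T : Tri B Φ r s) {g u : G}
    (hg : g ∈ X (r - s)) (hg1 : g ≠ 1) (hu : u ∈ W s) (hu1 : bt t u ≠ 1) :
    ∃ v ∈ W r, bt t v ≠ 1 ∧ g * u * g⁻¹ = u * v ∧ u * v = v * u := by
  rcases form h h2 T hg hg1 hu hu1 with h3 | ⟨v, hv, hv1, h3, -⟩
  · exact h3
  · exfalso
    obtain ⟨m, hm, hmr, hms⟩ := h2.three r T.hr s T.hs T.rs
    exact kill h h2 T (Tri.of h hm T.hs hms) (Tri.of h hm T.hr hmr) hg hu hu1 hv hv1 h3 hg1

theorem one (h : PreY t B Φ X W Y) (h2 : Two B Φ X W) {r s : L} (T : Tri B Φ r s) {v w : G}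
    (hv : v ∈ W r) (hw : w ∈ W s) : v * w = w * v := by
  obtain ⟨g, hg, hg1⟩ := exists_ne h T.hd
  by_cases hw1 : bt t w = 1
  · exact h.WX r T.hr s T.hs (by rw [T.sr]; norm_num) v hv w (mem_X_of_bt h T.hs hw hw1)
  · obtain ⟨v', hv', hv1', -, h4⟩ := form' h h2 T hg hg1 hw hw1
    rcases W_cases h h2 T.hr hv' hv1' hv with h5 | ⟨x, hx, rfl⟩
    · exact (h.WX s T.hs r T.hr (by rw [T.rs]; norm_num) w hw v h5).symm
    · have c1 : Commute w v' := h4
      have c2 : Commute w x := h.WX s T.hs r T.hr (by rw [T.rs]; norm_num) w hw x hx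
      exact (c1.mul_right c2).symm.eq

/-- the intermediate facts for `q = 2` -/
theorem ax (h : PreY t B Φ X W Y) (h2 : Two B Φ X W) : Ax t B Φ X W Y where
  h := h
  one := fun r hr s hs hrs v hv w hw => one h h2 (Tri.of h hr hs hrs) hv hw
  four := by
    intro a ha s hs has g hg u hu
    have hm := h.roots.add a ha s hs has
    have T := Tri.of h hm hs (by rw [h.roots.add_left, has, h.roots.two s hs]; norm_num)
    have e : a + s - s = a := by abel
    have hg' : g ∈ X (a + s - s) := by rw [e]; exact hg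
    by_cases hg1 : g = 1
    · exact ⟨1, one_mem _, by rw [hg1]; group⟩
    by_cases hu1 : bt t u = 1
    · have hux := mem_X_of_bt h hs hu hu1
      have h3 := conj_X h T hg' hux
      have hc : Commute (g * u * g⁻¹ * u⁻¹) u :=
        (h.WX s hs _ hm (by rw [T.rs]; norm_num) u hu _ h3).symm
      refine ⟨g * u * g⁻¹ * u⁻¹, h.XW _ hm h3, ?_⟩
      rw [← hc.eq]; group
    · obtain ⟨v, hv, -, h3, -⟩ := form' h h2 T hg' hg1 hu hu1
      exact ⟨v, hv, h3⟩
  sq := h2.sq

/-- **Doubling for `q = 2`**. -/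
theorem dbl_of_two' (h : PreY t B Φ X W Y) (h2 : Two B Φ X W) : Dbl t B Φ X W := dbl (ax h h2)

theorem dbl_of_two (h : Pre t B Φ X W) (h2 : Two B Φ X W) : Dbl t B Φ X W :=
  dbl_of_two' (of_pre h) h2

end Cfsg.Agent.OddHalf.SL.TwoDbl
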